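import Groth.Agent.Comod.Semisimple
import Groth.Prelude.Def_ComodSub
import Mathlib.LinearAlgebra.FiniteDimensional.Basic

/-!
# Moving between subcomodules and submodules over the dual algebra
-/

universe u v w w'
open TensorProduct
noncomputable section

namespace Groth.Agent.Comod

variable {K : Type u} [Field K] {C : Type v} [AddCommGroup C] [Module K C] [Coalgebra K C]
variable {V : Type w} [AddCommGroup V] [Module K V] [HopfRep.Comod K C V]

local notation "ρ" => HopfRep.Comod.coact (k := K) (A := C)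

lemma ofDSub_iSup {ι : Sort*} (S : ι → Submodule (CDual K C) V) :
    ofDSub (⨆ i, S i) = ⨆ i, ofDSub (S i) :=
  Submodule.restrictScalars_iSup K S

lemma ofDSub_inf (S T : Submodule (CDual K C) V) : ofDSub (S ⊓ T) = ofDSub S ⊓ ofDSub T :=
  Submodule.restrictScalars_inf K S T

lemma iSupIndep_ofDSub_iff {ι : Type*} (S : ι → Submodule (CDual K C) V) :
    iSupIndep (fun i => ofDSub (S i)) ↔ iSupIndep S := by
  simp only [iSupIndep, disjoint_iff, ← ofDSub_iSup, ← ofDSub_inf, ofDSub_eq_bot]

lemma ofDSub_subEquiv (W : Submodule K V) (hW : HopfRep.IsSubcomod (k := K) (A := C) W) :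
    ofDSub (subEquiv K C V ⟨W, hW⟩) = W := rfl

lemma minimal_iff {W : Submodule K V} (hW : HopfRep.IsSubcomod (k := K) (A := C) W) :
    (W ≠ ⊥ ∧ ∀ W' : Submodule K V, HopfRep.IsSubcomod (k := K) (A := C) W' → W' ≤ W →
      W' = ⊥ ∨ W' = W) ↔ IsSimpleModule (CDual K C) (subEquiv K C V ⟨W, hW⟩) := by
  rw [isSimpleModule_iff_isAtom]
  constructor
  · rintro ⟨h0, h⟩
    refine ⟨fun e => h0 ((ofDSub_subEquiv W hW).symm.trans (ofDSub_eq_bot.mpr e)), fun U hU => ?_⟩
    rcases h _ (isSubcomod_ofDSub U) hU.le with e | e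
    · exact ofDSub_eq_bot.mp e
    · exact absurd (ofDSub_injective (e.trans (ofDSub_subEquiv W hW).symm)) hU.ne
  · rintro ⟨h0, h⟩
    refine ⟨fun e => h0 (ofDSub_eq_bot.mp e), fun W' hW' hle => ?_⟩
    rcases (lt_or_eq_of_le (show subEquiv K C V ⟨W', hW'⟩ ≤ subEquiv K C V ⟨W, hW⟩ from hle)) with e | e
    · exact .inl (congrArg ofDSub (h _ e))
    · exact .inr (congrArg ofDSub e)

/-- Coefficient spaces of finite dimensional subspaces are finite dimensional. -/
lemma finite_cf (S : Submodule K V) [Module.Finite K S] : Module.Finite K (cf (C := C) S) := by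
  classical
  obtain ⟨t, ht⟩ : S.FG := (Submodule.fg_iff_finiteDimensional S).mpr inferInstance
  choose legs hlegs using fun v : V => TensorProduct.exists_finset (ρ v)
  let L : Submodule K C := Submodule.span K (↑(t.biUnion fun v => (legs v).image Prod.snd) : Set C)
  have : FiniteDimensional K L := FiniteDimensional.span_finset K _
  refine Submodule.finiteDimensional_of_le (S₂ := L) (cf_le_iff.mpr fun φ v hv => ?_)
  refine (?_ : S ≤ L.comap (cL φ ∘ₗ ρ)) hv
  rw [← ht, Submodule.span_le]
  intro x hx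
  show cL φ (ρ x) ∈ L
  rw [hlegs x, map_sum]
  refine L.sum_mem fun p hp => ?_
  rw [cL_tmul]
  exact L.smul_mem _ (Submodule.subset_span
    (Finset.mem_biUnion.mpr ⟨x, hx, Finset.mem_image_of_mem _ hp⟩))

/-- Every finite set lies in a finite dimensional subcomodule. -/
lemma exists_finite_subcomod_finset (s : Finset V) : ∃ S : Submodule (CDual K C) V,
    (∀ v ∈ s, v ∈ S) ∧ Module.Finite K (ofDSub S) := by
  choose S hS hfin using fun v : s => exists_finite_subcomod (K := K) (C := C) (v : V)
  refine ⟨⨆ v, S v, fun v hv => Submodule.mem_iSup_of_mem ⟨v, hv⟩ (hS ⟨v, hv⟩), ?_⟩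
  rw [ofDSub_iSup]
  exact Submodule.finite_iSup _

/-- Restriction to a subcomodule does not change the action. -/
lemma dact_restr {W : Submodule K V} (hW : HopfRep.IsSubcomod (k := K) (A := C) W) (f : CDual K C) (x : W) :
    letI := ComodSub.Comod.restr (inferInstance : HopfRep.Comod K C V) W hW
    ((dact K C W f x : W) : V) = dact K C V f x :=
  letI := ComodSub.Comod.restr (inferInstance : HopfRep.Comod K C V) W hW
  isComodHom_iff.mp (ComodSub.isComodHom_subtype _ W hW) f x

end Groth.Agent.Comod
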