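import Mathlib.RingTheory.HopfAlgebra.Convolution
import Mathlib.LinearAlgebra.Matrix.ToLin
import Mathlib.LinearAlgebra.Matrix.NonsingularInverse
import Mathlib.LinearAlgebra.TensorProduct.Basis
import Groth.Prelude.Def_HopfRep

/-!
# Corepresentations as matrices and averaging against an integral
-/

universe u v w
open TensorProduct Coalgebra Matrix

namespace Groth.Agent.Comod

variable {k : Type u} [CommRing k] {A : Type v} [CommRing A]

section Bialg
variable [Bialgebra k A] {n : Type*} [Fintype n] [DecidableEq n]

/-- A matrix corepresentation. -/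
structure IsCorep (M : Matrix n n A) : Prop where
  map_comul : M.map (Bialgebra.comulAlgHom k A) =
    M.map (Algebra.TensorProduct.includeLeft : A →ₐ[k] A ⊗[k] A) *
      M.map (Algebra.TensorProduct.includeRight : A →ₐ[k] A ⊗[k] A)
  map_counit : M.map (Bialgebra.counitAlgHom k A) = 1

/-- The scalar matrix inside the matrices over the algebra. -/
noncomputable abbrev sc (P : Matrix n n k) : Matrix n n A := P.map (algebraMap k A)

lemma map_sc_mul {B : Type*} [CommRing B] [Algebra k B] (f : A →ₗ[k] B) (P : Matrix n n k)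
    (X : Matrix n n A) : (sc P * X).map f = P.map (algebraMap k B) * X.map f := by
  ext i j
  simp [Matrix.mul_apply, ← Algebra.smul_def, map_sum]

lemma map_mul_sc {B : Type*} [CommRing B] [Algebra k B] (f : A →ₗ[k] B) (X : Matrix n n A)
    (P : Matrix n n k) : (X * sc P).map f = X.map f * P.map (algebraMap k B) := by
  ext i j
  simp [Matrix.mul_apply, mul_comm (X i _), mul_comm (f (X i _)), ← Algebra.smul_def, map_sum]

end Bialg

section Hopf
variable [HopfAlgebra k A] {n : Type*} [Fintype n] [DecidableEq n]

local notation "ι₁" => (Algebra.TensorProduct.includeLeft : A →ₐ[k] A ⊗[k] A)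
local notation "ι₂" => (Algebra.TensorProduct.includeRight : A →ₐ[k] A ⊗[k] A)
local notation "Sₐ" => HopfAlgebra.antipodeAlgHom k A

variable {M : Matrix n n A}

lemma IsCorep.antipode_mul (hM : IsCorep (k := k) M) : M.map Sₐ * M = 1 := by
  ext i j
  have h := congr(LinearMap.mul' k A (LinearMap.rTensor A (HopfAlgebra.antipode k)
    ($(hM.map_comul) i j)))
  have hε := congr(algebraMap k A ($(hM.map_counit) i j))
  simp only [Matrix.map_apply, Bialgebra.comulAlgHom_apply, Bialgebra.counitAlgHom_apply,
    HopfAlgebra.mul_antipode_rTensor_comul_apply] at h hε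
  rw [hε] at h
  simpa [Matrix.mul_apply, Matrix.one_apply, map_sum, apply_ite] using h.symm

lemma IsCorep.mul_antipode (hM : IsCorep (k := k) M) : M * M.map Sₐ = 1 :=
  mul_eq_one_comm.mp hM.antipode_mul

/-- The transposed inverse of a corepresentation. -/
lemma IsCorep.dual (hM : IsCorep (k := k) M) : IsCorep (k := k) (M.map Sₐ)ᵀ := by
  constructor
  · simp only [Matrix.transpose_map]
    rw [← Matrix.transpose_mul]
    congr 1
    refine (left_inv_eq_right_inv (a := M.map (Bialgebra.comulAlgHom k A)) ?_ ?_)
    · rw [← Matrix.map_mul, hM.antipode_mul, Matrix.map_one _ (map_zero _) (map_one _)]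
    · rw [hM.map_comul, Matrix.mul_assoc, ← Matrix.mul_assoc (M.map ι₂), ← Matrix.map_mul,
        hM.mul_antipode, Matrix.map_one _ (map_zero _) (map_one _), Matrix.one_mul, ← Matrix.map_mul,
        hM.mul_antipode, Matrix.map_one _ (map_zero _) (map_one _)]
  · simp only [Matrix.transpose_map, Matrix.map_map]
    have : (Bialgebra.counitAlgHom k A : A → k) ∘ Sₐ = Bialgebra.counitAlgHom k A :=
      funext fun a => congr($(AlgHom.counitAlgHom_comp_antipodeAlgHom) a)
    rw [this, hM.map_counit, Matrix.transpose_one]

/-- Averaging a scalar matrix against a linear form. -/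
noncomputable def avg (l : A →ₗ[k] k) (M : Matrix n n A) (P : Matrix n n k) : Matrix n n k :=
  (M * sc P * M.map Sₐ).map l

variable {l : A →ₗ[k] k}

lemma contract_includeLeft_mul (a : A) (t : A ⊗[k] A) :
    TensorProduct.rid k A (l.lTensor A (ι₁ a * t)) = a * TensorProduct.rid k A (l.lTensor A t) := by
  induction t using TensorProduct.induction_on with
  | zero => simp
  | tmul x y => simp
  | add x y hx hy => simp only [mul_add, map_add, hx, hy]

/-- Contraction of the second factor of a matrix over `A ⊗ A`. -/
noncomputable abbrev contract (l : A →ₗ[k] k) : A ⊗[k] A →ₗ[k] A :=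
  (TensorProduct.rid k A).toLinearMap ∘ₗ l.lTensor A

lemma contract_left_mul (X : Matrix n n A) (Y : Matrix n n (A ⊗[k] A)) :
    (X.map ι₁ * Y).map (contract l) = X * Y.map (contract l) := by
  ext i j
  simp only [Matrix.map_apply, Matrix.mul_apply, LinearMap.coe_comp, LinearEquiv.coe_coe,
    Function.comp_apply, map_sum, contract_includeLeft_mul]

lemma contract_mul_left (X : Matrix n n A) (Y : Matrix n n (A ⊗[k] A)) :
    (Y * X.map ι₁).map (contract l) = Y.map (contract l) * X := by
  ext i j
  simp only [Matrix.map_apply, Matrix.mul_apply, LinearMap.coe_comp, LinearEquiv.coe_coe,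
    Function.comp_apply, map_sum, mul_comm (Y i _), mul_comm _ (X _ j), contract_includeLeft_mul]

lemma contract_right (X : Matrix n n A) :
    (X.map ι₂).map (contract l) = sc (X.map l) := by
  ext i j
  simp [Algebra.algebraMap_eq_smul_one]

lemma sc_map {B : Type*} [CommRing B] [Algebra k B] (f : A →ₐ[k] B) (P : Matrix n n k) :
    (sc P).map f = P.map (algebraMap k B) := by
  ext i j; simp

/-- Averages are equivariant. -/
lemma avg_comm (hM : IsCorep (k := k) M)
    (hl : ∀ a, TensorProduct.rid k A (l.lTensor A (comul a)) = algebraMap k A (l a))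
    (P : Matrix n n k) : sc (avg l M P) * M = M * sc (avg l M P) := by
  have hΔ : (M * sc P * M.map Sₐ).map (Bialgebra.comulAlgHom k A) =
      M.map ι₁ * ((M * sc P * M.map Sₐ).map ι₂) * (M.map Sₐ).map ι₁ := by
    have hinv : (M.map Sₐ).map (Bialgebra.comulAlgHom k A) =
        (M.map Sₐ).map ι₂ * (M.map Sₐ).map ι₁ := by
      refine left_inv_eq_right_inv (a := M.map (Bialgebra.comulAlgHom k A)) ?_ ?_
      · rw [← Matrix.map_mul, hM.antipode_mul, Matrix.map_one _ (map_zero _) (map_one _)]
      · rw [hM.map_comul, Matrix.mul_assoc, ← Matrix.mul_assoc (M.map ι₂), ← Matrix.map_mul,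
          hM.mul_antipode, Matrix.map_one _ (map_zero _) (map_one _), Matrix.one_mul, ← Matrix.map_mul,
          hM.mul_antipode, Matrix.map_one _ (map_zero _) (map_one _)]
    simp only [Matrix.map_mul, sc_map, hinv, hM.map_comul, Matrix.mul_assoc]
  have key : sc (avg l M P) = M * sc (avg l M P) * M.map Sₐ := by
    conv_rhs => rw [avg, ← contract_right, ← contract_left_mul, ← contract_mul_left, ← hΔ]
    ext i j
    exact (hl _).symm
  conv_lhs => rw [key, Matrix.mul_assoc, hM.antipode_mul, Matrix.mul_one]

/-- Averages keep commutation with a second corepresentation. -/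
lemma avg_comm_of_commute {R : Matrix n n A} (hMS : R.map ι₁ * M.map ι₂ = M.map ι₂ * R.map ι₁)
    (hMS' : R.map ι₁ * (M.map Sₐ).map ι₂ = (M.map Sₐ).map ι₂ * R.map ι₁) {P : Matrix n n k}
    (hP : sc P * R = R * sc P) : sc (avg l M P) * R = R * sc (avg l M P) := by
  have hP' : (sc P).map ι₂ * R.map ι₁ = R.map ι₁ * (sc P).map ι₂ := by
    rw [sc_map, ← sc_map ι₁, ← Matrix.map_mul, hP, Matrix.map_mul]
  conv_lhs => rw [avg, ← contract_right, ← contract_mul_left]
  conv_rhs => rw [avg, ← contract_right, ← contract_left_mul]
  congr 1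
  simp only [Matrix.map_mul]
  rw [Matrix.mul_assoc, ← hMS', ← Matrix.mul_assoc, Matrix.mul_assoc _ ((sc P).map ι₂), hP',
    ← Matrix.mul_assoc, ← hMS]
  simp only [Matrix.mul_assoc]

lemma sc_mul_sc (P Q : Matrix n n k) : (sc P * sc Q : Matrix n n A) = sc (P * Q) :=
  (Matrix.map_mul (f := algebraMap k A)).symm

lemma stable_antipode {E : Matrix n n k} {X : Matrix n n A}
    (h : sc E * X * sc E = X * sc E) :
    sc E * X.map Sₐ * sc E = X.map Sₐ * sc E := by
  have := congr(($h).map Sₐ)
  simpa only [Matrix.map_mul, sc_map] using this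

/-- Averages land in a stable image. -/
lemma avg_left {E P : Matrix n n k} (hE : sc E * M * sc E = M * sc E) (hP : E * P = P) :
    E * avg l M P = avg l M P := by
  have h : sc E * (M * sc P * M.map Sₐ) = M * sc P * M.map Sₐ := by
    rw [← hP, ← sc_mul_sc, ← Matrix.mul_assoc, ← Matrix.mul_assoc, ← Matrix.mul_assoc, ← Matrix.mul_assoc,
      hE]
  conv_rhs => rw [avg, ← h, map_sc_mul]
  simp [avg]

/-- Averages fix a stable image. -/
lemma avg_right (hM : IsCorep (k := k) M) (h1 : l 1 = 1) {E P : Matrix n n k}
    (hE : sc E * M * sc E = M * sc E) (hP : P * E = E) : avg l M P * E = E := by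
  have h : M * sc P * M.map Sₐ * sc E = sc E := by
    rw [Matrix.mul_assoc, ← stable_antipode hE, ← Matrix.mul_assoc, ← Matrix.mul_assoc,
      Matrix.mul_assoc M (sc P), sc_mul_sc, hP, Matrix.mul_assoc M, Matrix.mul_assoc M,
      stable_antipode hE, ← Matrix.mul_assoc, hM.mul_antipode, Matrix.one_mul]
  conv_rhs => rw [show E = (sc E : Matrix n n A).map l by
    ext i j; simp [Algebra.algebraMap_eq_smul_one, h1], ← h, map_mul_sc]
  simp [avg]

end Hopf

section Basis
variable [Bialgebra k A] {V : Type w} [AddCommGroup V] [Module k V] {n : Type*}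
  [Fintype n] [DecidableEq n] (b : Module.Basis n k V)

/-- Coordinates of `V ⊗ A` in a basis of `V`. -/
noncomputable def coordLeft (i : n) : V ⊗[k] A →ₗ[k] A :=
  (TensorProduct.lid k A).toLinearMap ∘ₗ (b.coord i).rTensor A

lemma sum_coordLeft (t : V ⊗[k] A) : ∑ i, b i ⊗ₜ[k] coordLeft b i t = t := by
  induction t using TensorProduct.induction_on with
  | zero => simp
  | tmul x y =>
    simp only [coordLeft, LinearMap.coe_comp, LinearEquiv.coe_coe, Function.comp_apply,
      LinearMap.rTensor_tmul, TensorProduct.lid_tmul, Module.Basis.coord_apply, ← TensorProduct.smul_tmul,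
      ← TensorProduct.sum_tmul, b.sum_repr]
  | add x y hx hy => simp only [map_add, tmul_add, Finset.sum_add_distrib, hx, hy]

lemma coordLeft_ext {s t : V ⊗[k] A} (h : ∀ i, coordLeft b i s = coordLeft b i t) : s = t := by
  rw [← sum_coordLeft b s, ← sum_coordLeft b t]
  simp only [h]

variable [HopfRep.Comod k A V]

/-- The matrix of a comodule in a basis. -/
noncomputable def coMatrix : Matrix n n A :=
  .of fun i j => coordLeft b i (HopfRep.Comod.coact (k := k) (A := A) (b j))

lemma coact_basis (j : n) :
    HopfRep.Comod.coact (k := k) (A := A) (b j) = ∑ i, b i ⊗ₜ[k] coMatrix (A := A) b i j :=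
  (sum_coordLeft b _).symm

lemma isCorep_coMatrix : IsCorep (k := k) (coMatrix (A := A) b) := by
  constructor
  · ext i j
    have h := congr(($(HopfRep.Comod.coassoc (k := k) (A := A) (V := V))) (b j))
    simp only [LinearMap.coe_comp, LinearEquiv.coe_coe, Function.comp_apply, coact_basis b, map_sum,
      LinearMap.rTensor_tmul, LinearMap.lTensor_tmul, TensorProduct.sum_tmul,
      TensorProduct.assoc_tmul] at h
    have h2 := congr(TensorProduct.lid k (A ⊗[k] A) ((b.coord i).rTensor (A ⊗[k] A) $h))
    simp only [map_sum, LinearMap.rTensor_tmul, TensorProduct.lid_tmul, Module.Basis.coord_apply,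
      Module.Basis.repr_self, Finsupp.single_apply, ite_smul, one_smul, zero_smul,
      Finset.sum_ite_eq', Finset.mem_univ, if_true] at h2
    simpa [Matrix.mul_apply] using h2.symm
  · ext i j
    have h := congr(($(HopfRep.Comod.counit_comp (k := k) (A := A) (V := V))) (b j))
    simp only [LinearMap.coe_comp, Function.comp_apply, coact_basis b, map_sum, LinearMap.lTensor_tmul,
      LinearMap.flip_apply, TensorProduct.mk_apply] at h
    have h2 := congr(TensorProduct.lid k k ((b.coord i).rTensor k $h))
    simpa [Finsupp.single_apply, Matrix.one_apply, eq_comm] using h2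

lemma coordLeft_map_matrix (E : Matrix n n k) (t : V ⊗[k] A) (a : n) :
    coordLeft b a ((Matrix.toLin b b E).rTensor A t) =
      ∑ i, algebraMap k A (E a i) * coordLeft b i t := by
  induction t using TensorProduct.induction_on with
  | zero => simp
  | tmul x y =>
    simp [coordLeft, ← Algebra.smul_def, smul_smul, ← Finset.sum_smul, Matrix.mulVec, dotProduct,
      Matrix.toLin_apply, Finsupp.single_apply]
    congr 1
    exact Finset.sum_congr rfl fun i _ => mul_comm _ _
  | add x y hx hy => simp only [map_add, hx, hy, mul_add, Finset.sum_add_distrib]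

/-- Stability of the image of a projection in terms of the matrix. -/
lemma stable_iff (E : Matrix n n k) :
    (∀ x, (Matrix.toLin b b E).rTensor A (HopfRep.Comod.coact (k := k) (A := A) (Matrix.toLin b b E x)) =
      HopfRep.Comod.coact (k := k) (A := A) (Matrix.toLin b b E x)) ↔
    sc E * coMatrix (A := A) b * sc E = coMatrix (A := A) b * sc E := by
  have hc : ∀ a j, coordLeft b a (HopfRep.Comod.coact (k := k) (A := A) (Matrix.toLin b b E (b j))) =
      (coMatrix (A := A) b * (sc E : Matrix n n A) : Matrix n n A) a j := fun a j => by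
    simp [Matrix.toLin_self, map_sum, Matrix.mul_apply, coMatrix, Algebra.smul_def, mul_comm]
  constructor
  · intro h
    ext a j
    rw [Matrix.mul_assoc, Matrix.mul_apply]
    have := congr(coordLeft b a $(h (b j)))
    rw [coordLeft_map_matrix, hc] at this
    simpa only [hc, Matrix.map_apply] using this
  · intro h
    refine fun x => LinearMap.congr_fun (f := (Matrix.toLin b b E).rTensor A ∘ₗ
      HopfRep.Comod.coact (k := k) (A := A) ∘ₗ Matrix.toLin b b E)
      (g := HopfRep.Comod.coact (k := k) (A := A) ∘ₗ Matrix.toLin b b E)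
      (b.ext fun j => coordLeft_ext b fun a => ?_) x
    simp only [LinearMap.comp_apply, coordLeft_map_matrix, hc]
    conv_rhs => rw [← h, Matrix.mul_assoc, Matrix.mul_apply]
    simp only [Matrix.map_apply]

end Basis

end Groth.Agent.Comod
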