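import Groth.Agent.Comod.Corep
import Mathlib.RingTheory.Trace.Basic
import Mathlib.RingTheory.TensorProduct.Free
import Mathlib.RingTheory.Finiteness.Basic
import Mathlib.LinearAlgebra.Projection
import Mathlib.LinearAlgebra.Basis.VectorSpace
import Mathlib.LinearAlgebra.FiniteDimensional.Lemmas
import Mathlib.Order.SupIndep
import Mathlib.Algebra.CharP.Defs

/-!
# Integrals on finite Hopf algebras and complements of subcoalgebras
-/

universe u v w
open TensorProduct Coalgebra Matrix

namespace Groth.Agent.Comod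

section Integral
variable {k : Type u} [CommRing k] {A : Type v} [CommRing A] [HopfAlgebra k A]

local notation "ι₁" => (Algebra.TensorProduct.includeLeft : A →ₐ[k] A ⊗[k] A)
local notation "ι₂" => (Algebra.TensorProduct.includeRight : A →ₐ[k] A ⊗[k] A)

lemma toConv_comul_eq : WithConv.toConv (Bialgebra.comulAlgHom k A) =
    WithConv.toConv ι₁ * WithConv.toConv ι₂ := by
  refine WithConv.ext (AlgHom.ext fun a => ?_)
  simp only [AlgHom.convMul_def, WithConv.ofConv_toConv, AlgHom.comp_apply, Bialgebra.comulAlgHom_apply]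
  generalize comul (R := k) a = t
  induction t using TensorProduct.induction_on with
  | zero => simp
  | tmul x y => simp
  | add x y hx hy => simp only [map_add, ← hx, ← hy]

/-- The shear automorphism `a ⊗ b ↦ a b₁ ⊗ b₂`. -/
noncomputable def shearAlg : A ⊗[k] A ≃ₐ[A] A ⊗[k] A := by
  let inv₁ : WithConv (A →ₐ[k] A ⊗[k] A) :=
    WithConv.toConv ((ι₁).comp (HopfAlgebra.antipodeAlgHom k A))
  let F : A ⊗[k] A →ₐ[A] A ⊗[k] A := Algebra.TensorProduct.lift (Algebra.ofId A _)
    (Bialgebra.comulAlgHom k A) fun _ _ => .all _ _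
  let G : A ⊗[k] A →ₐ[A] A ⊗[k] A := Algebra.TensorProduct.lift (Algebra.ofId A _)
    (inv₁ * WithConv.toConv ι₂).ofConv fun _ _ => .all _ _
  have hF₁ : (F.restrictScalars k).comp ι₁ = ι₁ := AlgHom.ext fun a => by simp [F]
  have hG₁ : (G.restrictScalars k).comp ι₁ = ι₁ := AlgHom.ext fun a => by
    simp [G, Algebra.TensorProduct.algebraMap_apply]
  have hinv : inv₁ * WithConv.toConv ι₁ = 1 := by
    refine WithConv.ext ?_
    have := congr_arg (fun z => (ι₁).comp (WithConv.ofConv z)) (AlgHom.antipode_id_cancel (R := k) (A := A))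
    simp only [AlgHom.comp_convMul_distrib, WithConv.ofConv_toConv, AlgHom.comp_id] at this
    rw [this]
    exact AlgHom.ext fun a => by simp [AlgHom.convOne_def, Algebra.TensorProduct.algebraMap_apply]
  have hinv' : WithConv.toConv ι₁ * inv₁ = 1 := by
    refine WithConv.ext ?_
    have := congr_arg (fun z => (ι₁).comp (WithConv.ofConv z))
      (mul_inv_cancel (WithConv.toConv (AlgHom.id k A)))
    simp only [AlgHom.comp_convMul_distrib, WithConv.ofConv_toConv] at this
    refine Eq.trans ?_ (this.trans ?_)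
    · rfl
    · exact AlgHom.ext fun a => by simp [AlgHom.convOne_def, Algebra.TensorProduct.algebraMap_apply]
  refine AlgEquiv.ofAlgHom F G ?_ ?_
  · refine Algebra.TensorProduct.ext (Subsingleton.elim _ _) ?_
    have h : (F.restrictScalars k).comp (inv₁ * WithConv.toConv ι₂).ofConv = ι₂ := by
      rw [AlgHom.comp_convMul_distrib]
      have h1 : (F.restrictScalars k).comp inv₁.ofConv = inv₁.ofConv := by
        simp only [inv₁, WithConv.ofConv_toConv, ← AlgHom.comp_assoc, hF₁]
      have h2 : (F.restrictScalars k).comp ι₂ = Bialgebra.comulAlgHom k A :=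
        AlgHom.ext fun a => by simp [F]
      rw [h1, WithConv.ofConv_toConv, h2, WithConv.toConv_ofConv, toConv_comul_eq, ← mul_assoc, hinv,
        one_mul, WithConv.ofConv_toConv]
    refine AlgHom.ext fun a => ?_
    simpa [G, ← Algebra.TensorProduct.one_def] using congr($h a)
  · refine Algebra.TensorProduct.ext (Subsingleton.elim _ _) ?_
    have h : (G.restrictScalars k).comp (Bialgebra.comulAlgHom k A) = ι₂ := by
      rw [← WithConv.ofConv_toConv (Bialgebra.comulAlgHom k A), toConv_comul_eq,
        AlgHom.comp_convMul_distrib, WithConv.ofConv_toConv, hG₁,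
        show (G.restrictScalars k).comp ι₂ = (inv₁ * WithConv.toConv ι₂).ofConv from
          AlgHom.ext fun a => by simp [G], WithConv.toConv_ofConv, ← mul_assoc, hinv', one_mul,
        WithConv.ofConv_toConv]
    refine AlgHom.ext fun a => ?_
    simpa [F, ← Algebra.TensorProduct.one_def] using congr($h a)

lemma shearAlg_tmul (a : A) : shearAlg (k := k) ((1 : A) ⊗ₜ[k] a) = comul a := by
  simp [shearAlg, ← Algebra.TensorProduct.one_def]

lemma trace_tensor_eq [Module.Free k A] [Module.Finite k A] (t : A ⊗[k] A) :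
    Algebra.trace A (A ⊗[k] A) t = TensorProduct.rid k A ((Algebra.trace k A).lTensor A t) := by
  induction t using TensorProduct.induction_on with
  | zero => simp
  | add x y hx hy => simp only [map_add, hx, hy]
  | tmul y z =>
    have : Algebra.lmul A (A ⊗[k] A) (y ⊗ₜ[k] z) = y • (Algebra.lmul k A z).baseChange A := by
      refine TensorProduct.AlgebraTensorModule.ext fun a b => ?_
      simp [TensorProduct.smul_tmul']
    rw [Algebra.trace_apply, this, map_smul, LinearMap.trace_baseChange]
    simp [Algebra.trace_apply, Algebra.smul_def, mul_comm]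

/-- The trace form is a right invariant integral. -/
theorem trace_integral [Module.Free k A] [Module.Finite k A] (a : A) :
    TensorProduct.rid k A ((Algebra.trace k A).lTensor A (comul a)) =
      algebraMap k A (Algebra.trace k A a) := by
  rw [← trace_tensor_eq, ← shearAlg_tmul, Algebra.trace_eq_of_algEquiv, trace_tensor_eq]
  simp [Algebra.smul_def]

end Integral

section Lattice
variable {α : Type*} [Lattice α] [OrderBot α] [IsModularLattice α]

lemma supIndep_union_of_disjoint [DecidableEq α] {s t : Finset α} (hs : s.SupIndep id)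
    (ht : t.SupIndep id) (h : Disjoint (s.sup id) (t.sup id)) : (s ∪ t).SupIndep id := by
  rw [Finset.supIndep_iff_disjoint_erase]
  intro B hB
  have key : ∀ {s t : Finset α}, s.SupIndep id → Disjoint (s.sup id) (t.sup id) → B ∈ s →
      Disjoint (id B) (((s ∪ t).erase B).sup id) := by
    intro s t hs h hB
    refine Disjoint.mono_right (c := (s.erase B).sup id ⊔ t.sup id) ?_ ?_
    · refine (Finset.sup_mono ?_).trans (Finset.sup_union (f := id)).le
      intro x hx
      simp only [Finset.mem_erase, Finset.mem_union] at hx ⊢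
      tauto
    · refine Disjoint.disjoint_sup_right_of_disjoint_sup_left
        (Finset.supIndep_iff_disjoint_erase.mp hs B hB) (h.mono_left ?_)
      exact sup_le (Finset.le_sup (f := id) hB) (Finset.sup_mono (Finset.erase_subset _ _))
  rcases Finset.mem_union.mp hB with hB | hB
  · exact key hs h hB
  · rw [Finset.union_comm]; exact key ht h.symm hB

end Lattice

section Subcoalgebra
variable {k : Type u} [Field k] {A : Type v} [CommRing A] [HopfAlgebra k A] [Module.Finite k A]

/-- A subcoalgebra. -/
def IsSubcoalg (D : Submodule k A) : Prop :=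
  ∀ b ∈ D, comul (R := k) b ∈ LinearMap.range (TensorProduct.map D.subtype D.subtype)

lemma isSubcoalg_iff_proj {D : Submodule k A} {T : A →ₗ[k] A} (h1 : ∀ x, T x ∈ D)
    (h2 : ∀ x ∈ D, T x = x) :
    IsSubcoalg D ↔ (∀ x, T.rTensor A (comul (T x)) = comul (T x)) ∧
      (∀ x, T.lTensor A (comul (T x)) = comul (T x)) := by
  refine ⟨fun h => ⟨fun x => ?_, fun x => ?_⟩, fun h b hb => ?_⟩
  · obtain ⟨s, hs⟩ := h _ (h1 x)
    rw [← hs]
    clear hs
    induction s using TensorProduct.induction_on with
    | zero => simp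
    | tmul p q => simp [h2 _ p.2]
    | add p q hp hq => simp only [map_add, hp, hq]
  · obtain ⟨s, hs⟩ := h _ (h1 x)
    rw [← hs]
    clear hs
    induction s using TensorProduct.induction_on with
    | zero => simp
    | tmul p q => simp [h2 _ q.2]
    | add p q hp hq => simp only [map_add, hp, hq]
  · rw [← h2 b hb, ← h.1, ← h.2, ← LinearMap.comp_apply, LinearMap.rTensor_comp_lTensor]
    have : TensorProduct.map T T = TensorProduct.map D.subtype D.subtype ∘ₗ
        TensorProduct.map (T.codRestrict D h1) (T.codRestrict D h1) := by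
      rw [← TensorProduct.map_comp, LinearMap.subtype_comp_codRestrict]
    rw [this]
    exact LinearMap.mem_range_self _ _

variable {n : Type*} [Fintype n] [DecidableEq n] (b : Module.Basis n k A)

/-- The matrix of the left regular coaction. -/
noncomputable def leftMatrix : Matrix n n A :=
  .of fun i j => TensorProduct.rid k A ((b.coord j).lTensor A (comul (b i)))

lemma sum_coordRight (t : A ⊗[k] A) :
    ∑ i, TensorProduct.rid k A ((b.coord i).lTensor A t) ⊗ₜ[k] b i = t := by
  induction t using TensorProduct.induction_on with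
  | zero => simp
  | tmul x y =>
    simp only [LinearMap.lTensor_tmul, TensorProduct.rid_tmul, TensorProduct.smul_tmul,
      ← TensorProduct.tmul_sum, Module.Basis.coord_apply, b.sum_repr]
  | add x y hx hy => simp only [map_add, add_tmul, Finset.sum_add_distrib, hx, hy]

lemma coordRight_ext {s t : A ⊗[k] A} (h : ∀ i, TensorProduct.rid k A ((b.coord i).lTensor A s) =
    TensorProduct.rid k A ((b.coord i).lTensor A t)) : s = t := by
  rw [← sum_coordRight b s, ← sum_coordRight b t]
  simp only [h]

lemma comul_basis (j : n) : comul (R := k) (b j) = ∑ i, leftMatrix b j i ⊗ₜ[k] b i :=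
  (sum_coordRight b _).symm

lemma isCorep_leftMatrix : IsCorep (k := k) (leftMatrix b) := by
  constructor
  · ext j l
    have h := Coalgebra.coassoc_apply (R := k) (b j)
    simp only [comul_basis b, map_sum, LinearMap.rTensor_tmul, LinearMap.lTensor_tmul,
      TensorProduct.tmul_sum, TensorProduct.assoc_tmul] at h
    have h2 := congr(TensorProduct.rid k (A ⊗[k] A)
      ((b.coord l).lTensor (A ⊗[k] A) ((TensorProduct.assoc k A A A).symm $h)))
    simp only [map_sum, LinearEquiv.symm_apply_apply, LinearMap.lTensor_tmul, TensorProduct.rid_tmul,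
      TensorProduct.assoc_symm_tmul, Module.Basis.coord_apply, Module.Basis.repr_self,
      Finsupp.single_apply, ite_smul, one_smul, zero_smul, Finset.sum_ite_eq', Finset.mem_univ,
      if_true] at h2
    simpa [Matrix.mul_apply] using h2
  · ext j l
    have h := Coalgebra.rTensor_counit_comul (R := k) (b j)
    simp only [comul_basis b, map_sum, LinearMap.rTensor_tmul] at h
    have h2 := congr(TensorProduct.rid k k ((b.coord l).lTensor k $h))
    simpa [Finsupp.single_apply, Matrix.one_apply, eq_comm] using h2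

lemma coordRight_map_matrix (E : Matrix n n k) (t : A ⊗[k] A) (a : n) :
    TensorProduct.rid k A ((b.coord a).lTensor A ((Matrix.toLin b b E).lTensor A t)) =
      ∑ i, algebraMap k A (E a i) * TensorProduct.rid k A ((b.coord i).lTensor A t) := by
  induction t using TensorProduct.induction_on with
  | zero => simp
  | tmul x y =>
    simp [← Algebra.smul_def, smul_smul, ← Finset.sum_smul, Matrix.mulVec, dotProduct,
      Matrix.toLin_apply, Finsupp.single_apply]
    congr 1
    exact Finset.sum_congr rfl fun i _ => mul_comm _ _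
  | add x y hx hy => simp only [map_add, hx, hy, mul_add, Finset.sum_add_distrib]

lemma stable_right_iff (E : Matrix n n k) :
    (∀ x, (Matrix.toLin b b E).lTensor A (comul (Matrix.toLin b b E x)) =
      comul (Matrix.toLin b b E x)) ↔
    sc E * (leftMatrix b)ᵀ * sc E = (leftMatrix b)ᵀ * sc E := by
  have hc : ∀ a j, TensorProduct.rid k A ((b.coord a).lTensor A (comul (Matrix.toLin b b E (b j)))) =
      ((leftMatrix b)ᵀ * (sc E : Matrix n n A) : Matrix n n A) a j := fun a j => by
    simp only [Matrix.toLin_self, map_sum, map_smul, Matrix.mul_apply]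
    exact Finset.sum_congr rfl fun i _ => by simp [leftMatrix, Algebra.smul_def, mul_comm]
  constructor
  · intro h
    ext a j
    rw [Matrix.mul_assoc, Matrix.mul_apply]
    have := congr(TensorProduct.rid k A ((b.coord a).lTensor A $(h (b j))))
    rw [coordRight_map_matrix, hc] at this
    simpa only [hc, Matrix.map_apply] using this
  · intro h
    refine fun x => LinearMap.congr_fun (f := (Matrix.toLin b b E).lTensor A ∘ₗ
      comul ∘ₗ Matrix.toLin b b E) (g := comul ∘ₗ Matrix.toLin b b E)
      (b.ext fun j => coordRight_ext b fun a => ?_) x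
    simp only [LinearMap.comp_apply, coordRight_map_matrix, hc]
    conv_rhs => rw [← h, Matrix.mul_assoc, Matrix.mul_apply]
    simp only [Matrix.map_apply]

lemma regular_commute :
    ((leftMatrix b)ᵀ).map (Algebra.TensorProduct.includeLeft : A →ₐ[k] A ⊗[k] A) *
      (coMatrix (A := A) b).map (Algebra.TensorProduct.includeRight : A →ₐ[k] A ⊗[k] A) =
    (coMatrix (A := A) b).map (Algebra.TensorProduct.includeRight : A →ₐ[k] A ⊗[k] A) *
      ((leftMatrix b)ᵀ).map (Algebra.TensorProduct.includeLeft : A →ₐ[k] A ⊗[k] A) := by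
  ext a j
  have h := Coalgebra.coassoc_apply (R := k) (b j)
  have hR : ∀ i, comul (R := k) (b i) = ∑ a, b a ⊗ₜ[k] coMatrix (A := A) b a i :=
    coact_basis (A := A) b
  nth_rewrite 1 [hR j] at h
  nth_rewrite 1 [comul_basis b j] at h
  simp only [map_sum, LinearMap.rTensor_tmul, LinearMap.lTensor_tmul] at h
  have hL : ∀ (i : n) (y : A), LinearMap.lTensor A ((TensorProduct.lid k A).toLinearMap ∘ₗ
      (b.coord a).rTensor A) (TensorProduct.assoc k A A A (comul (b i) ⊗ₜ[k] y)) =
      leftMatrix b i a ⊗ₜ[k] y := by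
    intro i y
    simp [comul_basis b i, TensorProduct.sum_tmul, map_sum, Finsupp.single_apply, TensorProduct.tmul_ite]
  have h2 := congr(LinearMap.lTensor A ((TensorProduct.lid k A).toLinearMap ∘ₗ
      (b.coord a).rTensor A) $h)
  simp only [map_sum, LinearMap.lTensor_tmul, LinearMap.coe_comp, LinearEquiv.coe_coe,
    Function.comp_apply] at h2
  simp only [hL] at h2
  simp only [hR, map_sum, LinearMap.rTensor_tmul, TensorProduct.lid_tmul, Module.Basis.coord_apply,
    Module.Basis.repr_self, Finsupp.single_apply, ite_smul, one_smul, zero_smul, Finset.sum_ite_eq',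
    Finset.mem_univ, if_true] at h2
  simpa [Matrix.mul_apply, mul_comm] using h2

omit b in
/-- Subcoalgebras split off when a normalised integral exists. -/
theorem exists_isCompl_subcoalg {l : A →ₗ[k] k} (h1 : l 1 = 1)
    (hl : ∀ a, TensorProduct.rid k A (l.lTensor A (comul a)) = algebraMap k A (l a))
    {D : Submodule k A} (hD : IsSubcoalg D) :
    ∃ D' : Submodule k A, IsSubcoalg D' ∧ IsCompl D D' := by
  classical
  let b := Module.finBasis k A
  obtain ⟨q, hq⟩ := D.exists_isCompl
  let T := D.projection q hq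
  have hT1 : ∀ x, T x ∈ D := fun x => (D.projectionOnto q hq x).2
  have hT2 : ∀ x ∈ D, T x = x := fun x hx => by
    show (D.projectionOnto q hq x : A) = x
    rw [Submodule.projectionOnto_apply_of_mem_left hq hx]
  let E := LinearMap.toMatrix b b T
  have hE : Matrix.toLin b b E = T := Matrix.toLin_toMatrix _ _ _
  have hEE : E * E = E := by
    rw [← LinearMap.toMatrix_comp]
    congr 1
    exact LinearMap.ext fun x => hT2 _ (hT1 x)
  obtain ⟨hs₁, hs₂⟩ := (isSubcoalg_iff_proj hT1 hT2).mp hD
  have hM₁ : sc E * coMatrix (A := A) b * sc E = coMatrix (A := A) b * sc E :=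
    (stable_iff b E).mp (by rw [hE]; exact hs₁)
  have hR : sc E * (leftMatrix b)ᵀ * sc E = (leftMatrix b)ᵀ * sc E :=
    (stable_right_iff b E).mp (by rw [hE]; exact hs₂)
  let S := HopfAlgebra.antipodeAlgHom k A
  let M := coMatrix (A := A) b
  let N := ((leftMatrix b).map S)ᵀ
  have hM : IsCorep (k := k) M := isCorep_coMatrix b
  have hN : IsCorep (k := k) N := (isCorep_leftMatrix b).dual
  have hN₁ : sc E * N * sc E = N * sc E := by
    show sc E * ((leftMatrix b).map S)ᵀ * sc E = ((leftMatrix b).map S)ᵀ * sc E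
    rw [← Matrix.transpose_map]
    exact stable_antipode hR
  let ι₁ : A →ₐ[k] A ⊗[k] A := Algebra.TensorProduct.includeLeft
  let ι₂ : A →ₐ[k] A ⊗[k] A := Algebra.TensorProduct.includeRight
  -- `M` commutes with `N` and with its inverse
  have hc₁ : (leftMatrix b)ᵀ.map ι₁ * M.map ι₂ = M.map ι₂ * (leftMatrix b)ᵀ.map ι₁ := regular_commute b
  have hsw : ∀ X Y : Matrix (Fin (Module.finrank k A)) (Fin (Module.finrank k A)) A,
      Y.map ι₁ * X.map ι₂ = X.map ι₂ * Y.map ι₁ → X.map ι₁ * Y.map ι₂ = Y.map ι₂ * X.map ι₁ := by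
    intro X Y h
    have := congr(($h).map (Algebra.TensorProduct.comm k A A))
    simp only [Matrix.map_mul, Matrix.map_map] at this
    have e1 : (Algebra.TensorProduct.comm k A A) ∘ ι₁ = ι₂ := funext fun a => by simp [ι₁, ι₂]
    have e2 : (Algebra.TensorProduct.comm k A A) ∘ ι₂ = ι₁ := funext fun a => by simp [ι₁, ι₂]
    rw [e1, e2] at this
    exact this.symm
  have hinv : ∀ X Y Z : Matrix (Fin (Module.finrank k A)) (Fin (Module.finrank k A)) (A ⊗[k] A),
      Y * Z = 1 → X * Y = Y * X → X * Z = Z * X := by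
    intro X Y Z h h'
    have h2 : Z * Y = 1 := mul_eq_one_comm.mp h
    calc X * Z = Z * Y * (X * Z) := by rw [h2, Matrix.one_mul]
      _ = Z * (X * Y) * Z := by rw [h']; simp only [Matrix.mul_assoc]
      _ = Z * X := by rw [Matrix.mul_assoc, Matrix.mul_assoc X, h, Matrix.mul_one]
  have hLN : (leftMatrix b)ᵀ * N = 1 := by
    rw [← Matrix.transpose_mul, (isCorep_leftMatrix b).antipode_mul, Matrix.transpose_one]
  have hmap : ∀ (f : A →ₐ[k] A ⊗[k] A) (X Y : Matrix (Fin (Module.finrank k A)) (Fin (Module.finrank k A)) A),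
      X * Y = 1 → X.map f * Y.map f = 1 := fun f X Y h => by
    rw [← Matrix.map_mul, h, Matrix.map_one _ (map_zero _) (map_one _)]
  have hMN : M.map ι₁ * N.map ι₂ = N.map ι₂ * M.map ι₁ :=
    hinv _ _ _ (hmap ι₂ _ _ hLN) (hsw _ _ hc₁)
  have hNS : (leftMatrix b)ᵀ = N.map S := by
    refine left_inv_eq_right_inv (a := N) hLN hN.mul_antipode
  have hMN' : M.map ι₁ * (N.map S).map ι₂ = (N.map S).map ι₂ * M.map ι₁ := by
    rw [← hNS]; exact hsw _ _ hc₁
  let P₁ := avg l M E
  have hP₁ : sc P₁ * M = M * sc P₁ := avg_comm hM hl E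
  have hP₁E : P₁ * E = E := avg_right hM h1 hM₁ hEE
  have hEP₁ : E * P₁ = P₁ := avg_left hM₁ hEE
  let P := avg l N P₁
  have hPN : sc P * N = N * sc P := avg_comm hN hl P₁
  have hPM : sc P * M = M * sc P := avg_comm_of_commute hMN hMN' hP₁
  have hPE : P * E = E := avg_right hN h1 hN₁ hP₁E
  have hEP : E * P = P := avg_left hN₁ hEP₁
  have hPP : P * P = P := by
    calc P * P = P * (E * P) := by rw [hEP]
      _ = P := by rw [← Matrix.mul_assoc, hPE, hEP]
  let π := Matrix.toLin b b P
  let F : Matrix (Fin (Module.finrank k A)) (Fin (Module.finrank k A)) k := 1 - P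
  refine ⟨LinearMap.ker π, ?_, ?_⟩
  · have hF1 : ∀ x, Matrix.toLin b b F x ∈ LinearMap.ker π := fun x => by
      rw [LinearMap.mem_ker, ← LinearMap.comp_apply, ← Matrix.toLin_mul, Matrix.mul_sub,
        Matrix.mul_one, hPP, sub_self, map_zero, LinearMap.zero_apply]
    have hF2 : ∀ x ∈ LinearMap.ker π, Matrix.toLin b b F x = x := fun x hx => by
      show Matrix.toLin b b (1 - P) x = x
      rw [map_sub, Matrix.toLin_one, LinearMap.sub_apply, LinearMap.id_apply, LinearMap.mem_ker.mp hx,
        sub_zero]
    have hFF : sc F * sc F = (sc F : Matrix _ _ A) := by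
      rw [sc_mul_sc]; congr 1
      simp [F, Matrix.mul_sub, Matrix.sub_mul, hPP]
    have hFc : ∀ X, sc P * X = X * sc P → sc F * X = X * (sc F : Matrix _ _ A) := fun X h => by
      have : (sc F : Matrix _ _ A) = 1 - sc P := by
        show (1 - P).map (algebraMap k A) = _
        rw [Matrix.map_sub _ (map_sub _), Matrix.map_one _ (map_zero _) (map_one _)]
      rw [this, Matrix.sub_mul, Matrix.mul_sub, h, Matrix.one_mul, Matrix.mul_one]
    refine (isSubcoalg_iff_proj hF1 hF2).mpr ⟨(stable_iff b F).mpr ?_, (stable_right_iff b F).mpr ?_⟩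
    · rw [hFc _ hPM, Matrix.mul_assoc, hFF]
    · have hPL : sc P * (leftMatrix b)ᵀ = (leftMatrix b)ᵀ * sc P := by
        have := congr(($hPN).map S)
        simpa only [Matrix.map_mul, sc_map, ← hNS] using this
      rw [hFc _ hPL, Matrix.mul_assoc, hFF]
  · have hπ1 : ∀ x, π x ∈ D := fun x => by
      have : π x = T (π x) := by
        rw [← hE, ← LinearMap.comp_apply, ← Matrix.toLin_mul, hEP]
      rw [this]; exact hT1 _
    have hπ2 : ∀ x ∈ D, π x = x := fun x hx => by
      conv_lhs => rw [← hT2 x hx]
      rw [← hE, ← LinearMap.comp_apply, ← Matrix.toLin_mul, hPE, hE, hT2 x hx]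
    exact LinearMap.IsProj.isCompl ⟨hπ1, hπ2⟩

omit b in
/-- Decomposition into minimal subcoalgebras. -/
theorem exists_decomposition_subcoalg
    (hc : ∀ {D : Submodule k A}, IsSubcoalg D → ∃ D', IsSubcoalg D' ∧ IsCompl D D')
    {D : Submodule k A} (hD : IsSubcoalg D) :
    ∃ s : Finset (Submodule k A), s.SupIndep id ∧ s.sup id = D ∧
      ∀ B ∈ s, B ≠ ⊥ ∧ IsSubcoalg B ∧ ∀ C ≤ B, IsSubcoalg C → C = ⊥ ∨ C = B := by
  classical
  induction hn : Module.finrank k D using Nat.strong_induction_on generalizing D with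
  | _ m ih =>
    by_cases h0 : D = ⊥
    · exact ⟨∅, Finset.supIndep_empty _, by simp [h0], by simp⟩
    by_cases hmin : ∀ C ≤ D, IsSubcoalg C → C = ⊥ ∨ C = D
    · exact ⟨{D}, Finset.supIndep_singleton _ _, by simp, by simpa using ⟨h0, hD, hmin⟩⟩
    push Not at hmin
    obtain ⟨C, hCD, hC, hC0, hCne⟩ := hmin
    obtain ⟨C', hC', hcompl⟩ := hc hC
    have hinf : IsSubcoalg (C' ⊓ D) := by
      intro x hx
      let π := C'.projection C hcompl.symm
      have hπD : ∀ y ∈ D, π y ∈ C' ⊓ D := by
        intro y hy
        refine ⟨(C'.projectionOnto C hcompl.symm y).2, ?_⟩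
        have : y - π y ∈ C := by
          rw [← Submodule.projectionOnto_apply_eq_zero_iff hcompl.symm, map_sub,
            show π y = ((C'.projectionOnto C hcompl.symm y : C') : A) from rfl,
            Submodule.projectionOnto_apply_left, sub_self]
        simpa using sub_mem hy (hCD this)
      have hπC : ∀ y ∈ C', π y = y := fun y hy => by
        show (C'.projectionOnto C hcompl.symm y : A) = y
        rw [Submodule.projectionOnto_apply_of_mem_left hcompl.symm hy]
      obtain ⟨s, hs⟩ := hD x hx.2
      have hfix : TensorProduct.map π π (comul x) = comul (R := k) x := by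
        obtain ⟨t, ht⟩ := hC' x hx.1
        rw [← ht]
        clear ht
        induction t using TensorProduct.induction_on with
        | zero => simp
        | tmul u v => simp [hπC _ u.2, hπC _ v.2]
        | add u v hu hv => simp only [map_add, hu, hv]
      let ρ : D →ₗ[k] (C' ⊓ D : Submodule k A) :=
        LinearMap.codRestrict _ (π ∘ₗ D.subtype) fun y => hπD y y.2
      refine ⟨TensorProduct.map ρ ρ s, ?_⟩
      rw [← hfix, ← hs, ← LinearMap.comp_apply, ← LinearMap.comp_apply, ← TensorProduct.map_comp,
        ← TensorProduct.map_comp, show (C' ⊓ D).subtype ∘ₗ ρ = π ∘ₗ D.subtype from rfl]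
    have hsup : C ⊔ C' ⊓ D = D := by
      rw [← sup_inf_assoc_of_le C' hCD, hcompl.sup_eq_top, top_inf_eq]
    have hdisj : Disjoint C (C' ⊓ D) := hcompl.disjoint.mono_right inf_le_left
    have hlt : C < D := lt_of_le_of_ne hCD hCne
    have hlt' : C' ⊓ D < D := by
      refine lt_of_le_of_ne inf_le_right fun h => hC0 ?_
      rw [h] at hdisj
      exact hdisj.eq_bot_of_le hCD
    subst hn
    obtain ⟨s₁, hs₁, hs₁', hmem₁⟩ := ih _ (Submodule.finrank_lt_finrank_of_lt hlt) hC rfl
    obtain ⟨s₂, hs₂, hs₂', hmem₂⟩ := ih _ (Submodule.finrank_lt_finrank_of_lt hlt') hinf rfl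
    refine ⟨s₁ ∪ s₂, ?_, by rw [Finset.sup_union, hs₁', hs₂', hsup], fun B hB => ?_⟩
    · exact supIndep_union_of_disjoint hs₁ hs₂ (by rw [hs₁', hs₂']; exact hdisj)
    · rcases Finset.mem_union.mp hB with h | h
      exacts [hmem₁ B h, hmem₂ B h]

end Subcoalgebra

end Groth.Agent.Comod
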