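import Groth.Agent.Comod.Transfer
import Groth.Agent.Comod.Corep
import Groth.Agent.Comod.Cosemisimple
import Mathlib.LinearAlgebra.Matrix.Basis

/-!
# Integrals and linear reductivity

A bialgebra with, locally on finite sets, a normalised left invariant functional has only semisimple
comodules; conversely enough fixed vectors give such functionals.
-/

universe u v w
open TensorProduct Coalgebra Matrix
noncomputable section

namespace Groth.Agent.Comod

variable {k : Type u} [Field k] {A : Type v} [CommRing A] [HopfAlgebra k A]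

local notation "ι₁" => (Algebra.TensorProduct.includeLeft : A →ₐ[k] A ⊗[k] A)
local notation "ι₂" => (Algebra.TensorProduct.includeRight : A →ₐ[k] A ⊗[k] A)
local notation "Sₐ" => HopfAlgebra.antipodeAlgHom k A

/-- Left invariance of a functional at an element. -/
def LeftInvAt (l : A →ₗ[k] k) (a : A) : Prop :=
  cL l (comul (R := k) a) = algebraMap k A (l a)

variable (k A) in
/-- Normalised invariant functionals exist on finite sets. -/
def HasLocalIntegral : Prop := ∀ s : Finset A, ∃ l : A →ₗ[k] k, l 1 = 1 ∧ ∀ a ∈ s, LeftInvAt l a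

section Avg
variable {n : Type*} [Fintype n] [DecidableEq n]

lemma cL_includeRight_mul (l : A →ₗ[k] k) (a : A) (t : A ⊗[k] A) :
    cL l (ι₂ a * t) = a * cL l t := by
  induction t using TensorProduct.induction_on with
  | zero => simp
  | tmul x y => simp
  | add x y hx hy => simp only [mul_add, map_add, hx, hy]

lemma cL_mul_right (l : A →ₗ[k] k) (X : Matrix n n A) (Y : Matrix n n (A ⊗[k] A)) :
    (X.map ι₂ * Y).map (cL l) = X * Y.map (cL l) := by
  ext i j
  simp only [Matrix.map_apply, Matrix.mul_apply, map_sum, cL_includeRight_mul]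

lemma cL_mul_right' (l : A →ₗ[k] k) (X : Matrix n n A) (Y : Matrix n n (A ⊗[k] A)) :
    (Y * X.map ι₂).map (cL l) = Y.map (cL l) * X := by
  ext i j
  simp only [Matrix.map_apply, Matrix.mul_apply, map_sum, mul_comm (Y i _), mul_comm _ (X _ j),
    cL_includeRight_mul]

/-- Averaging from the left. -/
def avgL (l : A →ₗ[k] k) (M : Matrix n n A) (P : Matrix n n k) : Matrix n n k :=
  (M.map Sₐ * sc P * M).map l

lemma avgL_comm {M : Matrix n n A} (hM : IsCorep (k := k) M) {l : A →ₗ[k] k} {P : Matrix n n k}
    (hl : ∀ i j, LeftInvAt l ((M.map Sₐ * sc P * M : Matrix n n A) i j)) :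
    sc (avgL l M P) * M = M * sc (avgL l M P) := by
  have hinv : (M.map Sₐ).map (Bialgebra.comulAlgHom k A) =
      (M.map Sₐ).map ι₂ * (M.map Sₐ).map ι₁ := by
    refine left_inv_eq_right_inv (a := M.map (Bialgebra.comulAlgHom k A)) ?_ ?_
    · rw [← Matrix.map_mul, hM.antipode_mul, Matrix.map_one _ (map_zero _) (map_one _)]
    · rw [hM.map_comul, Matrix.mul_assoc, ← Matrix.mul_assoc (M.map ι₂), ← Matrix.map_mul,
        hM.mul_antipode, Matrix.map_one _ (map_zero _) (map_one _), Matrix.one_mul, ← Matrix.map_mul,
        hM.mul_antipode, Matrix.map_one _ (map_zero _) (map_one _)]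
  have hΔ : (M.map Sₐ * sc P * M).map (Bialgebra.comulAlgHom k A) =
      (M.map Sₐ).map ι₂ * ((M.map Sₐ * sc P * M).map ι₁) * M.map ι₂ := by
    simp only [Matrix.map_mul, sc_map, hinv, hM.map_comul, Matrix.mul_assoc]
  have h1 : ((M.map Sₐ * sc P * M).map ι₁).map (cL l) = sc (avgL l M P) := by
    ext i j
    show cL l (((M.map Sₐ * sc P * M : Matrix n n A) i j) ⊗ₜ[k] (1 : A)) =
      algebraMap k A (l ((M.map Sₐ * sc P * M : Matrix n n A) i j))
    rw [cL_tmul, Algebra.algebraMap_eq_smul_one]
  have key : sc (avgL l M P) = M.map Sₐ * sc (avgL l M P) * M := by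
    conv_rhs => rw [← h1, ← cL_mul_right, ← cL_mul_right', ← hΔ]
    ext i j
    exact (hl i j).symm
  conv_rhs => rw [key, ← Matrix.mul_assoc, ← Matrix.mul_assoc, hM.mul_antipode, Matrix.one_mul]

lemma avgL_left {M : Matrix n n A} {l : A →ₗ[k] k} {E P : Matrix n n k}
    (hE : sc E * M * sc E = M * sc E) (hP : E * P = P) : E * avgL l M P = avgL l M P := by
  have h : sc E * (M.map Sₐ * sc P * M) = M.map Sₐ * sc P * M := by
    rw [← hP, ← sc_mul_sc, ← Matrix.mul_assoc, ← Matrix.mul_assoc, ← Matrix.mul_assoc,
      ← Matrix.mul_assoc, stable_antipode hE]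
  conv_rhs => rw [avgL, ← h, map_sc_mul]
  simp [avgL]

lemma avgL_right {M : Matrix n n A} (hM : IsCorep (k := k) M) {l : A →ₗ[k] k} (h1 : l 1 = 1)
    {E P : Matrix n n k} (hE : sc E * M * sc E = M * sc E) (hP : P * E = E) : avgL l M P * E = E := by
  have h : M.map Sₐ * sc P * M * sc E = sc E := by
    rw [Matrix.mul_assoc, ← hE, ← Matrix.mul_assoc, ← Matrix.mul_assoc,
      Matrix.mul_assoc (M.map Sₐ) (sc P), sc_mul_sc, hP, Matrix.mul_assoc (M.map Sₐ),
      Matrix.mul_assoc (M.map Sₐ), hE, ← Matrix.mul_assoc, hM.antipode_mul, Matrix.one_mul]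
  conv_rhs => rw [show E = (sc E : Matrix n n A).map l by
    ext i j; simp [Algebra.algebraMap_eq_smul_one, h1], ← h, map_mul_sc]
  simp [avgL]

end Avg

/-- Finite dimensional comodules are semisimple when local integrals exist. -/
theorem isSemisimpleComod_of_localIntegral (h : HasLocalIntegral k A) (V : Type w) [AddCommGroup V]
    [Module k V] [HopfRep.Comod k A V] [Module.Finite k V] : HopfRep.IsSemisimpleComod k A V := by
  classical
  intro W hW
  let b := Module.finBasis k V
  obtain ⟨q, hq⟩ := W.exists_isCompl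
  let T := W.projection q hq
  have hT1 : ∀ x, T x ∈ W := fun x => (W.projectionOnto q hq x).2
  have hT2 : ∀ x ∈ W, T x = x := fun x hx => by
    show (W.projectionOnto q hq x : V) = x
    rw [Submodule.projectionOnto_apply_of_mem_left hq hx]
  let E := LinearMap.toMatrix b b T
  have hE : Matrix.toLin b b E = T := Matrix.toLin_toMatrix _ _ _
  have hEE : E * E = E := by
    rw [← LinearMap.toMatrix_comp]
    congr 1
    exact LinearMap.ext fun x => hT2 _ (hT1 x)
  let M := coMatrix (A := A) b
  have hM : IsCorep (k := k) M := isCorep_coMatrix b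
  have hstab : ∀ x, T.rTensor A (HopfRep.Comod.coact (k := k) (A := A) (T x)) =
      HopfRep.Comod.coact (k := k) (A := A) (T x) := fun x => by
    obtain ⟨s, hs⟩ := hW _ (hT1 x)
    rw [← hs]
    clear hs
    induction s using TensorProduct.induction_on with
    | zero => simp
    | tmul p q => simp [hT2 _ p.2]
    | add p q hp hq => simp only [map_add, hp, hq]
  have hM₁ : sc E * M * sc E = M * sc E := (stable_iff b E).mp (by rw [hE]; exact hstab)
  obtain ⟨l, h1, hl⟩ := h (Finset.univ.image fun p : Fin (Module.finrank k V) × Fin (Module.finrank k V) =>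
    (M.map Sₐ * sc E * M : Matrix (Fin (Module.finrank k V)) (Fin (Module.finrank k V)) A) p.1 p.2)
  let P := avgL l M E
  have hPM : sc P * M = M * sc P := avgL_comm hM fun i j =>
    hl _ (Finset.mem_image.mpr ⟨(i, j), Finset.mem_univ _, rfl⟩)
  have hPE : P * E = E := avgL_right hM h1 hM₁ hEE
  have hEP : E * P = P := avgL_left hM₁ hEE
  let π := Matrix.toLin b b P
  have hπ1 : ∀ x, π x ∈ W := fun x => by
    have : π x = T (π x) := by
      rw [← hE, ← LinearMap.comp_apply, ← Matrix.toLin_mul, hEP]
    rw [this]; exact hT1 _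
  have hπ2 : ∀ x ∈ W, π x = x := fun x hx => by
    conv_lhs => rw [← hT2 x hx]
    rw [← hE, ← LinearMap.comp_apply, ← Matrix.toLin_mul, hPE, hE, hT2 x hx]
  refine ⟨LinearMap.ker π, ?_, LinearMap.IsProj.isCompl ⟨hπ1, hπ2⟩⟩
  have hπ : Hoch.IsComodHom A π := by
    refine b.ext fun j => coordLeft_ext b fun a => ?_
    rw [LinearMap.comp_apply, LinearMap.comp_apply, coordLeft_map_matrix]
    have e1 : coordLeft b a (HopfRep.Comod.coact (k := k) (A := A) (π (b j))) =
        (M * sc P : Matrix _ _ A) a j := by
      simp [π, M, Matrix.toLin_self, map_sum, Matrix.mul_apply, coMatrix, Algebra.smul_def, mul_comm]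
    have e2 : ∑ i, algebraMap k A (P a i) * coordLeft b i (HopfRep.Comod.coact (k := k) (A := A) (b j)) =
        (sc P * M : Matrix _ _ A) a j := by
      simp [M, Matrix.mul_apply, coMatrix]
    rw [e1, e2, hPM]
  exact isSubcomod_iff.mpr fun g w hw => LinearMap.mem_ker.mpr (by
    rw [isComodHom_iff.mp hπ g w, LinearMap.mem_ker.mp hw, map_zero])

/-- All comodules are semisimple as soon as the finite dimensional ones are. -/
theorem isSemisimpleComod_of_finite {C : Type v} [AddCommGroup C] [Module k C] [Coalgebra k C]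
    {V : Type w} [AddCommGroup V] [Module k V] [HopfRep.Comod k C V]
    (h : ∀ (W : Type w) [AddCommGroup W] [Module k W] [HopfRep.Comod k C W], Module.Finite k W →
      HopfRep.IsSemisimpleComod k C W) : HopfRep.IsSemisimpleComod k C V := by
  rw [isSemisimpleComod_iff]
  let p : V → Submodule (CDual k C) V := fun v => (exists_finite_subcomod (K := k) (C := C) v).choose
  have hp := fun v => (exists_finite_subcomod (K := k) (C := C) (V := V) v).choose_spec
  refine isSemisimpleModule_of_isSemisimpleModule_submodule' (p := p) (fun v => ?_)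
    (eq_top_iff.mpr fun v _ => Submodule.mem_iSup_of_mem v (hp v).1)
  letI := ComodSub.Comod.restr (inferInstance : HopfRep.Comod k C V) (ofDSub (p v)) (isSubcomod_ofDSub _)
  have hs := (isSemisimpleComod_iff k C (ofDSub (p v))).mp (h _ (hp v).2)
  let ψ : p v →ₗ[CDual k C] ofDSub (p v) :=
    { toFun := fun x => ⟨x.1, x.2⟩
      map_add' := fun _ _ => rfl
      map_smul' := fun g x => Subtype.ext (dact_restr (isSubcomod_ofDSub (p v)) g ⟨x.1, x.2⟩).symm }
  exact IsSemisimpleModule.of_injective ψ fun x y hxy => Subtype.ext (congrArg Subtype.val hxy :)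

/-- A linearly reductive group has all comodules semisimple. -/
theorem isSemisimpleComod_of_isLinearlyReductive (h : HopfRep.IsLinearlyReductive k A) (V : Type v)
    [AddCommGroup V] [Module k V] [HopfRep.Comod k A V] : HopfRep.IsSemisimpleComod k A V :=
  isSemisimpleComod_of_finite fun W _ _ _ hW => h W hW

/-- Fixed vectors lift along surjections from semisimple comodules. -/
theorem exists_fixed_preimage {V : Type w} [AddCommGroup V] [Module k V] [HopfRep.Comod k A V]
    {W : Type*} [AddCommGroup W] [Module k W] [HopfRep.Comod k A W]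
    (hV : HopfRep.IsSemisimpleComod k A V) {φ : V →ₗ[k] W} (hφ : Hoch.IsComodHom A φ)
    (hsurj : Function.Surjective φ) {w : W} (hw : w ∈ HopfRep.fixedPts k A W) :
    ∃ v ∈ HopfRep.fixedPts k A V, φ v = w := by
  have hker : HopfRep.IsSubcomod (k := k) (A := A) (LinearMap.ker φ) :=
    isSubcomod_iff.mpr fun g x hx => LinearMap.mem_ker.mpr (by
      rw [isComodHom_iff.mp hφ g x, LinearMap.mem_ker.mp hx, map_zero])
  obtain ⟨W', hW', hc⟩ := hV _ hker
  obtain ⟨v, rfl⟩ := hsurj w
  obtain ⟨a, ha, v', hv', rfl⟩ : ∃ a ∈ LinearMap.ker φ, ∃ v' ∈ W', a + v' = v :=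
    Submodule.mem_sup.mp (by rw [hc.sup_eq_top]; trivial)
  refine ⟨v', ?_, by rw [map_add, LinearMap.mem_ker.mp ha, zero_add]⟩
  refine tensor_eq_of_cR fun f => ?_
  rw [cR_tmul]
  show dact k A V (WithConv.toConv f) v' = f 1 • v'
  rw [← sub_eq_zero, ← Submodule.mem_bot k, ← hc.inf_eq_bot]
  refine ⟨LinearMap.mem_ker.mpr ?_, sub_mem (isSubcomod_iff.mp hW' _ _ hv') (W'.smul_mem _ hv')⟩
  rw [map_sub, map_smul, isComodHom_iff.mp hφ, sub_eq_zero]
  have e : φ (a + v') = φ v' := by rw [map_add, LinearMap.mem_ker.mp ha, zero_add]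
  rw [← e, dact_apply, show HopfRep.Comod.coact (k := k) (A := A) (φ (a + v')) = φ (a + v') ⊗ₜ[k] (1 : A) from hw,
    cR_tmul]

/-- The comodule attached to a matrix corepresentation and a basis. -/
@[reducible] def ofCorep {n : Type*} [Fintype n] [DecidableEq n] {V : Type w} [AddCommGroup V]
    [Module k V] (b : Module.Basis n k V) {M : Matrix n n A} (hM : IsCorep (k := k) M) :
    HopfRep.Comod k A V where
  coact := b.constr k fun j => ∑ i, b i ⊗ₜ[k] M i j
  coassoc := b.ext fun j => by
    simp only [LinearMap.comp_apply, Module.Basis.constr_basis, map_sum, LinearMap.rTensor_tmul,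
      LinearMap.lTensor_tmul, TensorProduct.sum_tmul, LinearEquiv.coe_coe, TensorProduct.assoc_tmul]
    rw [Finset.sum_comm]
    refine Finset.sum_congr rfl fun i _ => ?_
    rw [← TensorProduct.tmul_sum]
    congr 1
    have h := congrFun (congrFun hM.map_comul i) j
    simp only [Matrix.map_apply, Bialgebra.comulAlgHom_apply, Matrix.mul_apply,
      Algebra.TensorProduct.includeLeft_apply, Algebra.TensorProduct.includeRight_apply,
      Algebra.TensorProduct.tmul_mul_tmul, mul_one, one_mul] at h
    exact h.symm
  counit_comp := b.ext fun j => by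
    have h : ∀ i, counit (R := k) (M i j) = if i = j then 1 else 0 := fun i => by
      have h := congrFun (congrFun hM.map_counit i) j
      simpa [Matrix.one_apply] using h
    simp [Module.Basis.constr_basis, map_sum, h, TensorProduct.tmul_ite]

/-- Enough fixed vectors give local integrals. -/
theorem hasLocalIntegral_of_fixedPts
    (h : ∀ (V : Type v) [AddCommGroup V] [Module k V] [HopfRep.Comod k A V], Module.Finite k V →
      ∀ π : V →ₗ[k] k, Function.Surjective π →
        LinearMap.rTensor A π ∘ₗ HopfRep.Comod.coact (k := k) (A := A) (V := V) =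
          (TensorProduct.mk k k A).flip (1 : A) ∘ₗ π →
        ∃ v ∈ HopfRep.fixedPts k A V, π v ≠ 0) : HasLocalIntegral k A := by
  classical
  intro s
  obtain ⟨S, hS, hfin⟩ := exists_finite_subcomod_finset (K := k) (C := A) (V := A) (insert 1 s)
  let H := ofDSub S
  letI cH := ComodSub.Comod.restr (inferInstance : HopfRep.Comod k A A) H (isSubcomod_ofDSub S)
  let b := Module.finBasis k H
  let M : Matrix (Fin (Module.finrank k H)) (Fin (Module.finrank k H)) A := coMatrix (A := A) b
  have hM : IsCorep (k := k) M := isCorep_coMatrix b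
  have hb : ∀ j, comul (R := k) (b j : A) = ∑ i, (b i : A) ⊗ₜ[k] M i j := fun j => by
    have h1 := ComodSub.restr_coact_coe (inferInstance : HopfRep.Comod k A A) H (isSubcomod_ofDSub S) (b j)
    rw [coact_basis b j, map_sum] at h1
    exact h1.symm
  let one : H := ⟨1, hS 1 (Finset.mem_insert_self _ _)⟩
  let c : Fin (Module.finrank k H) → k := fun i => b.repr one i
  have hc : ∀ i, ∑ j, M i j * algebraMap k A (c j) = algebraMap k A (c i) := by
    intro i
    have hone : (1 : A) = ∑ j, c j • (b j : A) := by
      have := congr_arg Subtype.val (b.sum_repr one)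
      simp only [AddSubmonoidClass.coe_finsetSum, Submodule.coe_smul] at this
      exact this.symm
    have e : H.subtype.rTensor A (∑ i, b i ⊗ₜ[k] (∑ j, M i j * algebraMap k A (c j))) =
        H.subtype.rTensor A (one ⊗ₜ[k] (1 : A)) := by
      have := congr_arg (comul (R := k) (A := A)) hone
      rw [Bialgebra.comul_one, map_sum] at this
      simp only [map_smul, hb, Finset.smul_sum] at this
      rw [Finset.sum_comm] at this
      simp only [map_sum, TensorProduct.tmul_sum, LinearMap.rTensor_tmul, Submodule.subtype_apply]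
      rw [show (one : A) = 1 from rfl, ← Algebra.TensorProduct.one_def, this]
      refine Finset.sum_congr rfl fun i _ => Finset.sum_congr rfl fun j _ => ?_
      rw [mul_comm, ← Algebra.smul_def, TensorProduct.tmul_smul]
    have e2 := ComodSub.rTensor_subtype_injective (A := A) H e
    have e3 := congr(coordLeft b i $e2)
    simpa [coordLeft, map_sum, Finsupp.single_apply, c, Algebra.algebraMap_eq_smul_one] using e3
  let N := (M.map Sₐ)ᵀ
  letI cV : HopfRep.Comod k A H := ofCorep b hM.dual
  have hcV : ∀ j, cV.coact (b j) = ∑ i, b i ⊗ₜ[k] M.map Sₐ j i := fun j => b.constr_basis k _ j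
  let π : H →ₗ[k] k := b.constr k c
  have hπ : LinearMap.rTensor A π ∘ₗ cV.coact = (TensorProduct.mk k k A).flip (1 : A) ∘ₗ π := by
    refine b.ext fun j => ?_
    have hN : ∑ i, algebraMap k A (c i) * M.map Sₐ j i = algebraMap k A (c j) := by
      have e := congr_arg Sₐ (hc j)
      simp only [map_sum, map_mul, AlgHom.commutes] at e
      rw [← e]
      exact Finset.sum_congr rfl fun i _ => mul_comm _ _
    simp only [LinearMap.comp_apply, hcV, Module.Basis.constr_basis, map_sum,
      LinearMap.rTensor_tmul, π, LinearMap.flip_apply, TensorProduct.mk_apply]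
    apply (TensorProduct.lid k A).injective
    simp only [map_sum, TensorProduct.lid_tmul]
    rw [← Algebra.algebraMap_eq_smul_one, ← hN]
    exact Finset.sum_congr rfl fun i _ => Algebra.smul_def (c i) (M.map Sₐ j i)
  have hcne : ∃ j, c j ≠ 0 := by
    by_contra! h0
    have : one = 0 := b.ext_elem fun i => by simpa [c] using h0 i
    have h1 : (1 : A) = 0 := congr_arg Subtype.val this
    simpa using congr(Bialgebra.counitAlgHom k A $h1)
  obtain ⟨j₀, hj₀⟩ := hcne
  have hsurj : Function.Surjective π := fun x => ⟨(x / c j₀) • b j₀, by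
    simp [π, div_mul_cancel₀ _ hj₀]⟩
  obtain ⟨v, hv, hv0⟩ := h H hfin π hsurj hπ
  let r : Fin (Module.finrank k H) → k := fun i => b.repr v i
  obtain ⟨l₀, hl₀⟩ := (b.constr k r).exists_extend
  have hlb : ∀ i, l₀ (b i : A) = r i := fun i => (congr($hl₀ (b i))).trans (by simp)
  have hfix : ∀ i, ∑ j, algebraMap k A (r j) * M.map Sₐ j i = algebraMap k A (r i) := by
    intro i
    have e : cV.coact v = v ⊗ₜ[k] (1 : A) := hv
    have e2 := congr(coordLeft b i $e)
    conv_lhs at e2 => rw [← b.sum_repr v]
    simp only [map_sum, map_smul, hcV] at e2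
    simpa [coordLeft, map_sum, Finsupp.single_apply, r, Algebra.algebraMap_eq_smul_one,
      Finset.smul_sum] using e2
  have hinv : ∀ i, ∑ j, algebraMap k A (r j) * M j i = algebraMap k A (r i) := by
    intro i
    have e : Matrix.vecMul (fun j => algebraMap k A (r j)) (M.map Sₐ) = fun j => algebraMap k A (r j) :=
      funext hfix
    have e2 := congr(Matrix.vecMul $e M)
    rw [Matrix.vecMul_vecMul, hM.antipode_mul, Matrix.vecMul_one] at e2
    exact (congrFun e2 i).symm
  have hlH : ∀ a ∈ H, LeftInvAt l₀ a := by
    intro a ha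
    show cL l₀ (comul (R := k) a) = (Algebra.linearMap k A ∘ₗ l₀) a
    refine LinearMap.congr_fun (f := cL l₀ ∘ₗ comul ∘ₗ H.subtype)
      (g := Algebra.linearMap k A ∘ₗ l₀ ∘ₗ H.subtype) (b.ext fun j => ?_) ⟨a, ha⟩
    simp only [LinearMap.comp_apply, Submodule.subtype_apply, hb, map_sum, cL_tmul, hlb,
      Algebra.linearMap_apply, ← hinv j, Algebra.smul_def]
  refine ⟨(π v)⁻¹ • l₀, ?_, fun a ha => ?_⟩
  · have h1 : l₀ 1 = π v := by
      have e : π v = ∑ i, r i * c i := by
        conv_lhs => rw [← b.sum_repr v]
        simp [π, r]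
      have e1 : l₀ 1 = ∑ i, c i * r i := by
        have := congr_arg (fun x : H => l₀ (x : A)) (b.sum_repr one)
        simp only [AddSubmonoidClass.coe_finsetSum, Submodule.coe_smul, map_sum, map_smul, hlb] at this
        exact this.symm
      rw [e, e1]
      exact Finset.sum_congr rfl fun i _ => mul_comm _ _
    simp [h1, hv0]
  · have := hlH a (hS a (Finset.mem_insert_of_mem ha))
    unfold LeftInvAt at this ⊢
    have e : ∀ t : A ⊗[k] A, cL ((π v)⁻¹ • l₀) t = (π v)⁻¹ • cL l₀ t := fun t => by
      induction t using TensorProduct.induction_on with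
      | zero => simp
      | tmul x y => simp [smul_smul]
      | add x y hx hy => simp only [map_add, hx, hy, smul_add]
    rw [e, this]
    simp [Algebra.smul_def]

variable (k A) in
/-- Linear reductivity is the existence of local integrals. -/
theorem isLinearlyReductive_of_localIntegral (h : HasLocalIntegral k A) :
    HopfRep.IsLinearlyReductive k A :=
  fun V _ _ _ _ => isSemisimpleComod_of_localIntegral h V

/-- Inversion in the group turns right invariance into left invariance. -/
lemma comul_antipode (a : A) : comul (R := k) (HopfAlgebra.antipode k a) =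
    TensorProduct.comm k A A (TensorProduct.map (HopfAlgebra.antipode k) (HopfAlgebra.antipode k) (comul a)) := by
  let I₁ : WithConv (A →ₐ[k] A ⊗[k] A) := WithConv.toConv ι₁
  let I₂ : WithConv (A →ₐ[k] A ⊗[k] A) := WithConv.toConv ι₂
  have hmap : ∀ (h : A →ₐ[k] A ⊗[k] A),
      WithConv.toConv h * WithConv.toConv (h.comp Sₐ) = (1 : WithConv (A →ₐ[k] A ⊗[k] A)) := by
    intro h
    refine WithConv.ext ?_
    have e := congr_arg (fun z => h.comp (WithConv.ofConv z))
      (mul_inv_cancel (WithConv.toConv (AlgHom.id k A)))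
    simp only [AlgHom.comp_convMul_distrib, WithConv.ofConv_toConv] at e
    refine Eq.trans ?_ (e.trans ?_)
    · rfl
    · exact AlgHom.ext fun a => by simp [AlgHom.convOne_def]
  have hright : WithConv.toConv (Bialgebra.comulAlgHom k A) *
      (WithConv.toConv ((ι₂).comp Sₐ) * WithConv.toConv ((ι₁).comp Sₐ)) = 1 := by
    rw [toConv_comul_eq, mul_assoc, ← mul_assoc (WithConv.toConv ι₂), hmap, one_mul, hmap]
  have hleft : WithConv.toConv ((Bialgebra.comulAlgHom k A).comp Sₐ) *
      WithConv.toConv (Bialgebra.comulAlgHom k A) = 1 := by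
    refine WithConv.ext ?_
    have e := congr_arg (fun z => (Bialgebra.comulAlgHom k A).comp (WithConv.ofConv z))
      (AlgHom.antipode_id_cancel (R := k) (A := A))
    simp only [AlgHom.comp_convMul_distrib, WithConv.ofConv_toConv, AlgHom.comp_id] at e
    rw [e]
    exact AlgHom.ext fun a => by simp [AlgHom.convOne_def]
  have key := congr_arg (fun z => (WithConv.ofConv z) a) (left_inv_eq_right_inv hleft hright)
  simp only [WithConv.ofConv_toConv, AlgHom.comp_apply, AlgHom.convMul_apply] at key
  refine key.trans ?_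
  generalize comul (R := k) a = t
  induction t using TensorProduct.induction_on with
  | zero => simp
  | tmul x y => simp
  | add x y hx hy => simp only [map_add, hx, hy]

lemma antipodeAlgHom_antipode (a : A) : Sₐ (Sₐ a) = a := by
  have h := congr_arg (fun z => (WithConv.ofConv z) a) (inv_inv (WithConv.toConv (AlgHom.id k A)))
  exact h

/-- Composition with inversion turns a left invariant functional into a right invariant one. -/
lemma cR_antipode {l : A →ₗ[k] k} (hl : ∀ a, LeftInvAt l a) (a : A) :
    cR (l ∘ₗ HopfAlgebra.antipode k) (comul (R := k) a) = algebraMap k A (l (HopfAlgebra.antipode k a)) := by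
  have h := hl (HopfAlgebra.antipode k a)
  unfold LeftInvAt at h
  rw [comul_antipode] at h
  have e : ∀ t : A ⊗[k] A, cL l (TensorProduct.comm k A A
      (TensorProduct.map (HopfAlgebra.antipode k) (HopfAlgebra.antipode k) t)) =
      HopfAlgebra.antipode k (cR (l ∘ₗ HopfAlgebra.antipode k) t) := fun t => by
    induction t using TensorProduct.induction_on with
    | zero => simp
    | tmul x y => simp
    | add x y hx hy => simp only [map_add, hx, hy]
  rw [e] at h
  have h2 := congr_arg Sₐ h
  rw [AlgHom.commutes] at h2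
  exact (antipodeAlgHom_antipode _).symm.trans h2

/-- The same with the roles of left and right exchanged. -/
lemma leftInvAt_antipode {l : A →ₗ[k] k} (hl : ∀ a, cR l (comul (R := k) a) = algebraMap k A (l a)) (a : A) :
    LeftInvAt (l ∘ₗ HopfAlgebra.antipode k) a := by
  have h := hl (HopfAlgebra.antipode k a)
  rw [comul_antipode] at h
  have e : ∀ t : A ⊗[k] A, cR l (TensorProduct.comm k A A
      (TensorProduct.map (HopfAlgebra.antipode k) (HopfAlgebra.antipode k) t)) =
      HopfAlgebra.antipode k (cL (l ∘ₗ HopfAlgebra.antipode k) t) := fun t => by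
    induction t using TensorProduct.induction_on with
    | zero => simp
    | tmul x y => simp
    | add x y hx hy => simp only [map_add, hx, hy]
  rw [e] at h
  have h2 := congr_arg Sₐ h
  rw [AlgHom.commutes] at h2
  exact (antipodeAlgHom_antipode _).symm.trans h2

/-- All comodules, in every universe, are semisimple when local integrals exist. -/
theorem isSemisimpleComod_all (h : HasLocalIntegral k A) (V : Type w) [AddCommGroup V] [Module k V]
    [HopfRep.Comod k A V] : HopfRep.IsSemisimpleComod k A V :=
  isSemisimpleComod_of_finite fun W _ _ _ _ => isSemisimpleComod_of_localIntegral h W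

/-- Linear reductivity gives the fixed vector criterion. -/
theorem exists_fixed_of_isLinearlyReductive (h : HopfRep.IsLinearlyReductive k A) {V : Type v}
    [AddCommGroup V] [Module k V] [HopfRep.Comod k A V] [Module.Finite k V] {π : V →ₗ[k] k}
    (hsurj : Function.Surjective π)
    (hπ : LinearMap.rTensor A π ∘ₗ HopfRep.Comod.coact (k := k) (A := A) (V := V) =
      (TensorProduct.mk k k A).flip (1 : A) ∘ₗ π) :
    ∃ v ∈ HopfRep.fixedPts k A V, π v ≠ 0 := by
  letI := HopfRep.Comod.trivial k A k
  obtain ⟨v, hv, hv1⟩ := exists_fixed_preimage (W := k) (h V inferInstance) (φ := π) hπ.symm hsurj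
    (w := 1) rfl
  exact ⟨v, hv, by simp [hv1]⟩

theorem hasLocalIntegral_of_isLinearlyReductive (h : HopfRep.IsLinearlyReductive k A) :
    HasLocalIntegral k A :=
  hasLocalIntegral_of_fixedPts fun _ _ _ _ _ _ hsurj hπ => exists_fixed_of_isLinearlyReductive h hsurj hπ

/-- A normalised invariant functional on the whole algebra. -/
theorem exists_integral (h : HopfRep.IsLinearlyReductive k A) :
    ∃ l : A →ₗ[k] k, l 1 = 1 ∧ ∀ a, LeftInvAt l a := by
  let W : Submodule k A := k ∙ (1 : A)
  have hW : HopfRep.IsSubcomod (k := k) (A := A) W := by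
    intro w hw
    obtain ⟨c, rfl⟩ := Submodule.mem_span_singleton.mp hw
    refine ⟨(⟨c • 1, hw⟩ : W) ⊗ₜ[k] (1 : A), ?_⟩
    simp [HopfRep.Comod.coact, Bialgebra.comul_one, Algebra.TensorProduct.one_def, TensorProduct.smul_tmul']
  obtain ⟨H, hH, hc⟩ := isSemisimpleComod_of_isLinearlyReductive h A W hW
  let T := W.projection H hc
  refine ⟨counit ∘ₗ T, ?_, fun a => ?_⟩
  · have h1 : T 1 = 1 := by
      show (W.projectionOnto H hc 1 : A) = 1
      rw [Submodule.projectionOnto_apply_of_mem_left hc (Submodule.mem_span_singleton_self 1)]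
    simp [h1]
  obtain ⟨x, hx, y, hy, rfl⟩ : ∃ x ∈ W, ∃ y ∈ H, x + y = a :=
    Submodule.mem_sup.mp (by rw [hc.sup_eq_top]; trivial)
  obtain ⟨c, rfl⟩ := Submodule.mem_span_singleton.mp hx
  have hTy : ∀ z ∈ H, T z = 0 := fun z hz => by
    show (W.projectionOnto H hc z : A) = 0
    rw [(Submodule.projectionOnto_apply_eq_zero_iff hc).mpr hz, Submodule.coe_zero]
  have hTx : T (c • 1) = c • 1 := by
    show (W.projectionOnto H hc (c • (1 : A)) : A) = c • 1
    rw [Submodule.projectionOnto_apply_of_mem_left hc hx]
  obtain ⟨t, ht⟩ := hH y hy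
  have ey : cL (counit ∘ₗ T) (comul (R := k) y) = 0 := by
    rw [show comul (R := k) y = H.subtype.rTensor A t from ht.symm]
    clear ht
    induction t using TensorProduct.induction_on with
    | zero => simp
    | tmul p q => simp [hTy _ p.2]
    | add p q hp hq => simp only [map_add, hp, hq, add_zero]
  have hT1 : T 1 = 1 := by
    show (W.projectionOnto H hc 1 : A) = 1
    rw [Submodule.projectionOnto_apply_of_mem_left hc (Submodule.mem_span_singleton_self 1)]
  simp [LeftInvAt, ey, hTy y hy, hT1, Bialgebra.comul_one, Algebra.TensorProduct.one_def,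
    Algebra.algebraMap_eq_smul_one]

/-- A finite Hopf algebra of rank invertible in the field is linearly reductive. -/
theorem isLinearlyReductive_of_finrank [Module.Finite k A] (hne : (Module.finrank k A : k) ≠ 0) :
    HopfRep.IsLinearlyReductive k A := by
  let tr : A →ₗ[k] k := (Module.finrank k A : k)⁻¹ • Algebra.trace k A
  have htr : ∀ a, cR tr (comul (R := k) a) = algebraMap k A (tr a) := fun a => by
    have e : ∀ t : A ⊗[k] A, cR tr t = (Module.finrank k A : k)⁻¹ •
        TensorProduct.rid k A ((Algebra.trace k A).lTensor A t) := fun t => by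
      induction t using TensorProduct.induction_on with
      | zero => simp
      | tmul x y => simp [tr, smul_smul]
      | add x y hx hy => simp only [map_add, hx, hy, smul_add]
    rw [e, trace_integral]
    simp [tr, Algebra.algebraMap_eq_smul_one, smul_smul]
  have h1 : tr 1 = 1 := by
    have e := Algebra.trace_algebraMap (R := k) (S := A) 1
    rw [map_one] at e
    simp [tr, e, nsmul_eq_mul, hne]
  exact isLinearlyReductive_of_localIntegral k A fun s =>
    ⟨tr ∘ₗ HopfAlgebra.antipode k, by simp [HopfAlgebra.antipode_one, h1],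
      fun a _ => leftInvAt_antipode htr a⟩

end Groth.Agent.Comod
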