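import Groth.Agent.Comod.Reductive
import Groth.Agent.Comod.Transfer
import Groth.Prelude.Def_SGA3
import Groth.Prelude.Def_Dyn
import Mathlib.RingTheory.FiniteType
import Mathlib.RingTheory.HopfAlgebra.Quotient

/-!
# Closed subgroups as stabilizers of lines
-/

universe u v w
open TensorProduct Matrix
noncomputable section

namespace Groth.Agent.Comod.LineStab

section Wedge
variable {R : Type*} [CommRing R] {d e : ℕ}

/-- The coordinates of the wedge of the first `d` columns. -/
def D (G : Matrix (Fin d ⊕ Fin e) (Fin d ⊕ Fin e) R) (f : Fin d → Fin d ⊕ Fin e) : R :=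
  (G.submatrix f Sum.inl).det

lemma D_mul (X Y : Matrix (Fin d ⊕ Fin e) (Fin d ⊕ Fin e) R) (g : Fin d → Fin d ⊕ Fin e) :
    D (X * Y) g = ∑ f : Fin d → Fin d ⊕ Fin e, (∏ i, X (g i) (f i)) * D Y f := by
  classical
  have h : (X * Y).submatrix g Sum.inl =
      fun i => ∑ j, X (g i) j • fun l => Y j (Sum.inl l) := by
    ext i l
    simp [Matrix.mul_apply, Finset.sum_apply]
  show (Matrix.detRowAlternating (R := R) (n := Fin d)).toMultilinearMap
      ((X * Y).submatrix g Sum.inl) = _
  rw [h, MultilinearMap.map_sum]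
  refine Finset.sum_congr rfl fun f _ => ?_
  rw [MultilinearMap.map_smul_univ, smul_eq_mul]
  rfl

lemma D_map {S : Type*} [CommRing S] (φ : R →+* S) (G : Matrix (Fin d ⊕ Fin e) (Fin d ⊕ Fin e) R)
    (f : Fin d → Fin d ⊕ Fin e) : φ (D G f) = D (G.map φ) f := by
  simp [D, RingHom.map_det, Matrix.submatrix_map]

lemma D_one_inl : D (1 : Matrix (Fin d ⊕ Fin e) (Fin d ⊕ Fin e) R) Sum.inl = 1 := by
  rw [D, Matrix.submatrix_one _ Sum.inl_injective, Matrix.det_one]

lemma D_of_block {G : Matrix (Fin d ⊕ Fin e) (Fin d ⊕ Fin e) R}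
    (h : ∀ a j, G (Sum.inr a) (Sum.inl j) = 0) (f : Fin d → Fin d ⊕ Fin e) :
    D G f = D 1 f * (G.submatrix Sum.inl Sum.inl).det := by
  rw [D, D, ← Matrix.det_mul]
  congr 1
  ext i j
  rcases hf : f i with l | a
  · simp [Matrix.mul_apply, hf, Matrix.one_apply]
  · simp [Matrix.mul_apply, hf, Matrix.one_apply, h]

lemma block_of_D {H G : Matrix (Fin d ⊕ Fin e) (Fin d ⊕ Fin e) R} (hHG : H * G = 1) (c : R)
    (h : ∀ f, D G f = c * D 1 f) : ∀ a j, G (Sum.inr a) (Sum.inl j) = 0 := by
  classical
  have hc : IsUnit c := by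
    refine IsUnit.of_mul_eq_one (D H Sum.inl) ?_
    calc c * D H Sum.inl = c * D (H * 1) Sum.inl := by rw [Matrix.mul_one]
      _ = D (H * G) Sum.inl := by
          rw [D_mul, D_mul, Finset.mul_sum]
          exact Finset.sum_congr rfl fun f _ => by rw [h]; ring
      _ = 1 := by rw [hHG, D_one_inl]
  intro a j
  set G₁ := G.submatrix (Sum.inl : Fin d → Fin d ⊕ Fin e) Sum.inl with hG₁
  have hdet : G₁.det = c := by
    have := h Sum.inl
    rwa [D_one_inl, mul_one] at this
  let x : Fin d → R := fun l => G (Sum.inr a) (Sum.inl l)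
  have hrow : ∀ i, (G₁.updateRow i x).det = 0 := by
    intro i
    have h1 : G₁.updateRow i x = G.submatrix (Function.update Sum.inl i (Sum.inr a)) Sum.inl := by
      ext l l'
      rcases eq_or_ne l i with rfl | hl
      · simp [x]
      · simp [hl, G₁]
    have h2 : D (1 : Matrix (Fin d ⊕ Fin e) (Fin d ⊕ Fin e) R)
        (Function.update Sum.inl i (Sum.inr a)) = 0 :=
      Matrix.det_eq_zero_of_row_eq_zero i fun l => by simp
    rw [h1]
    exact (h _).trans (by rw [h2, mul_zero])
  have hv : Matrix.vecMul x G₁.adjugate = 0 := by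
    funext i
    rw [Pi.zero_apply, ← hrow i, ← Matrix.cramer_transpose_apply, Matrix.cramer_eq_adjugate_mulVec,
      ← Matrix.adjugate_transpose, Matrix.mulVec_transpose]
  have := congr(Matrix.vecMul $hv G₁)
  rw [Matrix.vecMul_vecMul, Matrix.adjugate_mul, Matrix.vecMul_smul, Matrix.vecMul_one,
    Matrix.zero_vecMul, hdet] at this
  exact hc.mul_right_eq_zero.mp (congrFun this j)

end Wedge

section Corep
variable {k : Type u} [CommRing k] {A : Type v} [CommRing A] [Bialgebra k A]
  {n : Type*} [Fintype n] [DecidableEq n] {m : Type*} [Fintype m] [DecidableEq m]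

/-- Tensor power of a matrix. -/
def pw (d : ℕ) {R : Type*} [CommRing R] (M : Matrix n n R) : Matrix (Fin d → n) (Fin d → n) R :=
  .of fun f g => ∏ i, M (f i) (g i)

/-- Tensor product of two matrices. -/
def kron {R : Type*} [CommRing R] (M : Matrix n n R) (N : Matrix m m R) : Matrix (n × m) (n × m) R :=
  .of fun p q => M p.1 q.1 * N p.2 q.2

lemma isCorep_pw {M : Matrix n n A} (hM : IsCorep (k := k) M) (d : ℕ) :
    IsCorep (k := k) (pw d M) := by
  constructor
  · ext f g
    have h : ∀ i, Bialgebra.comulAlgHom k A (M (f i) (g i)) = ∑ j, M (f i) j ⊗ₜ[k] M j (g i) := fun i => by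
      simpa [Matrix.mul_apply] using congrFun (congrFun hM.map_comul (f i)) (g i)
    simp only [Matrix.map_apply, pw, Matrix.of_apply, map_prod, h, Matrix.mul_apply,
      Fintype.prod_sum, Finset.prod_mul_distrib.symm]
    refine Finset.sum_congr rfl fun x _ => Finset.prod_congr rfl fun i _ => ?_
    simp
  · ext f g
    have h : ∀ i, Bialgebra.counitAlgHom k A (M (f i) (g i)) = if f i = g i then 1 else 0 := fun i => by
      simpa [Matrix.one_apply] using congrFun (congrFun hM.map_counit (f i)) (g i)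
    simp only [Matrix.map_apply, pw, Matrix.of_apply, map_prod, h]
    by_cases hfg : f = g
    · subst hfg; simp
    · obtain ⟨i, hi⟩ := Function.ne_iff.mp hfg
      rw [Finset.prod_eq_zero (Finset.mem_univ i) (if_neg hi), Matrix.one_apply_ne hfg]

lemma isCorep_kron {M : Matrix n n A} (hM : IsCorep (k := k) M) {N : Matrix m m A}
    (hN : IsCorep (k := k) N) : IsCorep (k := k) (kron M N) := by
  constructor
  · ext p q
    have h1 : Bialgebra.comulAlgHom k A (M p.1 q.1) = ∑ j, M p.1 j ⊗ₜ[k] M j q.1 := by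
      simpa [Matrix.mul_apply] using congrFun (congrFun hM.map_comul p.1) q.1
    have h2 : Bialgebra.comulAlgHom k A (N p.2 q.2) = ∑ j, N p.2 j ⊗ₜ[k] N j q.2 := by
      simpa [Matrix.mul_apply] using congrFun (congrFun hN.map_comul p.2) q.2
    simp only [Matrix.map_apply, kron, Matrix.of_apply, map_mul, h1, h2, Finset.sum_mul_sum,
      Matrix.mul_apply, Fintype.sum_prod_type]
    simp
  · ext p q
    have h1 : Bialgebra.counitAlgHom k A (M p.1 q.1) = if p.1 = q.1 then 1 else 0 := by
      simpa [Matrix.one_apply] using congrFun (congrFun hM.map_counit p.1) q.1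
    have h2 : Bialgebra.counitAlgHom k A (N p.2 q.2) = if p.2 = q.2 then 1 else 0 := by
      simpa [Matrix.one_apply] using congrFun (congrFun hN.map_counit p.2) q.2
    simp only [Matrix.map_apply, kron, Matrix.of_apply, map_mul, h1, h2, Matrix.one_apply, Prod.ext_iff]
    split_ifs <;> simp_all

end Corep

variable {k : Type u} [Field k] {A : Type u} [CommRing A]

lemma tensor_eq_of_proj {n : Type*} [Fintype n] [DecidableEq n] {R : Type*} [AddCommGroup R]
    [Module k R] {s t : (n → k) ⊗[k] R}
    (h : ∀ i, cL (LinearMap.proj i) s = cL (LinearMap.proj i) t) : s = t := by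
  refine tensor_eq_of_cL fun φ => ?_
  have hφ : φ = ∑ i, φ (Pi.single i 1) • LinearMap.proj i := by
    refine LinearMap.pi_ext' fun i => LinearMap.ext_ring ?_
    simp [Pi.single_apply]
  rw [hφ]
  have hcL : ∀ (r : n → k) (y : (n → k) ⊗[k] R),
      cL (∑ i, r i • (LinearMap.proj i : (n → k) →ₗ[k] k)) y = ∑ i, r i • cL (LinearMap.proj i) y := by
    intro r y
    induction y using TensorProduct.induction_on with
    | zero => simp
    | tmul a b => simp [Finset.sum_smul, smul_smul]
    | add a b ha hb => simp [map_add, ha, hb, Finset.sum_add_distrib]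
  rw [hcL, hcL]
  simp [h]

section Bialg
variable [Bialgebra k A]

/-- The comodule of a matrix corepresentation over a bialgebra. -/
@[reducible] def ofM {n : Type*} [Fintype n] [DecidableEq n] {M : Matrix n n A}
    (hM : IsCorep (k := k) M) : HopfRep.Comod k A (n → k) where
  coact := (Pi.basisFun k n).constr k fun j => ∑ i, Pi.basisFun k n i ⊗ₜ[k] M i j
  coassoc := (Pi.basisFun k n).ext fun j => by
    simp only [LinearMap.comp_apply, Module.Basis.constr_basis, map_sum, LinearMap.rTensor_tmul,
      LinearMap.lTensor_tmul, TensorProduct.sum_tmul, LinearEquiv.coe_coe, TensorProduct.assoc_tmul]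
    rw [Finset.sum_comm]
    refine Finset.sum_congr rfl fun i _ => ?_
    rw [← TensorProduct.tmul_sum]
    congr 1
    have h := congrFun (congrFun hM.map_comul i) j
    simp only [Matrix.map_apply, Bialgebra.comulAlgHom_apply, Matrix.mul_apply,
      Algebra.TensorProduct.includeLeft_apply, Algebra.TensorProduct.includeRight_apply,
      Algebra.TensorProduct.tmul_mul_tmul, mul_one, one_mul] at h
    exact h.symm
  counit_comp := (Pi.basisFun k n).ext fun j => by
    have h : ∀ i, CoalgebraStruct.counit (R := k) (M i j) = if i = j then 1 else 0 := fun i => by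
      have h := congrFun (congrFun hM.map_counit i) j
      simpa [Matrix.one_apply] using h
    simp [Module.Basis.constr_basis, map_sum, h, TensorProduct.tmul_ite]

lemma act_iff {n : Type*} [Fintype n] [DecidableEq n] {P : Matrix n n A}
    (hP : IsCorep (k := k) P) {R : Type*} [CommRing R] [Algebra k R] (g : A →ₐ[k] R)
    (x : n → k) (c : R) :
    (LinearMap.lTensor (n → k) g.toLinearMap ((ofM hP).coact x) = x ⊗ₜ[k] c) ↔
      ∀ i, ∑ j, g (P i j) * algebraMap k R (x j) = algebraMap k R (x i) * c := by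
  have key : ∀ i, cL (LinearMap.proj i) (LinearMap.lTensor (n → k) g.toLinearMap
      ((ofM hP).coact x)) = ∑ j, g (P i j) * algebraMap k R (x j) := by
    intro i
    show cL (LinearMap.proj i) (LinearMap.lTensor (n → k) g.toLinearMap
      ((Pi.basisFun k n).constr k (fun j => ∑ i, Pi.basisFun k n i ⊗ₜ[k] P i j) x)) = _
    rw [Module.Basis.constr_apply_fintype]
    simp [map_sum, map_smul, Pi.single_apply, Finset.smul_sum, Algebra.smul_def, mul_comm]
  constructor
  · intro h i
    rw [← key i, h]
    simp [Algebra.smul_def]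
  · intro h
    refine tensor_eq_of_proj fun i => ?_
    rw [key i, h i]
    simp [Algebra.smul_def]

/-- A corepresentation whose block below the diagonal cuts out the given ideal. -/
theorem exists_adapted [Algebra.FiniteType k A] (I : Ideal A)
    (hε : ∀ x ∈ I, CoalgebraStruct.counit (R := k) x = 0)
    (hΔ : ∀ x ∈ I, TensorProduct.map (I.restrictScalars k).mkQ (I.restrictScalars k).mkQ
      (CoalgebraStruct.comul (R := k) x) = 0) :
    ∃ (d e : ℕ) (M : Matrix (Fin d ⊕ Fin e) (Fin d ⊕ Fin e) A), IsCorep (k := k) M ∧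
      (∀ a j, M (Sum.inr a) (Sum.inl j) ∈ I) ∧
      I ≤ Ideal.span (Set.range fun p : Fin e × Fin d => M (Sum.inr p.1) (Sum.inl p.2)) := by
  classical
  haveI : IsNoetherianRing A := Algebra.FiniteType.isNoetherianRing k A
  obtain ⟨s, hs⟩ := (isNoetherianRing_iff_ideal_fg A).mp inferInstance I
  obtain ⟨S, hS, hfin⟩ := exists_finite_subcomod_finset (K := k) (C := A) (V := A) s
  let H := ofDSub S
  letI cH := ComodSub.Comod.restr (inferInstance : HopfRep.Comod k A A) H (isSubcomod_ofDSub S)
  let W₀ : Submodule k H := (I.restrictScalars k).comap H.subtype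
  obtain ⟨W₁, hW⟩ := W₀.exists_isCompl
  haveI : Module.Free k W₀ := Module.Free.of_divisionRing k W₀
  haveI : Module.Free k W₁ := Module.Free.of_divisionRing k W₁
  let b : Module.Basis (Fin (Module.finrank k W₀) ⊕ Fin (Module.finrank k W₁)) k H :=
    ((Module.finBasis k W₀).prod (Module.finBasis k W₁)).map (Submodule.prodEquivOfIsCompl W₀ W₁ hW)
  let M := coMatrix (A := A) b
  have hM : IsCorep (k := k) M := isCorep_coMatrix b
  have hb : ∀ j, CoalgebraStruct.comul (R := k) (b j : A) = ∑ i, (b i : A) ⊗ₜ[k] M i j := fun j => by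
    have h1 := ComodSub.restr_coact_coe (inferInstance : HopfRep.Comod k A A) H (isSubcomod_ofDSub S) (b j)
    rw [coact_basis b j, map_sum] at h1
    exact h1.symm
  have hbl : ∀ j, (b (Sum.inl j) : A) ∈ I := fun j => by
    have : b (Sum.inl j) = (Module.finBasis k W₀ j : H) := by simp [b]
    rw [this]
    exact (Module.finBasis k W₀ j).2
  have hbr : ∀ a, b (Sum.inr a) = (Module.finBasis k W₁ a : H) := fun a => by simp [b]
  refine ⟨_, _, M, hM, fun a j => ?_, ?_⟩
  · let φ : W₁ →ₗ[k] A ⧸ I.restrictScalars k := (I.restrictScalars k).mkQ ∘ₗ H.subtype ∘ₗ W₁.subtype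
    have hφ : LinearMap.ker φ = ⊥ := by
      refine (Submodule.eq_bot_iff _).mpr fun x hx => Subtype.ext ?_
      exact Submodule.disjoint_def.mp hW.disjoint (x : H)
        ((Submodule.Quotient.mk_eq_zero (I.restrictScalars k)).mp (LinearMap.mem_ker.mp hx) : ((x : H) : A) ∈ I.restrictScalars k) x.2
    obtain ⟨L, hL⟩ : ∃ L : (A ⧸ I.restrictScalars k) →ₗ[k] W₁, L ∘ₗ φ = LinearMap.id :=
      LinearMap.exists_leftInverse_of_injective (K := k) (V := W₁) (V' := A ⧸ I.restrictScalars k) φ hφ
    let ξ := (Module.finBasis k W₁).coord a ∘ₗ L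
    have h := congr(cL ξ $(hΔ _ (hbl j)))
    rw [hb, map_sum, map_sum, map_zero, Fintype.sum_sum_type] at h
    have h0 : ∀ l, (I.restrictScalars k).mkQ (b (Sum.inl l) : A) = 0 := fun l =>
      (Submodule.Quotient.mk_eq_zero _).mpr (hbl l)
    have h1 : ∀ l, ξ ((I.restrictScalars k).mkQ (b (Sum.inr l) : A)) = if l = a then 1 else 0 := fun l => by
      have : L (φ (Module.finBasis k W₁ l)) = Module.finBasis k W₁ l := congr($hL _)
      rw [hbr]
      show (Module.finBasis k W₁).coord a (L (φ (Module.finBasis k W₁ l))) = _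
      simp [this, Finsupp.single_apply]
    simp only [TensorProduct.map_tmul, h0, TensorProduct.zero_tmul, map_zero, Finset.sum_const_zero,
      zero_add, cL_tmul, h1, ite_smul, one_smul, zero_smul, Finset.sum_ite_eq', Finset.mem_univ,
      if_true] at h
    exact (Submodule.Quotient.mk_eq_zero _).mp h
  · rw [← hs, Ideal.span_le]
    intro x hx
    have hxI : x ∈ I := hs ▸ Ideal.subset_span hx
    let y : H := ⟨x, hS x hx⟩
    have hy : x = ∑ i, b.repr y i • (b i : A) := by
      have h := congrArg H.subtype (b.sum_repr y).symm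
      rw [map_sum] at h
      exact h
    have hy0 : ∀ a, b.repr y (Sum.inr a) = 0 := fun a => by
      have : (Submodule.prodEquivOfIsCompl W₀ W₁ hW).symm y = (⟨y, hxI⟩, 0) :=
        (Submodule.prodEquivOfIsCompl W₀ W₁ hW).injective (by
          rw [LinearEquiv.apply_symm_apply]
          show y = ((⟨y, hxI⟩ : W₀) : H) + ((0 : W₁) : H)
          simp)
      simp [b, this]
    have hcol : ∀ j, (b j : A) = ∑ i, CoalgebraStruct.counit (R := k) (b i : A) • M i j := fun j => by
      have h := congr(TensorProduct.lid k A $(Coalgebra.rTensor_counit_comul (R := k) (b j : A)))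
      rw [hb, map_sum, map_sum] at h
      simpa using h.symm
    rw [SetLike.mem_coe, hy, Fintype.sum_sum_type]
    simp only [hy0, zero_smul, Finset.sum_const_zero, add_zero]
    refine Submodule.sum_mem _ fun j _ => Submodule.smul_of_tower_mem _ _ ?_
    rw [hcol, Fintype.sum_sum_type]
    simp only [fun l => hε _ (hbl l), zero_smul, Finset.sum_const_zero, zero_add]
    exact Submodule.sum_mem _ fun a _ =>
      Submodule.smul_of_tower_mem _ _ (Ideal.subset_span ⟨(a, j), rfl⟩)

end Bialg

section Hopf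
variable [HopfAlgebra k A]

/-- The coordinates of the distinguished vector. -/
abbrev vec (d e : ℕ) : (Fin d → Fin d ⊕ Fin e) → k := fun f => D 1 f

variable {d e : ℕ} {M : Matrix (Fin d ⊕ Fin e) (Fin d ⊕ Fin e) A}


lemma D_act {R : Type*} [CommRing R] [Algebra k R] (g : A →ₐ[k] R) (f : Fin d → Fin d ⊕ Fin e) :
    ∑ h, g (pw d M f h) * algebraMap k R (vec d e h) = D (M.map g) f := by
  rw [← Matrix.mul_one (M.map g), D_mul]
  refine Finset.sum_congr rfl fun h _ => ?_
  congr 1
  · simp [pw, map_prod]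
  · rw [vec, D_map, Matrix.map_one _ (map_zero _) (map_one _)]

lemma vec_eq {R : Type*} [CommRing R] [Algebra k R] (f : Fin d → Fin d ⊕ Fin e) :
    algebraMap k R (vec d e f) = D 1 f := by
  rw [vec, D_map, Matrix.map_one _ (map_zero _) (map_one _)]

lemma inv_map (hM : IsCorep (k := k) M) {R : Type*} [CommRing R] [Algebra k R] (g : A →ₐ[k] R) :
    (M.map (HopfAlgebra.antipodeAlgHom k A)).map g * M.map g = 1 := by
  rw [← Matrix.map_mul, hM.antipode_mul, Matrix.map_one _ (map_zero _) (map_one _)]

lemma kills_iff {I : Ideal A} (hI₁ : ∀ a j, M (Sum.inr a) (Sum.inl j) ∈ I)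
    (hI₂ : I ≤ Ideal.span (Set.range fun p : Fin e × Fin d => M (Sum.inr p.1) (Sum.inl p.2)))
    {R : Type*} [CommRing R] [Algebra k R] (g : A →ₐ[k] R) :
    (∀ x ∈ I, g x = 0) ↔ ∀ a j, (M.map g) (Sum.inr a) (Sum.inl j) = 0 := by
  refine ⟨fun h a j => h _ (hI₁ a j), fun h x hx => ?_⟩
  have : Ideal.span (Set.range fun p : Fin e × Fin d => M (Sum.inr p.1) (Sum.inl p.2)) ≤
      RingHom.ker g := Ideal.span_le.mpr (by rintro _ ⟨p, rfl⟩; exact h p.1 p.2)
  exact this (hI₂ hx)

variable [Algebra.FiniteType k A]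

theorem exists_line (I : Ideal A)
    (hε : ∀ x ∈ I, CoalgebraStruct.counit (R := k) x = 0)
    (hΔ : ∀ x ∈ I, TensorProduct.map (I.restrictScalars k).mkQ (I.restrictScalars k).mkQ
      (CoalgebraStruct.comul (R := k) x) = 0) :
    ∃ (V : Type u) (_ : AddCommGroup V) (_ : Module k V) (_ : HopfRep.Comod k A V)
      (_ : Module.Finite k V) (v : V), v ≠ 0 ∧
        Dyn.Represents k A I (fun R _ _ g => SGA3.StabilizesLine k A v R g) := by
  obtain ⟨d, e, M, hM, hI₁, hI₂⟩ := exists_adapted I hε hΔ
  refine ⟨(Fin d → Fin d ⊕ Fin e) → k, inferInstance, inferInstance,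
    ofM (isCorep_pw hM d), inferInstance, vec d e,
    fun h => one_ne_zero (D_one_inl.symm.trans (congrFun h Sum.inl)), fun R _ _ g => ?_⟩
  rw [kills_iff hI₁ hI₂ g]
  dsimp only
  unfold SGA3.StabilizesLine
  simp only [act_iff (isCorep_pw hM d) g]
  simp only [D_act]
  simp only [vec_eq]
  exact ⟨fun h => ⟨_, fun f => D_of_block h f⟩, fun ⟨c, hc⟩ =>
    block_of_D (inv_map hM g) c fun f => (hc f).trans (mul_comm _ _)⟩

theorem exists_line_trivial {B : Type u} [CommRing B] [HopfAlgebra k B] (π : A →ₐc[k] B)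
    (hocc : ∀ χ : B, IsGroupLikeElem k χ → (∃ (V : Type u) (_ : AddCommGroup V) (_ : Module k V)
      (_ : HopfRep.Comod k A V) (_ : Module.Finite k V) (v : V), v ≠ 0 ∧
      LinearMap.lTensor V π.toLinearMap (HopfRep.Comod.coact (k := k) (A := A) v) = v ⊗ₜ[k] χ) →
      ∃ m : ℕ, 0 < m ∧ ∃ ψ : B, IsGroupLikeElem k ψ ∧ ψ * χ ^ m = 1 ∧
        ∃ (V : Type u) (_ : AddCommGroup V) (_ : Module k V) (_ : HopfRep.Comod k A V)
          (_ : Module.Finite k V) (v : V), v ≠ 0 ∧
          LinearMap.lTensor V π.toLinearMap (HopfRep.Comod.coact (k := k) (A := A) v) = v ⊗ₜ[k] ψ) :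
    ∃ (V : Type u) (_ : AddCommGroup V) (_ : Module k V) (_ : HopfRep.Comod k A V)
      (_ : Module.Finite k V) (v : V), v ≠ 0 ∧
        Dyn.Represents k A (RingHom.ker (π : A →+* B)) (fun R _ _ g => SGA3.StabilizesLine k A v R g) ∧
        LinearMap.lTensor V π.toLinearMap (HopfRep.Comod.coact (k := k) (A := A) v) = v ⊗ₜ[k] (1 : B) := by
  classical
  let I : Ideal A := RingHom.ker (π : A →+* B)
  have hπI : ∀ x, x ∈ I ↔ π x = 0 := fun x => RingHom.mem_ker
  have hε : ∀ x ∈ I, CoalgebraStruct.counit (R := k) x = 0 := fun x hx => by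
    rw [← CoalgHomClass.counit_comp_apply π x, (hπI x).mp hx, map_zero]
  have hΔ : ∀ x ∈ I, TensorProduct.map (I.restrictScalars k).mkQ (I.restrictScalars k).mkQ
      (CoalgebraStruct.comul (R := k) x) = 0 := fun x hx => by
    let π' : A ⧸ I.restrictScalars k →ₗ[k] B :=
      (I.restrictScalars k).liftQ (π : A →ₗ[k] B) fun y hy => (hπI y).mp hy
    have hinj : Function.Injective π' := LinearMap.ker_eq_bot.mp
      (Submodule.ker_liftQ_eq_bot _ _ _ fun y hy => (hπI y).mpr hy)
    have hinj2 : Function.Injective (TensorProduct.map π' π') := by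
      rw [← LinearMap.lTensor_comp_rTensor]
      exact (Module.Flat.lTensor_preserves_injective_linearMap _ hinj).comp
        (Module.Flat.rTensor_preserves_injective_linearMap _ hinj)
    apply hinj2
    rw [map_zero, ← LinearMap.comp_apply, ← TensorProduct.map_comp]
    have : π' ∘ₗ (I.restrictScalars k).mkQ = (π : A →ₗ[k] B) := Submodule.liftQ_mkQ _ _ _
    rw [this]
    exact (CoalgHomClass.map_comp_comul_apply π x).trans (by rw [(hπI x).mp hx, map_zero])
  obtain ⟨d, e, M, hM, hI₁, hI₂⟩ := exists_adapted I hε hΔ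
  let πa : A →ₐ[k] B := π
  have hb : ∀ a j, (M.map πa) (Sum.inr a) (Sum.inl j) = 0 :=
    (kills_iff hI₁ hI₂ πa).mp fun x hx => (hπI x).mp hx
  let N₁ := (M.map πa).submatrix (Sum.inl : Fin d → Fin d ⊕ Fin e) Sum.inl
  let χ := N₁.det
  have hχ : IsGroupLikeElem k χ := by
    constructor
    · show Bialgebra.counitAlgHom k B χ = 1
      rw [AlgHom.map_det, show (Bialgebra.counitAlgHom k B).mapMatrix N₁ = 1 from ?_, Matrix.det_one]
      ext i j
      have := congrFun (congrFun hM.map_counit (Sum.inl i)) (Sum.inl j)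
      simpa [N₁, πa, Matrix.one_apply] using this
    · show Bialgebra.comulAlgHom k B χ = χ ⊗ₜ[k] χ
      have h1 : (Bialgebra.comulAlgHom k B).mapMatrix N₁ =
          N₁.map (Algebra.TensorProduct.includeLeft : B →ₐ[k] B ⊗[k] B) *
            N₁.map (Algebra.TensorProduct.includeRight : B →ₐ[k] B ⊗[k] B) := by
        ext i j
        have h := congr(TensorProduct.map (π : A →ₗ[k] B) (π : A →ₗ[k] B)
          $(congrFun (congrFun hM.map_comul (Sum.inl i)) (Sum.inl j)))
        simp only [Matrix.map_apply, Bialgebra.comulAlgHom_apply] at h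
        rw [CoalgHomClass.map_comp_comul_apply] at h
        refine h.trans ?_
        simp only [Matrix.mul_apply, map_sum, Fintype.sum_sum_type]
        have h0 : ∀ a, π (M (Sum.inr a) (Sum.inl j)) = 0 := fun a => hb a j
        simp [N₁, πa, h0]
      rw [AlgHom.map_det, h1, Matrix.det_mul]
      rw [show (N₁.map (Algebra.TensorProduct.includeLeft : B →ₐ[k] B ⊗[k] B)).det = χ ⊗ₜ 1 from
        (AlgHom.map_det _ N₁).symm, show (N₁.map
        (Algebra.TensorProduct.includeRight : B →ₐ[k] B ⊗[k] B)).det = 1 ⊗ₜ χ from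
        (AlgHom.map_det _ N₁).symm]
      simp
  have hD : ∀ f, D (M.map πa) f = D 1 f * χ := fun f => D_of_block hb f
  obtain ⟨m, hm, ψ, _, hψ, V', _, _, cV, _, v', hv'0, hv'⟩ := hocc χ hχ
    ⟨(Fin d → Fin d ⊕ Fin e) → k, inferInstance, inferInstance,
      ofM (isCorep_pw hM d), inferInstance, vec d e,
      fun h => one_ne_zero (D_one_inl.symm.trans (congrFun h Sum.inl)),
      (act_iff (isCorep_pw hM d) πa (vec d e) χ).mpr fun f => by rw [D_act, vec_eq, hD]⟩
  obtain ⟨m, rfl⟩ : ∃ m', m = m' + 1 := ⟨m - 1, by omega⟩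
  let b' := Module.finBasis k V'
  let M' := coMatrix (A := A) b'
  have hM' : IsCorep (k := k) M' := isCorep_coMatrix b'
  let u' : Fin (Module.finrank k V') → k := fun a => b'.repr v' a
  have hu' : ∀ a, ∑ b, π (M' a b) * algebraMap k B (u' b) = algebraMap k B (u' a) * ψ := by
    intro a
    have h := congr(cL (b'.coord a) $hv')
    conv_lhs at h => rw [← b'.sum_repr v']
    simp only [map_sum, map_smul, coact_basis b'] at h
    simp [Finsupp.single_apply, Algebra.smul_def, Finset.mul_sum, mul_comm] at h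
    simp only [mul_comm (algebraMap k B _) ψ]
    exact h
  obtain ⟨a₀, ha₀⟩ : ∃ a, u' a ≠ 0 := by
    by_contra! h0
    exact hv'0 (b'.ext_elem fun a => by simpa [u'] using h0 a)
  let P := kron (pw (m + 1) (pw d M)) M'
  have hP : IsCorep (k := k) P := isCorep_kron (isCorep_pw (isCorep_pw hM d) _) hM'
  let x : ((Fin (m + 1) → Fin d → Fin d ⊕ Fin e) × Fin (Module.finrank k V')) → k :=
    fun p => (∏ l, vec d e (p.1 l)) * u' p.2
  have key : ∀ (R : Type u) [CommRing R] [Algebra k R] (g : A →ₐ[k] R) F a,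
      ∑ q, g (P (F, a) q) * algebraMap k R (x q) =
        (∏ l, D (M.map g) (F l)) * ∑ b, g (M' a b) * algebraMap k R (u' b) := by
    intro R _ _ g F a
    simp only [← D_act, Fintype.prod_sum, Finset.sum_mul_sum, Fintype.sum_prod_type]
    refine Finset.sum_congr rfl fun H _ => Finset.sum_congr rfl fun b _ => ?_
    simp only [P, kron, x, Matrix.of_apply, map_mul, map_prod, Finset.prod_mul_distrib]
    simp only [pw, Matrix.of_apply, map_prod]
    ring
  refine ⟨_, inferInstance, inferInstance, ofM hP, inferInstance, x, ?_, ?_, ?_⟩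
  · intro h
    have := congrFun h (fun _ => Sum.inl, a₀)
    simp [x, vec, D_one_inl, ha₀] at this
  swap
  · refine (act_iff hP πa x 1).mpr fun ⟨F, a⟩ => ?_
    rw [key]
    simp only [hD, Finset.prod_mul_distrib, Finset.prod_const, Finset.card_univ, Fintype.card_fin]
    show (∏ l, D 1 (F l)) * χ ^ (m + 1) * ∑ b, π (M' a b) * algebraMap k B (u' b) = _
    rw [hu', mul_one, map_mul, map_prod]
    simp only [vec_eq]
    linear_combination (∏ l, D (1 : Matrix (Fin d ⊕ Fin e) (Fin d ⊕ Fin e) B) (F l)) *
      algebraMap k B (u' a) * hψ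
  · intro R _ _ g
    constructor
    · intro hg
      dsimp only
      unfold SGA3.StabilizesLine
      refine ⟨1, (act_iff hP g x 1).mpr fun ⟨F, a⟩ => ?_⟩
      have hG := (kills_iff hI₁ hI₂ g).mp hg
      rw [key]
      simp only [D_of_block hG, Finset.prod_mul_distrib, Finset.prod_const, Finset.card_univ,
        Fintype.card_fin, mul_one, map_mul, map_prod, vec_eq, x]
      -- reduce the scalar identities to `B`
      have hker : ∀ y : A, π y = 0 → g y = 0 := hg
      let t : A := (M.submatrix (Sum.inl : Fin d → Fin d ⊕ Fin e) Sum.inl).det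
      have ht : π t = χ := AlgHom.map_det πa _
      have htg : g t = ((M.map g).submatrix (Sum.inl : Fin d → Fin d ⊕ Fin e) Sum.inl).det :=
        AlgHom.map_det g _
      have h0 : π ((∑ b, M' a b * algebraMap k A (u' b)) * t ^ (m + 1) - algebraMap k A (u' a)) = 0 := by
        simp only [map_sub, map_mul, map_sum, map_pow, AlgHomClass.commutes, ht, hu']
        rw [mul_assoc, hψ, mul_one, sub_self]
      have h1 := hker _ h0
      simp only [map_sub, map_mul, map_sum, map_pow, AlgHomClass.commutes, htg, sub_eq_zero] at h1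
      linear_combination (∏ l, D (1 : Matrix (Fin d ⊕ Fin e) (Fin d ⊕ Fin e) R) (F l)) * h1
    · rintro ⟨r, hr⟩
      have hr' : ∀ (F : Fin (m + 1) → Fin d → Fin d ⊕ Fin e) (a : Fin (Module.finrank k V')), (∏ l, D (M.map g) (F l)) * ∑ b, g (M' a b) * algebraMap k R (u' b) =
          (∏ l, D 1 (F l)) * algebraMap k R (u' a) * r := fun F a => by
        rw [← key R g F a, (act_iff hP g x r).mp hr (F, a)]
        simp [x, vec_eq]
      let H := (M.map (HopfAlgebra.antipodeAlgHom k A)).map g
      let wf : (Fin d → Fin d ⊕ Fin e) → R := fun f => ∏ i, H (Sum.inl i) (f i)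
      have hwf : ∑ f, wf f * D (M.map g) f = 1 := by
        rw [← D_mul, inv_map hM g, D_one_inl]
      let H' := (M'.map (HopfAlgebra.antipodeAlgHom k A)).map g
      have hH' : ∑ a, H' a₀ a * ∑ b, g (M' a b) * algebraMap k R (u' b) = algebraMap k R (u' a₀) := by
        have e1 : H' * M'.map g = 1 := by
          rw [← Matrix.map_mul, hM'.antipode_mul, Matrix.map_one _ (map_zero _) (map_one _)]
        have e2 := congr(Matrix.mulVec $e1 (fun b => algebraMap k R (u' b)) a₀)
        rw [← Matrix.mulVec_mulVec, Matrix.one_mulVec] at e2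
        exact e2
      let s : R := (∑ f, wf f * D 1 f) ^ m * (∑ a, H' a₀ a * algebraMap k R (u' a))
      have hf : ∀ f, D (M.map g) f * algebraMap k R (u' a₀) = D 1 f * s * r := by
        intro f
        calc D (M.map g) f * algebraMap k R (u' a₀)
            = D (M.map g) f * (∑ f', wf f' * D (M.map g) f') ^ m *
                ∑ a, H' a₀ a * ∑ b, g (M' a b) * algebraMap k R (u' b) := by
              rw [hwf, hH', one_pow, mul_one]
          _ = ∑ F' : Fin m → Fin d → Fin d ⊕ Fin e, ∑ a, (∏ l, wf (F' l)) * H' a₀ a *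
                ((∏ l, D (M.map g) (Fin.cons (α := fun _ => Fin d → Fin d ⊕ Fin e) f F' l)) *
                  ∑ b, g (M' a b) * algebraMap k R (u' b)) := by
              rw [← Fin.prod_const, Fintype.prod_sum, Finset.mul_sum (a := D (M.map g) f), Finset.sum_mul_sum]
              refine Finset.sum_congr rfl fun F' _ => Finset.sum_congr rfl fun a _ => ?_
              simp only [Fin.prod_univ_succ, Fin.cons_zero, Fin.cons_succ, Finset.prod_mul_distrib]
              ring
          _ = ∑ F' : Fin m → Fin d → Fin d ⊕ Fin e, ∑ a, (∏ l, wf (F' l)) * H' a₀ a *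
                ((∏ l, D 1 (Fin.cons (α := fun _ => Fin d → Fin d ⊕ Fin e) f F' l)) *
                  algebraMap k R (u' a) * r) := by
              simp only [hr']
          _ = _ := by
              simp only [s, ← Fin.prod_const, Fintype.prod_sum, Finset.mul_sum, Finset.sum_mul,
                Fin.prod_univ_succ, Fin.cons_zero, Fin.cons_succ, Finset.prod_mul_distrib]
              rw [Finset.sum_comm]
              refine Finset.sum_congr rfl fun a _ => Finset.sum_congr rfl fun F' _ => ?_
              ring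
      exact (kills_iff hI₁ hI₂ g).mpr (block_of_D (inv_map hM g)
        (s * r * algebraMap k R (u' a₀)⁻¹) fun f => by
        have hu : algebraMap k R (u' a₀) * algebraMap k R (u' a₀)⁻¹ = 1 := by
          rw [← map_mul, mul_inv_cancel₀ ha₀, map_one]
        calc D (M.map g) f = D (M.map g) f * (algebraMap k R (u' a₀) * algebraMap k R (u' a₀)⁻¹) := by
              rw [hu, mul_one]
          _ = _ := by rw [← mul_assoc, hf]; ring)

end Hopf

end Groth.Agent.Comod.LineStab
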