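import Groth.Agent.Comod.Transfer
import Groth.Agent.Comod.Corep
import Mathlib.LinearAlgebra.FiniteDimensional.Basic

/-!
# Finite sets of functions sit in the coefficients of a matrix corepresentation
-/

universe u v
open TensorProduct
noncomputable section

namespace Groth.Agent.Comod

variable (k : Type u) [Field k] {A : Type v} [CommRing A] [Bialgebra k A]

/-- Every finite set of elements is in the span of the entries of some matrix corepresentation. -/
theorem exists_corep_of_finset (s : Finset A) :
    ∃ (n : ℕ) (M : Matrix (Fin n) (Fin n) A), IsCorep (k := k) M ∧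
      ∀ x ∈ s, x ∈ Submodule.span k (Set.range fun p : Fin n × Fin n => M p.1 p.2) := by
  classical
  obtain ⟨S, hS, hfin⟩ := exists_finite_subcomod_finset (K := k) (C := A) (V := A) s
  let W := ofDSub S
  letI := ComodSub.Comod.restr (inferInstance : HopfRep.Comod k A A) W (isSubcomod_ofDSub S)
  let b := Module.finBasis k W
  refine ⟨_, coMatrix (A := A) b, isCorep_coMatrix b, fun x hx => ?_⟩
  let L := Submodule.span k (Set.range fun p : Fin (Module.finrank k W) × Fin (Module.finrank k W) =>
    coMatrix (A := A) b p.1 p.2)
  have hb : ∀ j, (b j : A) ∈ L := fun j => by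
    have h : W.subtype.rTensor A (HopfRep.Comod.coact (k := k) (A := A) (b j)) =
        CoalgebraStruct.comul (R := k) (b j : A) :=
      ComodSub.restr_coact_coe (inferInstance : HopfRep.Comod k A A) W (isSubcomod_ofDSub S) (b j)
    rw [coact_basis b, map_sum] at h
    have h2 := congr(TensorProduct.lid k A ((CoalgebraStruct.counit (R := k) (A := A)).rTensor A $h))
    rw [Coalgebra.rTensor_counit_comul] at h2
    simp only [map_sum, LinearMap.rTensor_tmul, TensorProduct.lid_tmul, one_smul] at h2
    rw [← h2]
    exact sum_mem fun i _ => L.smul_mem _ (Submodule.subset_span ⟨(i, j), rfl⟩)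
  have hW : W ≤ L := by
    intro y hy
    have h := congr_arg W.subtype (b.sum_repr ⟨y, hy⟩)
    simp only [map_sum, map_smul, Submodule.subtype_apply] at h
    rw [← h]
    exact sum_mem fun i _ => L.smul_mem _ (hb i)
  exact hW (hS x hx)

end Groth.Agent.Comod
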