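import Mathlib

/-! Finitely generated stable submodules for flat coalgebras over Noetherian rings. -/

set_option autoImplicit false

open TensorProduct

universe u v w

namespace Groth.Agent.Comod

variable {R : Type u} [CommRing R] {C : Type v} [AddCommGroup C] [Module R C] [Coalgebra R C]
  {V : Type w} [AddCommGroup V] [Module R V]

/-- A finitely generated submodule lies in a finitely generated submodule stable under the coaction. -/
theorem exists_fg_stable [IsNoetherianRing R] [Module.Flat R C] (ρ : V →ₗ[R] V ⊗[R] C)
    (hassoc : (TensorProduct.assoc R V C C).toLinearMap ∘ₗ ρ.rTensor C ∘ₗ ρ =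
      (Coalgebra.comul (R := R) (A := C)).lTensor V ∘ₗ ρ)
    (hcounit : (Coalgebra.counit (R := R) (A := C)).lTensor V ∘ₗ ρ = (TensorProduct.mk R V R).flip 1)
    (M : Submodule R V) (hM : M.FG) :
    ∃ W : Submodule R V, M ≤ W ∧ W.FG ∧ ∀ w ∈ W, ρ w ∈ LinearMap.range (W.subtype.rTensor C) := by
  classical
  obtain ⟨s, hs⟩ := hM
  obtain ⟨W₀, hW₀, hle⟩ := TensorProduct.exists_finite_submodule_left_of_setFinite
    (ρ '' (s : Set V)) (s.finite_toSet.image _)
  let W := (LinearMap.range (W₀.subtype.rTensor C)).comap ρ
  have hWle : W ≤ W₀ := by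
    intro w hw
    obtain ⟨t, ht⟩ := hw
    have h1 : w = TensorProduct.rid R V ((Coalgebra.counit (R := R) (A := C)).lTensor V (ρ w)) := by
      rw [← LinearMap.comp_apply, hcounit]; simp
    rw [h1, ← ht]
    clear ht h1
    induction t using TensorProduct.induction_on with
    | zero => simp
    | tmul a c => simp [W₀.smul_mem]
    | add a b ha hb => simp only [map_add]; exact add_mem ha hb
  refine ⟨W, hs ▸ Submodule.span_le.2 fun v hv => ?_, ?_, fun w hw => ?_⟩
  · exact hle ⟨v, hv, rfl⟩
  · haveI := hW₀
    haveI : IsNoetherian R W₀ := isNoetherian_of_isNoetherianRing_of_finite R W₀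
    haveI : Module.Finite R W :=
      Module.Finite.of_injective (Submodule.inclusion hWle) (Submodule.inclusion_injective hWle)
    exact Module.Finite.iff_fg.1 inferInstance
  · let q := W₀.mkQ
    let g : V →ₗ[R] (V ⧸ W₀) ⊗[R] C := q.rTensor C ∘ₗ ρ
    have hex : Function.Exact (W₀.subtype.rTensor C) (q.rTensor C) :=
      Module.Flat.rTensor_exact C (LinearMap.exact_subtype_mkQ W₀)
    have hker : LinearMap.ker g = W := by
      ext x
      exact hex (ρ x)
    have hex2 : Function.Exact (W.subtype.rTensor C) (g.rTensor C) := by
      refine Module.Flat.rTensor_exact C ?_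
      rw [← hker]
      exact LinearMap.exact_subtype_ker_map g
    refine (hex2 (ρ w)).1 ?_
    apply (TensorProduct.assoc R (V ⧸ W₀) C C).injective
    have key : ∀ t : (V ⊗[R] C) ⊗[R] C, TensorProduct.assoc R (V ⧸ W₀) C C ((q.rTensor C).rTensor C t) =
        q.rTensor (C ⊗[R] C) (TensorProduct.assoc R V C C t) := by
      intro t
      induction t using TensorProduct.induction_on with
      | zero => simp
      | add a b ha hb => simp only [map_add, ha, hb]
      | tmul a c =>
        induction a using TensorProduct.induction_on with
        | zero => simp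
        | add a b ha hb => simp only [TensorProduct.add_tmul, map_add, ha, hb]
        | tmul a b => simp
    rw [LinearMap.rTensor_comp, LinearMap.comp_apply, key, map_zero]
    have h2 := LinearMap.congr_fun hassoc w
    simp only [LinearMap.comp_apply, LinearEquiv.coe_coe] at h2
    rw [h2]
    obtain ⟨t, ht⟩ := hw
    rw [← ht, ← LinearMap.comp_apply, LinearMap.rTensor_comp_lTensor, ← LinearMap.comp_apply]
    clear ht h2
    induction t using TensorProduct.induction_on with
    | zero => simp
    | tmul a c =>
      simp [q, (Submodule.Quotient.mk_eq_zero W₀).2 a.2]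
    | add a b ha hb => simp only [map_add, ha, hb, add_zero]

end Groth.Agent.Comod
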