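import Mathlib.RingTheory.Coalgebra.Convolution
import Mathlib.LinearAlgebra.DirectSum.Finsupp
import Mathlib.LinearAlgebra.Basis.VectorSpace
import Mathlib.LinearAlgebra.Projection
import Mathlib.LinearAlgebra.Dual.Lemmas
import Mathlib.LinearAlgebra.FiniteDimensional.Defs
import Mathlib.RingTheory.SimpleModule.Isotypic
import Mathlib.RingTheory.Artinian.Module
import Groth.Prelude.Def_HopfRep
import Groth.Prelude.Def_Hoch

/-!
# Comodules over a field as modules over the dual algebra
-/

universe u v w w'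
open TensorProduct
noncomputable section

namespace Groth.Agent.Comod

section Tensor
variable {K : Type u} [Field K] {V : Type w} [AddCommGroup V] [Module K V]
  {C : Type v} [AddCommGroup C] [Module K C]

/-- Contraction of the second factor. -/
noncomputable def cR (f : C →ₗ[K] K) : V ⊗[K] C →ₗ[K] V :=
  (TensorProduct.rid K V).toLinearMap ∘ₗ f.lTensor V

/-- Contraction of the first factor. -/
noncomputable def cL (φ : V →ₗ[K] K) : V ⊗[K] C →ₗ[K] C :=
  (TensorProduct.lid K C).toLinearMap ∘ₗ φ.rTensor C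

@[simp] lemma cR_tmul (f : C →ₗ[K] K) (v : V) (c : C) : cR f (v ⊗ₜ[K] c) = f c • v := by
  simp [cR]

@[simp] lemma cL_tmul (φ : V →ₗ[K] K) (v : V) (c : C) : cL φ (v ⊗ₜ[K] c) = φ v • c := by
  simp [cL]

lemma cR_cL (f : C →ₗ[K] K) (φ : V →ₗ[K] K) (t : V ⊗[K] C) : f (cL φ t) = φ (cR f t) := by
  induction t using TensorProduct.induction_on with
  | zero => simp
  | tmul x y => simp [mul_comm]
  | add x y hx hy => simp [hx, hy]

lemma tensor_eq_zero_of_cR {t : V ⊗[K] C} (h : ∀ f, cR f t = 0) : t = 0 := by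
  let b := Module.Free.chooseBasis K C
  apply (TensorProduct.equivFinsuppOfBasisRight b).injective
  rw [map_zero]
  ext i
  have key : ∀ s : V ⊗[K] C, TensorProduct.equivFinsuppOfBasisRight b s i = cR (b.coord i) s := by
    intro s
    induction s using TensorProduct.induction_on with
    | zero => simp
    | tmul x y => simp [TensorProduct.equivFinsuppOfBasisRight_apply_tmul_apply]
    | add x y hx hy => simp [hx, hy]
  simp [key, h]

lemma tensor_eq_of_cR {s t : V ⊗[K] C} (h : ∀ f, cR f s = cR f t) : s = t :=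
  sub_eq_zero.mp (tensor_eq_zero_of_cR fun f => by rw [map_sub, h, sub_self])

lemma tensor_eq_of_cL {s t : V ⊗[K] C} (h : ∀ φ, cL φ s = cL φ t) : s = t := by
  refine tensor_eq_of_cR fun f => ?_
  rw [← sub_eq_zero, ← Module.forall_dual_apply_eq_zero_iff K]
  intro φ
  rw [map_sub, ← cR_cL, ← cR_cL, h, sub_self]

lemma cR_rTensor {W : Type*} [AddCommGroup W] [Module K W] (p : V →ₗ[K] W) (f : C →ₗ[K] K)
    (t : V ⊗[K] C) : cR f (p.rTensor C t) = p (cR f t) := by
  induction t using TensorProduct.induction_on with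
  | zero => simp
  | tmul x y => simp
  | add x y hx hy => simp [hx, hy]

lemma cL_lTensor {D : Type*} [AddCommGroup D] [Module K D] (p : C →ₗ[K] D) (φ : V →ₗ[K] K)
    (t : V ⊗[K] C) : cL φ (p.lTensor V t) = p (cL φ t) := by
  induction t using TensorProduct.induction_on with
  | zero => simp
  | tmul x y => simp
  | add x y hx hy => simp [hx, hy]

lemma mem_range_rTensor_iff (W : Submodule K V) (t : V ⊗[K] C) :
    t ∈ LinearMap.range (W.subtype.rTensor C) ↔ ∀ f, cR f t ∈ W := by
  constructor
  · rintro ⟨s, rfl⟩ f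
    rw [cR_rTensor]
    exact (cR f s).2
  · intro h
    obtain ⟨q, hq⟩ := W.exists_isCompl
    refine ⟨(W.projectionOnto q hq).rTensor C t, tensor_eq_of_cR fun f => ?_⟩
    rw [cR_rTensor, cR_rTensor, Submodule.projectionOnto_apply_of_mem_left hq (h f)]
    rfl

lemma mem_range_lTensor_iff (D : Submodule K C) (t : V ⊗[K] C) :
    t ∈ LinearMap.range (D.subtype.lTensor V) ↔ ∀ φ, cL φ t ∈ D := by
  constructor
  · rintro ⟨s, rfl⟩ φ
    rw [cL_lTensor]
    exact (cL φ s).2
  · intro h
    obtain ⟨q, hq⟩ := D.exists_isCompl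
    refine ⟨(D.projectionOnto q hq).lTensor V t, tensor_eq_of_cL fun φ => ?_⟩
    rw [cL_lTensor, cL_lTensor, Submodule.projectionOnto_apply_of_mem_left hq (h φ)]
    rfl

lemma mem_range_map_iff (W : Submodule K V) (D : Submodule K C) (t : V ⊗[K] C) :
    t ∈ LinearMap.range (TensorProduct.map W.subtype D.subtype) ↔
      (∀ f, cR f t ∈ W) ∧ ∀ φ, cL φ t ∈ D := by
  rw [← mem_range_rTensor_iff, ← mem_range_lTensor_iff]
  constructor
  · rintro ⟨s, rfl⟩
    constructor
    · rw [← LinearMap.rTensor_comp_lTensor]; exact ⟨_, rfl⟩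
    · rw [← LinearMap.lTensor_comp_rTensor]; exact ⟨_, rfl⟩
  · rintro ⟨⟨s, rfl⟩, h⟩
    rw [mem_range_lTensor_iff] at h
    obtain ⟨q, hq⟩ := D.exists_isCompl
    refine ⟨(D.projectionOnto q hq).lTensor W s, tensor_eq_of_cL fun φ => ?_⟩
    have e : (TensorProduct.map W.subtype D.subtype) ((D.projectionOnto q hq).lTensor W s) =
        (D.subtype ∘ₗ D.projectionOnto q hq).lTensor V (W.subtype.rTensor C s) := by
      simp only [← LinearMap.comp_apply]
      congr 1
      ext x y
      simp
    rw [e, cL_lTensor, LinearMap.comp_apply, Submodule.projectionOnto_apply_of_mem_left hq (h φ)]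
    rfl

end Tensor

section Dual
variable (K : Type u) [Field K] (C : Type v) [AddCommGroup C] [Module K C] [Coalgebra K C]

/-- The dual algebra of a coalgebra. -/
abbrev CDual := WithConv (C →ₗ[K] K)

variable {K C} {V : Type w} [AddCommGroup V] [Module K V] [HopfRep.Comod K C V]

local notation "ρ" => HopfRep.Comod.coact (k := K) (A := C)

variable (K C V) in
/-- The action of the dual algebra. -/
noncomputable def dact : CDual K C →ₐ[K] Module.End K V :=
  AlgHom.ofLinearMap
    { toFun := fun f => cR f.ofConv ∘ₗ HopfRep.Comod.coact (k := K) (A := C)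
      map_add' := fun f g => LinearMap.ext fun v => by
        simp [cR, LinearMap.lTensor_add]
      map_smul' := fun a f => LinearMap.ext fun v => by
        simp [cR, LinearMap.lTensor_smul] }
    (LinearMap.ext fun v => by
      have h := congr(TensorProduct.rid K V ($(HopfRep.Comod.counit_comp (k := K) (A := C) (V := V)) v))
      simpa [cR, LinearMap.convOne_def] using h)
    (fun f g => LinearMap.ext fun v => by
      have h := congr(cR ((LinearMap.mul' K K) ∘ₗ TensorProduct.map f.ofConv g.ofConv)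
        ($(HopfRep.Comod.coassoc (k := K) (A := C) (V := V)) v))
      simp only [LinearMap.coe_comp, LinearEquiv.coe_coe, Function.comp_apply] at h
      have hr : ∀ t : V ⊗[K] C, cR ((LinearMap.mul' K K) ∘ₗ TensorProduct.map f.ofConv g.ofConv)
          ((CoalgebraStruct.comul (R := K) (A := C)).lTensor V t) = cR (f * g).ofConv t := by
        intro t
        induction t using TensorProduct.induction_on with
        | zero => simp
        | tmul x y => simp [LinearMap.convMul_def]
        | add x y hx hy => simp [hx, hy]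
      have hl : ∀ t : V ⊗[K] C, cR ((LinearMap.mul' K K) ∘ₗ TensorProduct.map f.ofConv g.ofConv)
          (TensorProduct.assoc K V C C ((ρ).rTensor C t)) =
          cR f.ofConv (ρ (cR g.ofConv t)) := by
        intro t
        induction t using TensorProduct.induction_on with
        | zero => simp
        | tmul x y =>
          rw [LinearMap.rTensor_tmul, cR_tmul, map_smul, map_smul]
          generalize (ρ x) = s
          induction s using TensorProduct.induction_on with
          | zero => simp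
          | tmul a b => simp [smul_smul, mul_comm]
          | add a b ha hb => simp [TensorProduct.add_tmul, map_add, ha, hb]
        | add x y hx hy => simp [hx, hy]
      rw [hl, hr] at h
      exact h.symm)

lemma dact_apply (f : CDual K C) (v : V) : dact K C V f v = cR f.ofConv (ρ v) := rfl

/-- A comodule as a module over the dual algebra. -/
scoped instance dualModule : Module (CDual K C) V :=
  Module.compHom V (dact K C V : CDual K C →ₐ[K] Module.End K V).toRingHom

lemma dmod_smul (f : CDual K C) (v : V) : f • v = dact K C V f v := rfl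

scoped instance dualTower : IsScalarTower K (CDual K C) V :=
  ⟨fun a f v => by
    show dact K C V (a • f) v = a • dact K C V f v
    rw [map_smul]; rfl⟩

/-- The submodule attached to a stable subspace. -/
def toDSub (W : Submodule K V) (hW : ∀ f : CDual K C, ∀ w ∈ W, dact K C V f w ∈ W) :
    Submodule (CDual K C) V where
  carrier := W
  add_mem' := W.add_mem
  zero_mem' := W.zero_mem
  smul_mem' := fun f w hw => hW f w hw

/-- The underlying subspace. -/
def ofDSub (S : Submodule (CDual K C) V) : Submodule K V :=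
  S.restrictScalars K

@[simp] lemma mem_ofDSub {S : Submodule (CDual K C) V} {v : V} : v ∈ ofDSub S ↔ v ∈ S :=
  Iff.rfl

lemma isSubcomod_iff {W : Submodule K V} :
    HopfRep.IsSubcomod (k := K) (A := C) W ↔ ∀ f : CDual K C, ∀ w ∈ W, dact K C V f w ∈ W := by
  simp only [HopfRep.IsSubcomod, mem_range_rTensor_iff, dact_apply]
  exact ⟨fun h f w hw => h w hw _, fun h w hw f => h (WithConv.toConv f) w hw⟩

lemma isSubcomod_ofDSub (S : Submodule (CDual K C) V) :
    HopfRep.IsSubcomod (k := K) (A := C) (ofDSub S) :=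
  isSubcomod_iff.mpr fun f w hw => S.smul_mem f hw

variable (K C V) in
/-- Subcomodules are the submodules over the dual algebra. -/
def subEquiv : {W : Submodule K V // HopfRep.IsSubcomod (k := K) (A := C) W} ≃o
    Submodule (CDual K C) V where
  toFun W := toDSub W.1 (isSubcomod_iff.mp W.2)
  invFun S := ⟨ofDSub S, isSubcomod_ofDSub S⟩
  left_inv W := rfl
  right_inv S := rfl
  map_rel_iff' := fun {a b} => ⟨fun h x hx => h hx, fun h x hx => h hx⟩

lemma mem_subEquiv {W : Submodule K V} {hW : HopfRep.IsSubcomod (k := K) (A := C) W}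
    {x : V} : x ∈ subEquiv K C V ⟨W, hW⟩ ↔ x ∈ W := Iff.rfl

lemma ofDSub_injective : Function.Injective (ofDSub (K := K) (C := C) (V := V)) := fun S T h =>
  SetLike.ext fun x => SetLike.ext_iff.mp h x

lemma ofDSub_eq_bot {S : Submodule (CDual K C) V} : ofDSub S = ⊥ ↔ S = ⊥ :=
  ⟨fun h => ofDSub_injective (h.trans rfl), fun h => h ▸ rfl⟩

lemma ofDSub_eq_top {S : Submodule (CDual K C) V} : ofDSub S = ⊤ ↔ S = ⊤ :=
  ⟨fun h => ofDSub_injective (h.trans rfl), fun h => h ▸ rfl⟩

variable (K C V) in
lemma isSimpleComod_iff :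
    HopfRep.IsSimpleComod K C V ↔ IsSimpleModule (CDual K C) V := by
  constructor
  · rintro ⟨hn, h⟩
    exact { eq_bot_or_eq_top := fun S =>
      (h _ (isSubcomod_ofDSub S)).imp ofDSub_eq_bot.mp ofDSub_eq_top.mp }
  · intro h
    refine ⟨IsSimpleModule.nontrivial (CDual K C) V, fun W hW => ?_⟩
    exact (eq_bot_or_eq_top (subEquiv K C V ⟨W, hW⟩)).imp
      (fun e => (show W = ofDSub (subEquiv K C V ⟨W, hW⟩) from rfl).trans (ofDSub_eq_bot.mpr e))
      (fun e => (show W = ofDSub (subEquiv K C V ⟨W, hW⟩) from rfl).trans (ofDSub_eq_top.mpr e))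

variable (K C V) in
lemma isSemisimpleComod_iff :
    HopfRep.IsSemisimpleComod K C V ↔ IsSemisimpleModule (CDual K C) V := by
  constructor
  · intro h
    refine { exists_isCompl := fun S => ?_ }
    obtain ⟨W', hW', hc⟩ := h _ (isSubcomod_ofDSub S)
    refine ⟨subEquiv K C V ⟨W', hW'⟩, ⟨?_, ?_⟩⟩
    · rw [Submodule.disjoint_def]
      exact fun x h1 h2 => Submodule.disjoint_def.mp hc.disjoint x h1 (mem_subEquiv.mp h2)
    · rw [codisjoint_iff, Submodule.eq_top_iff']
      intro x
      obtain ⟨a, ha, b, hb, hx⟩ := Submodule.mem_sup.mp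
        (show x ∈ ofDSub S ⊔ W' by rw [hc.sup_eq_top]; trivial)
      exact Submodule.mem_sup.mpr ⟨_, mem_ofDSub.mp ha, _, (mem_subEquiv.mpr hb : b ∈ _), hx⟩
  · intro h W hW
    obtain ⟨S, hS⟩ := exists_isCompl (subEquiv K C V ⟨W, hW⟩)
    refine ⟨ofDSub S, isSubcomod_ofDSub S, ⟨?_, ?_⟩⟩
    · rw [Submodule.disjoint_def]
      exact fun x h1 h2 => Submodule.disjoint_def.mp hS.disjoint x (mem_subEquiv.mpr h1) h2
    · rw [codisjoint_iff, Submodule.eq_top_iff']
      intro x
      obtain ⟨a, ha, b, hb, hx⟩ := Submodule.mem_sup.mp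
        (show x ∈ subEquiv K C V ⟨W, hW⟩ ⊔ S by rw [hS.sup_eq_top]; trivial)
      exact Submodule.mem_sup.mpr ⟨_, mem_subEquiv.mp ha, _, mem_ofDSub.mpr hb, hx⟩

variable {W : Type w'} [AddCommGroup W] [Module K W] [HopfRep.Comod K C W]

lemma isComodHom_iff {φ : V →ₗ[K] W} :
    Hoch.IsComodHom C φ ↔ ∀ (f : CDual K C) v, φ (dact K C V f v) = dact K C W f (φ v) := by
  simp only [dact_apply, Hoch.IsComodHom]
  constructor
  · intro h f v
    have := congr(cR f.ofConv ($h v))
    rw [LinearMap.comp_apply, LinearMap.comp_apply, cR_rTensor] at this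
    exact this.symm
  · intro h
    refine LinearMap.ext fun v => tensor_eq_of_cR fun f => ?_
    rw [LinearMap.comp_apply, LinearMap.comp_apply, cR_rTensor]
    exact (h (WithConv.toConv f) v).symm

/-- A comodule map as a map of modules over the dual algebra. -/
def toDHom (φ : V →ₗ[K] W) (h : Hoch.IsComodHom C φ) :
    V →ₗ[CDual K C] W where
  toFun := φ
  map_add' := φ.map_add
  map_smul' := fun f v => isComodHom_iff.mp h f v

/-- A map of modules over the dual algebra as a linear map. -/
def ofDHom (ψ : V →ₗ[CDual K C] W) : V →ₗ[K] W :=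
  (ψ.restrictScalars K : V →ₗ[K] W)

lemma isComodHom_ofDHom (ψ : V →ₗ[CDual K C] W) :
    Hoch.IsComodHom C (ofDHom ψ) :=
  isComodHom_iff.mpr fun f v => ψ.map_smul f v

/-- The space spanned by the coefficients of a subspace. -/
noncomputable def cf (S : Submodule K V) : Submodule K C :=
  ⨆ φ : V →ₗ[K] K, S.map (cL φ ∘ₗ ρ)

lemma mem_cf_of_mem {S : Submodule K V} (φ : V →ₗ[K] K) {v : V} (hv : v ∈ S) : cL φ (ρ v) ∈ cf (C := C) S :=
  Submodule.mem_iSup_of_mem φ ⟨v, hv, rfl⟩

lemma cf_le_iff {S : Submodule K V} {D : Submodule K C} :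
    cf S ≤ D ↔ ∀ (φ : V →ₗ[K] K), ∀ v ∈ S, cL φ (ρ v) ∈ D := by
  rw [cf, iSup_le_iff]
  simp [Submodule.map_le_iff_le_comap, SetLike.le_def]

lemma cf_mono {S T : Submodule K V} (h : S ≤ T) : cf (C := C) S ≤ cf T :=
  cf_le_iff.mpr fun φ _ hv => mem_cf_of_mem φ (h hv)

lemma isLeast_cf :
    IsLeast {D : Submodule K C | ∀ v : V, ρ v ∈ LinearMap.range (D.subtype.lTensor V)} (cf (⊤ : Submodule K V)) :=
  ⟨fun _ => (mem_range_lTensor_iff _ _).mpr fun φ => mem_cf_of_mem φ trivial,
    fun _ hD => cf_le_iff.mpr fun φ v _ => (mem_range_lTensor_iff _ _).mp (hD v) φ⟩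

lemma coeff_smul (f : CDual K C) (φ : V →ₗ[K] K) (v : V) :
    dact K C C f (cL φ (ρ v)) = cL φ (ρ (dact K C V f v)) := by
  have hc := congr(cL φ ($(HopfRep.Comod.coassoc (k := K) (A := C) (V := V)) v))
  simp only [LinearMap.coe_comp, LinearEquiv.coe_coe, Function.comp_apply] at hc
  rw [cL_lTensor] at hc
  rw [dact_apply, dact_apply]
  show cR f.ofConv (CoalgebraStruct.comul (R := K) (cL φ (ρ v))) = _
  rw [← hc]
  generalize (ρ v) = t
  induction t using TensorProduct.induction_on with
  | zero => simp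
  | tmul x y =>
    rw [LinearMap.rTensor_tmul, cR_tmul, map_smul, map_smul]
    generalize (ρ x) = s
    induction s using TensorProduct.induction_on with
    | zero => simp
    | tmul a b => simp [smul_smul, mul_comm]
    | add a b ha hb => simp [TensorProduct.add_tmul, map_add, ha, hb]
  | add x y hx hy => simp [hx, hy]

/-- Coefficient maps are comodule maps to the coalgebra. -/
lemma isComodHom_coeff (φ : V →ₗ[K] K) : Hoch.IsComodHom C (cL φ ∘ₗ ρ) :=
  isComodHom_iff.mpr fun f v => (coeff_smul f φ v).symm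

lemma apply_cL_coact (f : CDual K C) (φ : V →ₗ[K] K) (v : V) :
    f.ofConv (cL φ (ρ v)) = φ (dact K C V f v) :=
  cR_cL _ _ _

lemma cL_comul (ψ : C →ₗ[K] K) (φ : V →ₗ[K] K) (v : V) :
    cL ψ (CoalgebraStruct.comul (R := K) (cL φ (ρ v))) =
      cL (φ ∘ₗ dact K C V (WithConv.toConv ψ)) (ρ v) := by
  refine (Submodule.Quotient.mk_eq_zero (⊥ : Submodule K C)).mp ?_ |> sub_eq_zero.mp
  rw [Submodule.Quotient.mk_eq_zero, Submodule.mem_bot, ← Module.forall_dual_apply_eq_zero_iff K]
  intro g
  rw [map_sub, sub_eq_zero, cR_cL, cR_cL]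
  show ψ (dact K C C (WithConv.toConv g) (cL φ (ρ v))) = _
  rw [coeff_smul, cR_cL]
  rfl

lemma isSubcoalgebra_cf {S : Submodule K V} (hS : HopfRep.IsSubcomod (k := K) (A := C) S) :
    ∀ b ∈ cf (C := C) S, CoalgebraStruct.comul (R := K) b ∈
      LinearMap.range (TensorProduct.map (cf (C := C) S).subtype (cf (C := C) S).subtype) := by
  intro b hb
  suffices cf (C := C) S ≤ (LinearMap.range (TensorProduct.map (cf (C := C) S).subtype
      (cf (C := C) S).subtype)).comap (CoalgebraStruct.comul (R := K)) from this hb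
  refine cf_le_iff.mpr fun φ v hv => Submodule.mem_comap.mpr ((mem_range_map_iff _ _ _).mpr ⟨fun f => ?_, fun ψ => ?_⟩)
  · show dact K C C (WithConv.toConv f) (cL φ (ρ v)) ∈ _
    rw [coeff_smul]
    exact mem_cf_of_mem φ (isSubcomod_iff.mp hS _ v hv)
  · rw [cL_comul]
    exact mem_cf_of_mem _ hv

lemma counit_mem_cf {S : Submodule K C} {x : C} (hx : x ∈ S) : x ∈ cf (V := C) (C := C) S := by
  have h : cL (CoalgebraStruct.counit (R := K) (A := C))
      (HopfRep.Comod.coact (k := K) (A := C) (V := C) x) = x := by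
    show TensorProduct.lid K C ((CoalgebraStruct.counit (R := K) (A := C)).rTensor C
      (CoalgebraStruct.comul (R := K) x)) = x
    rw [Coalgebra.rTensor_counit_comul]; simp
  exact h ▸ mem_cf_of_mem _ hx

lemma cf_le_subcoalgebra {S D : Submodule K C} (hSD : S ≤ D)
    (hD : ∀ b ∈ D, CoalgebraStruct.comul (R := K) b ∈
      LinearMap.range (TensorProduct.map D.subtype D.subtype)) : cf (V := C) (C := C) S ≤ D :=
  cf_le_iff.mpr fun φ _ hv => ((mem_range_map_iff _ _ _).mp (hD _ (hSD hv))).2 φ

lemma isSubcomod_of_subcoalgebra {D : Submodule K C}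
    (hD : ∀ b ∈ D, CoalgebraStruct.comul (R := K) b ∈
      LinearMap.range (TensorProduct.map D.subtype D.subtype)) :
    HopfRep.IsSubcomod (k := K) (A := C) D :=
  isSubcomod_iff.mpr fun _ w hw => ((mem_range_map_iff _ _ _).mp (hD w hw)).1 _

/-- Coefficient spaces only depend on the isomorphism class. -/
lemma cf_congr (S : Submodule (CDual K C) V) (T : Submodule (CDual K C) W)
    (e : S ≃ₗ[CDual K C] T) : cf (C := C) (ofDSub S) = cf (ofDSub T) := by
  refine Subspace.dualAnnihilator_inj.mp (SetLike.ext fun g => ?_)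
  have h1 : ∀ {f : CDual K C}, (∀ x : S, f • x = 0) ↔ (∀ y : T, f • y = 0) := fun {f} =>
    ⟨fun h y => by
      obtain ⟨x, rfl⟩ := e.surjective y
      rw [← map_smul, h, map_zero],
    fun h x => e.injective (by rw [map_smul, h, map_zero])⟩
  simp only [Submodule.mem_dualAnnihilator]
  constructor
  · intro h c hc
    suffices cf (C := C) (ofDSub T) ≤ LinearMap.ker g from this hc
    refine cf_le_iff.mpr fun φ y hy => ?_
    rw [LinearMap.mem_ker]
    refine (apply_cL_coact (WithConv.toConv g) φ y).trans ?_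
    have hS : ∀ x : S, WithConv.toConv g • x = 0 := fun x => Subtype.ext <| by
      refine (Module.forall_dual_apply_eq_zero_iff K (dact K C V (WithConv.toConv g) (x : V))).mp fun χ => ?_
      rw [← apply_cL_coact]
      exact h _ (mem_cf_of_mem χ x.2)
    have := congr_arg Subtype.val (h1.mp hS ⟨y, hy⟩)
    rw [show dact K C W (WithConv.toConv g) y = 0 from this, map_zero]
  · intro h c hc
    suffices cf (C := C) (ofDSub S) ≤ LinearMap.ker g from this hc
    refine cf_le_iff.mpr fun φ x hx => ?_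
    rw [LinearMap.mem_ker]
    refine (apply_cL_coact (WithConv.toConv g) φ x).trans ?_
    have hT : ∀ y : T, WithConv.toConv g • y = 0 := fun y => Subtype.ext <| by
      refine (Module.forall_dual_apply_eq_zero_iff K (dact K C W (WithConv.toConv g) (y : W))).mp fun χ => ?_
      rw [← apply_cL_coact]
      exact h _ (mem_cf_of_mem χ y.2)
    have := congr_arg Subtype.val (h1.mpr hT ⟨x, hx⟩)
    rw [show dact K C V (WithConv.toConv g) x = 0 from this, map_zero]

/-- Every vector lies in a finite dimensional subcomodule. -/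
lemma exists_finite_subcomod (v : V) : ∃ S : Submodule (CDual K C) V,
    (v : V) ∈ S ∧ Module.Finite K (ofDSub S) := by
  obtain ⟨s, hs⟩ := TensorProduct.exists_finset (ρ v)
  classical
  refine ⟨Submodule.span (CDual K C) {(v : V)}, Submodule.mem_span_singleton_self _, ?_⟩
  let T : Submodule K V := Submodule.span K (↑(s.image Prod.fst) : Set V)
  have : FiniteDimensional K T := FiniteDimensional.span_finset K _
  refine Submodule.finiteDimensional_of_le (S₂ := T) fun x hx => ?_
  obtain ⟨f, rfl⟩ := Submodule.mem_span_singleton.mp (mem_ofDSub.mp hx)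
  show dact K C V f v ∈ T
  rw [dact_apply, hs, map_sum]
  refine T.sum_mem fun p hp => ?_
  rw [cR_tmul]
  exact T.smul_mem _ (Submodule.subset_span (Finset.mem_image_of_mem _ hp))

lemma exists_simple_le {S : Submodule (CDual K C) V} (hS : S ≠ ⊥) :
    ∃ T ≤ S, IsSimpleModule (CDual K C) T ∧ Module.Finite K (ofDSub T) := by
  obtain ⟨v, hv, hv0⟩ := S.exists_mem_ne_zero_of_ne_bot hS
  obtain ⟨S', hvS', hfin⟩ := exists_finite_subcomod (K := K) (C := C) v
  let P : ℕ → Prop := fun n => ∃ T : Submodule (CDual K C) V,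
    T ≤ S ⊓ S' ∧ T ≠ ⊥ ∧ Module.finrank K (ofDSub T) = n
  classical
  have hP : ∃ n, P n := ⟨_, S ⊓ S', le_rfl, fun h => hv0 ((Submodule.eq_bot_iff _).mp h v ⟨hv, hvS'⟩), rfl⟩
  obtain ⟨T, hT, hT0, hn⟩ := Nat.find_spec hP
  have hTfin : Module.Finite K (ofDSub T) :=
    Submodule.finiteDimensional_of_le (S₂ := ofDSub S') fun x hx => (hT hx).2
  refine ⟨T, hT.trans inf_le_left, isSimpleModule_iff_isAtom.mpr ⟨hT0, fun U hU => ?_⟩, hTfin⟩
  by_contra hU0
  have hlt : ofDSub U < ofDSub T :=
    lt_of_le_of_ne hU.le fun h => hU.ne (ofDSub_injective h)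
  have := Submodule.finrank_lt_finrank_of_lt hlt
  exact Nat.find_min hP (hn ▸ this) ⟨U, hU.le.trans hT, hU0, rfl⟩

/-- A simple submodule is finite dimensional. -/
lemma finite_of_simple (S : Submodule (CDual K C) V) [IsSimpleModule (CDual K C) S] :
    Module.Finite K (ofDSub S) := by
  have hat := isSimpleModule_iff_isAtom.mp ‹IsSimpleModule (CDual K C) S›
  obtain ⟨T, hTS, hT, hfin⟩ := exists_simple_le hat.1
  obtain rfl : T = S := (hat.le_iff_eq (isSimpleModule_iff_isAtom.mp hT).1).mp hTS
  exact hfin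

/-- The coefficient space of a simple subcomodule is a sum of copies of it. -/
lemma cf_le_sSup_copies (S : Submodule (CDual K C) V) [hS : IsSimpleModule (CDual K C) S] :
    cf (C := C) (ofDSub S) ≤ ofDSub (sSup {m : Submodule (CDual K C) C |
      IsSimpleModule (CDual K C) m ∧ Nonempty (S ≃ₗ[CDual K C] m)}) := by
  let gm : (V →ₗ[K] K) → (S →ₗ[CDual K C] C) := fun φ =>
    toDHom _ (isComodHom_coeff (C := C) φ) ∘ₗ S.subtype
  let g : (V →ₗ[K] K) → Submodule (CDual K C) C := fun φ => LinearMap.range (gm φ)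
  refine cf_le_iff.mpr fun φ v hv => ?_
  have hmem : (cL φ (ρ v) : C) ∈ g φ := ⟨⟨v, hv⟩, rfl⟩
  by_cases hm : g φ = ⊥
  · rw [hm, Submodule.mem_bot] at hmem
    rw [show cL φ (ρ v) = 0 from hmem]; exact zero_mem _
  · have hinj : Function.Injective (gm φ) :=
      (@LinearMap.injective_or_eq_zero (CDual K C) _ S _ _ C _ _ hS (gm φ)).resolve_right
        fun h => hm (LinearMap.range_eq_bot.mpr h)
    let e := LinearEquiv.ofInjective (gm φ) hinj
    refine le_sSup (s := {m : Submodule (CDual K C) C |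
      IsSimpleModule (CDual K C) m ∧ Nonempty (S ≃ₗ[CDual K C] m)}) ⟨?_, ⟨e⟩⟩ hmem
    exact @IsSimpleModule.congr (CDual K C) _ (g φ) _ _ S _ _ e.symm hS

/-- The coefficient space of a simple subcomodule is a simple subcoalgebra. -/
lemma cf_simple (S : Submodule (CDual K C) V) [hS : IsSimpleModule (CDual K C) S] :
    cf (C := C) (ofDSub S) ≠ ⊥ ∧ ∀ B ≤ cf (C := C) (ofDSub S),
      (∀ b ∈ B, CoalgebraStruct.comul (R := K) b ∈
        LinearMap.range (TensorProduct.map B.subtype B.subtype)) →
      B = ⊥ ∨ B = cf (ofDSub S) := by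
  have hat := isSimpleModule_iff_isAtom.mp hS
  constructor
  · intro h0
    obtain ⟨v, hv, hv0⟩ := S.exists_mem_ne_zero_of_ne_bot hat.1
    refine hv0 ((Module.forall_dual_apply_eq_zero_iff K v).mp fun χ => ?_)
    have h1 : (1 : CDual K C).ofConv (cL χ (ρ v)) = χ v := by
      rw [apply_cL_coact, map_one]; rfl
    rw [← h1, (Submodule.eq_bot_iff _).mp h0 _ (mem_cf_of_mem χ hv), map_zero]
  intro B hB hBc
  by_cases hB0 : B = ⊥
  · exact .inl hB0
  right
  refine le_antisymm hB ?_
  let B' := subEquiv K C C ⟨B, isSubcomod_of_subcoalgebra hBc⟩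
  obtain ⟨T, hTB, hT, -⟩ := exists_simple_le (S := B') fun h => hB0 (congrArg ofDSub h)
  have : ∀ m : {m : Submodule (CDual K C) C |
      IsSimpleModule (CDual K C) m ∧ Nonempty (S ≃ₗ[CDual K C] m)},
      IsSimpleModule (CDual K C) (m : Submodule (CDual K C) C) := fun m => m.2.1
  obtain ⟨m, ⟨-, ⟨e'⟩⟩, ⟨e⟩⟩ := T.linearEquiv_of_le_sSup _
    (fun x hx => cf_le_sSup_copies S (hB (hTB hx)))
  rw [cf_congr S T (e'.trans e.symm)]
  exact cf_le_subcoalgebra hTB hBc

end Dual

end Groth.Agent.Comod
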