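import Groth.Agent.Comod.Coeff
import Groth.Prelude.Def_SGA3
import Mathlib.RingTheory.Flat.EquationalCriterion
import Mathlib.RingTheory.Flat.FaithfullyFlat.Basic
import Mathlib.LinearAlgebra.Matrix.Block
import Mathlib.LinearAlgebra.Matrix.Adjugate
import Mathlib.RingTheory.Flat.Basic

/-!
# Hopf algebras are faithfully flat over Hopf subalgebras

The ideal of minors of a system of relations between the vectors of a finite dimensional subcomodule
is stable under comultiplication, hence zero or everything; so the relation modules are direct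
summands.
-/

universe u v
open TensorProduct Coalgebra Matrix

noncomputable section
namespace Groth.Agent.FlatSub

section Det
variable {T : Type*} [CommRing T] {ι : Type*} [Fintype ι] [DecidableEq ι]

/-- A determinant whose rows lie in the span of a set lies in any ideal containing the determinants
with rows in the set. -/
lemma det_mem_of_rows (R : Set (ι → T)) (J : Ideal T)
    (h : ∀ W : ι → ι → T, (∀ i, W i ∈ R) → Matrix.det (Matrix.of W) ∈ J)
    (W : ι → ι → T) (hW : ∀ i, W i ∈ Submodule.span T R) : Matrix.det (Matrix.of W) ∈ J := by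
  classical
  suffices ∀ (s : Finset ι) (W : ι → ι → T), (∀ i ∈ s, W i ∈ Submodule.span T R) →
      (∀ i ∉ s, W i ∈ R) → Matrix.det (Matrix.of W) ∈ J from
    this Finset.univ W (fun i _ => hW i) (fun i hi => absurd (Finset.mem_univ i) hi)
  intro s
  induction s using Finset.induction_on with
  | empty => exact fun W _ hR => h W fun i => hR i (Finset.notMem_empty i)
  | insert a s ha ih =>
    intro W hs hR
    have key : ∀ w ∈ Submodule.span T R, Matrix.det ((Matrix.of W).updateRow a w) ∈ J := by
      intro w hw
      induction hw using Submodule.span_induction with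
      | mem w hw =>
        have e : (Matrix.of W).updateRow a w = Matrix.of (Function.update W a w) := by
          ext i j
          by_cases hi : i = a
          · subst hi; simp
          · simp [hi]
        rw [e]
        refine ih _ (fun i hi => ?_) (fun i hi => ?_)
        · have : i ≠ a := fun e => ha (e ▸ hi)
          rw [Function.update_of_ne this]
          exact hs i (Finset.mem_insert_of_mem hi)
        · by_cases hia : i = a
          · subst hia; rwa [Function.update_self]
          · rw [Function.update_of_ne hia]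
            exact hR i (by simp [hia, hi])
      | zero =>
        rw [Matrix.det_eq_zero_of_row_eq_zero a (fun j => by simp)]
        exact zero_mem _
      | add x y _ _ hx hy => rw [Matrix.det_updateRow_add]; exact add_mem hx hy
      | smul c x _ hx => rw [Matrix.det_updateRow_smul]; exact J.mul_mem_left c hx
    have := key (W a) (hs a (Finset.mem_insert_self a s))
    rwa [show (Matrix.of W).updateRow a (W a) = Matrix.of W from Matrix.updateRow_eq_self _ a] at this

end Det

section Minors
variable {B : Type*} [CommRing B] {ι : Type*} [Fintype ι] [DecidableEq ι] (K : Submodule B (ι → B))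

/-- A minor of a family of relations. -/
def minor {s : ℕ} (x : Fin s → K) (I : Fin s → ι) : B :=
  Matrix.det (Matrix.of fun l i => (x l : ι → B) (I i))

/-- The ideal of minors. -/
def minors (s : ℕ) : Ideal B :=
  Ideal.span (Set.range fun p : (Fin s → K) × (Fin s → ι) => minor K p.1 p.2)

lemma minors_zero : minors K 0 = ⊤ :=
  (Ideal.eq_top_iff_one _).mpr (Ideal.subset_span ⟨(Fin.elim0, Fin.elim0), by simp [minor]⟩)

lemma minors_eq_bot_of_card_lt {s : ℕ} (hs : Fintype.card ι < s) : minors K s = ⊥ := by
  rw [minors, Ideal.span_eq_bot]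
  rintro _ ⟨⟨x, I⟩, rfl⟩
  obtain ⟨i, j, hij, he⟩ := Fintype.exists_ne_map_eq_of_card_lt I (by simpa using hs)
  refine Matrix.det_zero_of_column_eq hij fun l => ?_
  simp [he]

/-- If the minors of some size generate and all bigger minors vanish, the relations split off. -/
lemma exists_proj {s : ℕ} (h1 : minors K s = ⊤) (h0 : minors K (s + 1) = ⊥) :
    ∃ π : (ι → B) →ₗ[B] (ι → B), (∀ y, π y ∈ K) ∧ ∀ x ∈ K, π x = x := by
  let Q : Ideal B :=
    { carrier := {c | ∃ π : (ι → B) →ₗ[B] (ι → B), (∀ y, π y ∈ K) ∧ ∀ x ∈ K, π x = c • x}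
      zero_mem' := ⟨0, fun _ => zero_mem _, fun x _ => by simp⟩
      add_mem' := by
        rintro a b ⟨π, h1, h2⟩ ⟨π', h1', h2'⟩
        exact ⟨π + π', fun y => add_mem (h1 y) (h1' y), fun x hx => by simp [h2 x hx, h2' x hx, add_smul]⟩
      smul_mem' := by
        rintro c a ⟨π, h1, h2⟩
        exact ⟨c • π, fun y => K.smul_mem c (h1 y), fun x hx => by simp [h2 x hx, smul_smul]⟩ }
  suffices (1 : B) ∈ Q by
    obtain ⟨π, hπ, hπ'⟩ := this
    exact ⟨π, hπ, fun x hx => by rw [hπ' x hx, one_smul]⟩
  have hQ : ∀ (x : Fin s → K) (I : Fin s → ι), minor K x I ^ 2 ∈ Q := by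
    intro x I
    let X : Matrix (Fin s) (Fin s) B := Matrix.of fun l i => (x l : ι → B) (I i)
    let c : (ι → B) →ₗ[B] (Fin s → B) :=
      (Matrix.vecMulLinear X.adjugate) ∘ₗ LinearMap.funLeft B B I
    let σ : (ι → B) →ₗ[B] (ι → B) := Fintype.linearCombination B (fun l => (x l : ι → B)) ∘ₗ c
    have hσK : ∀ y, σ y ∈ K := fun y => by
      show Fintype.linearCombination B (fun l => (x l : ι → B)) (c y) ∈ K
      rw [Fintype.linearCombination_apply]
      exact sum_mem fun l _ => K.smul_mem _ (x l).2
    have hσI : ∀ y i, σ y (I i) = X.det * y (I i) := by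
      intro y i
      have : σ y (I i) = ((c y) ᵥ* X) i := by
        simp [σ, Fintype.linearCombination_apply, Matrix.vecMul, dotProduct, X, Finset.sum_apply]
      rw [this]
      show ((LinearMap.funLeft B B I y) ᵥ* X.adjugate ᵥ* X) i = _
      rw [Matrix.vecMul_vecMul, Matrix.adjugate_mul, Matrix.vecMul_smul, Matrix.vecMul_one]
      rfl
    refine ⟨X.det • σ, fun y => K.smul_mem _ (hσK y), fun z hz => ?_⟩
    have hw : X.det • z - σ z ∈ K := sub_mem (K.smul_mem _ hz) (hσK z)
    have hwI : ∀ i, (X.det • z - σ z) (I i) = 0 := fun i => by simp [hσI]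
    have hann : ∀ j, X.det * (X.det • z - σ z) j = 0 := by
      intro j
      have hm : minor K (Fin.snoc x ⟨_, hw⟩) (Fin.snoc I j) = 0 := by
        have := Ideal.subset_span (s := Set.range fun p : (Fin (s+1) → K) × (Fin (s+1) → ι) => minor K p.1 p.2)
          ⟨(Fin.snoc x ⟨_, hw⟩, Fin.snoc I j), rfl⟩
        rw [show Ideal.span _ = minors K (s + 1) from rfl, h0] at this
        simpa using this
      rw [← hm, minor, ← Matrix.det_submatrix_equiv_self finSumFinEquiv]
      have e : (Matrix.of fun l i => ((Fin.snoc x ⟨_, hw⟩ : Fin (s+1) → K) l : ι → B)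
          ((Fin.snoc I j : Fin (s+1) → ι) i)).submatrix finSumFinEquiv finSumFinEquiv =
          Matrix.fromBlocks X (Matrix.of fun l _ => (x l : ι → B) j) 0
            (Matrix.of fun _ _ => (X.det • z - σ z) j) := by
        have hl : ∀ l : Fin s, finSumFinEquiv (Sum.inl l : Fin s ⊕ Fin 1) = Fin.castSucc l := fun _ => rfl
        have hr : ∀ l : Fin 1, finSumFinEquiv (Sum.inr l : Fin s ⊕ Fin 1) = Fin.last s := fun l =>
          Fin.ext (by simp [finSumFinEquiv])
        ext (l | l) (i | i) <;>
          simp only [Matrix.submatrix_apply, Matrix.of_apply, Matrix.fromBlocks_apply₁₁, Matrix.fromBlocks_apply₁₂,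
            Matrix.fromBlocks_apply₂₁, Matrix.fromBlocks_apply₂₂, Matrix.zero_apply, hl, hr, Fin.snoc_castSucc,
            Fin.snoc_last]
        · rfl
        · exact hwI i
      rw [e, Matrix.det_fromBlocks_zero₂₁]
      simp [Matrix.det_fin_one]
    funext j
    have := hann j
    simp only [Pi.smul_apply, Pi.sub_apply, smul_eq_mul, mul_sub, sub_eq_zero] at this
    show X.det * σ z j = X.det ^ 2 * z j
    rw [← this, pow_two, mul_assoc]
  have hsq : Ideal.span ((fun a => a ^ 2) '' Set.range fun p : (Fin s → K) × (Fin s → ι) => minor K p.1 p.2) = ⊤ :=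
    Ideal.span_pow_eq_top _ h1 2
  have hle : Ideal.span ((fun a => a ^ 2) '' Set.range fun p : (Fin s → K) × (Fin s → ι) => minor K p.1 p.2) ≤ Q :=
    Ideal.span_le.mpr (by rintro _ ⟨_, ⟨⟨x, I⟩, rfl⟩, rfl⟩; exact hQ x I)
  exact hle (hsq.symm ▸ Submodule.mem_top)

end Minors

section Hopf

/-- `SGA3.IsHopfSubalgebra`, with independent universes. -/
def IsSubHopf (k : Type u) [CommRing k] {A : Type v} [CommRing A] [HopfAlgebra k A]
    (B : Subalgebra k A) : Prop :=
  (∀ b ∈ B, CoalgebraStruct.comul (R := k) (A := A) b ∈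
      LinearMap.range (TensorProduct.map B.val.toLinearMap B.val.toLinearMap)) ∧
    ∀ b ∈ B, HopfAlgebraStruct.antipode (R := k) (A := A) b ∈ B

variable {k : Type u} [Field k] {A : Type v} [CommRing A] [HopfAlgebra k A] {B : Subalgebra k A}
  (hB : IsSubHopf k B)

variable (B) in
/-- The inclusion of the mixed tensor product. -/
abbrev incl : B ⊗[k] A →ₐ[k] A ⊗[k] A := Algebra.TensorProduct.map B.val (AlgHom.id k A)

lemma incl_injective : Function.Injective (incl B) :=
  Module.Flat.rTensor_preserves_injective_linearMap B.val.toLinearMap Subtype.val_injective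

include hB in
lemma exists_comul_mixed :
    ∃ δ : B →ₐ[k] B ⊗[k] A, ∀ b, incl B (δ b) = comul (R := k) (b : A) := by
  have h : ∀ b : B, Bialgebra.comulAlgHom k A (b : A) ∈ (incl B).range := by
    intro b
    obtain ⟨z, hz⟩ := hB.1 b b.2
    refine ⟨TensorProduct.map LinearMap.id B.val.toLinearMap z, ?_⟩
    rw [Bialgebra.comulAlgHom_apply, ← hz]
    clear hz
    induction z using TensorProduct.induction_on with
    | zero => simp
    | tmul x y => simp
    | add x y hx hy => simp only [map_add, ← hx, ← hy]
  refine ⟨(AlgEquiv.ofInjective _ incl_injective).symm.toAlgHom.comp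
    (((Bialgebra.comulAlgHom k A).comp B.val).codRestrict _ h), fun b => ?_⟩
  exact congr_arg Subtype.val ((AlgEquiv.ofInjective _ (incl_injective (B := B))).apply_symm_apply
    ⟨_, h b⟩)

variable {ι : Type} [Fintype ι] [DecidableEq ι] {v : ι → A} {C C' : Matrix ι ι A} (hC : C' * C = 1)
  (hv : ∀ i, comul (R := k) (v i) = ∑ j, v j ⊗ₜ[k] C j i)

variable (v) in
/-- Evaluation of a vector of coefficients. -/
def ev : (ι → B) →ₗ[B] A := Fintype.linearCombination B v

omit [DecidableEq ι] in
lemma ev_apply (x : ι → B) : ev v x = ∑ i, (x i : A) * v i := by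
  simp [ev, Fintype.linearCombination_apply, Algebra.smul_def]

variable (B) in
/-- Scalars on the left. -/
abbrev lft : B →ₐ[k] B ⊗[k] A := Algebra.TensorProduct.includeLeft

variable (B) in
/-- Scalars on the right. -/
abbrev rgt : A →ₐ[k] B ⊗[k] A := Algebra.TensorProduct.includeRight

/-- The twisted relation. -/
abbrev tw (δ : B →ₐ[k] B ⊗[k] A) (C : Matrix ι ι A) (x : ι → B) : ι → B ⊗[k] A :=
  fun j => ∑ l, δ (x l) * rgt B (C j l)

variable {δ : B →ₐ[k] B ⊗[k] A} (hδ : ∀ b, incl B (δ b) = comul (R := k) (b : A))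

include hC in
lemma recover (x : ι → B) (i : ι) : δ (x i) = ∑ j, rgt B (C' i j) * tw δ C x j := by
  have h1 : ∀ l, ∑ j, rgt B (C' i j) * rgt B (C j l) = if i = l then 1 else 0 := fun l => by
    simp only [← map_mul, ← map_sum]
    rw [show ∑ j, C' i j * C j l = (C' * C) i l from (Matrix.mul_apply).symm, hC, Matrix.one_apply]
    split_ifs <;> simp [Algebra.TensorProduct.one_def]
  simp only [tw, Finset.mul_sum]
  rw [Finset.sum_comm, Finset.sum_eq_single i]
  · rw [Finset.sum_congr rfl fun j _ => (mul_left_comm _ _ _), ← Finset.mul_sum, h1, if_pos rfl, mul_one]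
  · intro l _ hl
    rw [Finset.sum_congr rfl fun j _ => (mul_left_comm _ _ _), ← Finset.mul_sum, h1,
      if_neg (Ne.symm hl), mul_zero]
  · simp

include hv hδ in
lemma tw_mem (N : Submodule B A)
    (hN : ∀ y ∈ N, ∀ l : A →ₗ[k] k, TensorProduct.rid k A (l.lTensor A (comul (R := k) y)) ∈ N)
    (x : ι → B) (hx : x ∈ N.comap (ev v)) :
    tw δ C x ∈ Submodule.span (B ⊗[k] A) ((fun x : ι → B => lft B ∘ x) '' (N.comap (ev v) : Set (ι → B))) := by
  classical
  let e := Module.Free.chooseBasis k A
  let y := tw δ C x
  have hinc : ∑ j, incl B (y j) * (v j ⊗ₜ[k] (1 : A)) = comul (R := k) (ev v x) := by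
    rw [ev_apply, map_sum]
    simp only [Bialgebra.comul_mul, ← hδ, hv, Finset.mul_sum, y, tw, map_sum, map_mul, Finset.sum_mul]
    rw [Finset.sum_comm]
    refine Finset.sum_congr rfl fun l _ => Finset.sum_congr rfl fun j _ => ?_
    rw [mul_assoc]
    congr 1
    simp [Algebra.TensorProduct.includeRight_apply]
  let π : Module.Free.ChooseBasisIndex k A → B ⊗[k] A →ₗ[k] B := fun α =>
    (TensorProduct.rid k B).toLinearMap ∘ₗ (e.coord α).lTensor B
  have hmem : ∀ α, (fun j => π α (y j)) ∈ N.comap (ev v) := by
    intro α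
    rw [Submodule.mem_comap]
    have h := hN _ hx (e.coord α)
    rw [← hinc] at h
    convert h using 1
    rw [ev_apply, map_sum, map_sum]
    refine Finset.sum_congr rfl fun j _ => ?_
    have key : ∀ t : B ⊗[k] A, ((π α t : B) : A) * v j =
        TensorProduct.rid k A ((e.coord α).lTensor A (incl B t * (v j ⊗ₜ[k] (1 : A)))) := by
      intro t
      induction t using TensorProduct.induction_on with
      | zero => simp
      | add t t' ht ht' => simp only [map_add, add_mul, AddMemClass.coe_add, ht, ht']
      | tmul b a => simp [π, Algebra.smul_def, mul_comm, mul_left_comm, mul_assoc]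
    exact key (y j)
  have h1 : ∀ t : B ⊗[k] A, ∃ S : Finset (Module.Free.ChooseBasisIndex k A),
      ∀ S', S ⊆ S' → t = ∑ α ∈ S', lft B (π α t) * rgt B (e α) := by
    intro t
    induction t using TensorProduct.induction_on with
    | zero => exact ⟨∅, fun S' _ => by simp⟩
    | add t t' ht ht' =>
      obtain ⟨S, hS⟩ := ht
      obtain ⟨S', hS'⟩ := ht'
      refine ⟨S ∪ S', fun U hU => ?_⟩
      simp only [map_add, add_mul, Finset.sum_add_distrib,
        ← hS U (Finset.union_subset_left hU), ← hS' U (Finset.union_subset_right hU)]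
    | tmul b a =>
      refine ⟨(e.repr a).support, fun U hU => ?_⟩
      have ha : a = ∑ α ∈ U, e.repr a α • e α := by
        conv_lhs => rw [← e.linearCombination_repr a, Finsupp.linearCombination_apply]
        exact Finsupp.sum_of_support_subset _ hU _ fun i _ => zero_smul _ _
      conv_lhs => rw [ha, TensorProduct.tmul_sum]
      refine Finset.sum_congr rfl fun α _ => ?_
      simp [π, ← TensorProduct.smul_tmul', smul_mul_assoc]
  choose S hS using fun j => h1 (y j)
  let U := Finset.univ.biUnion S
  show y ∈ _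
  rw [show y = ∑ α ∈ U, rgt B (e α) • (lft B ∘ fun j => π α (y j)) from funext fun j => by
    rw [Finset.sum_apply]
    exact (hS j U (Finset.subset_biUnion_of_mem S (Finset.mem_univ j))).trans
      (Finset.sum_congr rfl fun α _ => by simp [mul_comm])]
  exact Submodule.sum_mem _ fun α _ => Submodule.smul_mem _ _ (Submodule.subset_span ⟨_, hmem α, rfl⟩)

include hC hv hδ in
lemma minors_stable (N : Submodule B A)
    (hN : ∀ y ∈ N, ∀ l : A →ₗ[k] k, TensorProduct.rid k A (l.lTensor A (comul (R := k) y)) ∈ N) {s : ℕ}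
    {f : B} (hf : f ∈ minors (N.comap (ev v)) s) :
    δ f ∈ Ideal.span (lft B '' (minors (N.comap (ev v)) s : Set B)) := by
  classical
  set K := N.comap (ev v)
  set J := Ideal.span (lft B '' (minors K s : Set B))
  refine (Ideal.span_le (I := J.comap δ)).mpr ?_ hf
  rintro _ ⟨⟨x, I⟩, rfl⟩
  show δ (Matrix.det _) ∈ J
  rw [AlgHom.map_det]
  let G : Set (ι → B ⊗[k] A) := (fun x : ι → B => lft B ∘ x) '' (K : Set (ι → B))
  let Φ : (ι → B ⊗[k] A) →ₗ[B ⊗[k] A] (Fin s → B ⊗[k] A) :=
    LinearMap.pi fun i => ∑ j, rgt B (C' (I i) j) • LinearMap.proj j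
  have hΦ : ∀ z i, Φ z i = ∑ j, rgt B (C' (I i) j) * z j := fun z i => by simp [Φ]
  refine det_mem_of_rows (Φ '' G) J ?_ (fun l i => δ ((x l : ι → B) (I i))) fun l => ?_
  · intro W hW
    choose z hz hzW using hW
    choose x' hx' hz' using hz
    rw [← Matrix.det_transpose]
    refine det_mem_of_rows (Set.range fun j => fun l => z l j) J ?_ (fun i l => W l i) fun i => ?_
    · intro W' hW'
      choose j hj using hW'
      rw [← Matrix.det_transpose]
      have hz2 : ∀ l i, z l (j i) = lft B (x' l (j i)) := fun l i => (congr_fun (hz' l) (j i)).symm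
      have : (Matrix.of W')ᵀ = (lft B).mapMatrix (Matrix.of fun l i => x' l (j i)) := by
        ext l i
        simp [← hj i, hz2]
      rw [this, ← AlgHom.map_det]
      exact Ideal.subset_span ⟨_, Ideal.subset_span ⟨(fun l => ⟨x' l, hx' l⟩, j), rfl⟩, rfl⟩
    · have : (fun l => W l i) = ∑ j, rgt B (C' (I i) j) • fun l => z l j := funext fun l => by
        rw [← hzW l, hΦ]; simp [Finset.sum_apply]
      rw [this]
      exact Submodule.sum_mem _ fun j _ => Submodule.smul_mem _ _ (Submodule.subset_span ⟨j, rfl⟩)
  · have hrow : (fun i => δ ((x l : ι → B) (I i))) = Φ (tw δ C (x l : ι → B)) :=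
      funext fun i => by rw [hΦ]; exact recover hC _ _
    rw [hrow, Submodule.span_image]
    exact Submodule.mem_map_of_mem (tw_mem hv hδ N hN _ (x l).2)

include hB hC hv in
theorem minors_trivial (N : Submodule B A)
    (hN : ∀ y ∈ N, ∀ l : A →ₗ[k] k, TensorProduct.rid k A (l.lTensor A (comul (R := k) y)) ∈ N) (s : ℕ) :
    minors (N.comap (ev v)) s = ⊥ ∨ minors (N.comap (ev v)) s = ⊤ := by
  classical
  obtain ⟨δ, hδ⟩ := exists_comul_mixed hB
  set F := minors (N.comap (ev v)) s
  have hst : ∀ f ∈ F, δ f ∈ Ideal.span (lft B '' (F : Set B)) := fun f hf => minors_stable hC hv hδ N hN hf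
  by_cases h0 : ∀ f ∈ F, counit (R := k) (f : A) = 0
  · left
    rw [eq_bot_iff]
    intro f hf
    let ε₁ : B ⊗[k] A →ₐ[k] A := (Algebra.TensorProduct.lid k A).toAlgHom.comp
      (Algebra.TensorProduct.map ((Bialgebra.counitAlgHom k A).comp B.val) (AlgHom.id k A))
    have hz : ∀ t ∈ Ideal.span (lft B '' (F : Set B)), ε₁ t = 0 := by
      intro t ht
      refine (Ideal.span_le (I := RingHom.ker ε₁)).mpr ?_ ht
      rintro _ ⟨g, hg, rfl⟩
      simp [ε₁, h0 g hg]
    have hkey : ∀ t : B ⊗[k] A, ε₁ t = TensorProduct.lid k A (counit.rTensor A (incl B t)) := by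
      intro t
      induction t using TensorProduct.induction_on with
      | zero => simp
      | add t t' ht ht' => simp only [map_add, ht, ht']
      | tmul b a => simp [ε₁]
    have h := (hkey (δ f)).symm.trans (hz _ (hst f hf))
    rw [hδ, rTensor_counit_comul, TensorProduct.lid_tmul, one_smul] at h
    exact (Submodule.mem_bot B).mpr (Subtype.ext h)
  · right
    push Not at h0
    obtain ⟨f, hf, hf0⟩ := h0
    obtain ⟨r, hr⟩ := (Subalgebra.toSubmodule B).subtype.exists_leftInverse_of_injective
      (Submodule.ker_subtype _)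
    let r' : A →ₗ[k] B := r
    have hr' : ∀ b : B, r' (b : A) = b := fun b => LinearMap.congr_fun hr b
    let Λ : B ⊗[k] A →ₗ[k] B :=
      LinearMap.mul' k B ∘ₗ TensorProduct.map LinearMap.id (r' ∘ₗ HopfAlgebra.antipode k (A := A))
    have hΛm : ∀ (b : B) (t : B ⊗[k] A), Λ (lft B b * t) = b * Λ t := by
      intro b t
      induction t using TensorProduct.induction_on with
      | zero => simp
      | add t t' ht ht' => simp only [mul_add, map_add, ht, ht']
      | tmul c a => simp [Λ, mul_assoc]
    have hΛJ : ∀ t ∈ Ideal.span (lft B '' (F : Set B)), ∀ t', Λ (t' * t) ∈ F := by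
      intro t ht
      induction ht using Submodule.span_induction with
      | zero => intro t'; simp
      | add x y _ _ hx hy => intro t'; rw [mul_add, map_add]; exact add_mem (hx t') (hy t')
      | smul c x _ hx => intro t'; rw [smul_eq_mul, ← mul_assoc]; exact hx _
      | mem x hx =>
        obtain ⟨g, hg, rfl⟩ := hx
        intro t'
        rw [mul_comm, hΛm]
        exact F.mul_mem_right _ hg
    have h1 := hΛJ _ (hst f hf) 1
    rw [one_mul] at h1
    obtain ⟨z, hz⟩ := hB.1 (f : A) f.2
    have hδf : δ f = TensorProduct.map LinearMap.id B.val.toLinearMap z := by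
      refine incl_injective ?_
      rw [hδ, ← hz]
      clear hz
      induction z using TensorProduct.induction_on with
      | zero => simp
      | tmul x y => simp
      | add x y hx hy => simp only [map_add, ← hx, ← hy]
    have hval : ((Λ (δ f) : B) : A) = algebraMap k A (counit (R := k) (f : A)) := by
      rw [← HopfAlgebra.mul_antipode_lTensor_comul_apply (R := k) (f : A), ← hz, hδf]
      clear hz hδf
      induction z using TensorProduct.induction_on with
      | zero => simp
      | add x y hx hy => simp only [map_add, AddMemClass.coe_add, hx, hy]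
      | tmul x y =>
        have hy := hr' ⟨HopfAlgebra.antipode k (y : A), hB.2 _ y.2⟩
        simp [Λ, hy]
    have h2 : Λ (δ f) = algebraMap k B (counit (R := k) (f : A)) := Subtype.ext (by rw [hval]; rfl)
    rw [h2] at h1
    exact Ideal.eq_top_of_isUnit_mem _ h1 ((Ne.isUnit hf0).map _)

include hB hC hv in
/-- The relations of a subcomodule modulo a stable submodule split off. -/
theorem exists_split (N : Submodule B A)
    (hN : ∀ y ∈ N, ∀ l : A →ₗ[k] k, TensorProduct.rid k A (l.lTensor A (comul (R := k) y)) ∈ N) :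
    ∃ π : (ι → B) →ₗ[B] (ι → B), (∀ y, π y ∈ N.comap (ev v)) ∧ ∀ x ∈ N.comap (ev v), π x = x := by
  classical
  have hne : Nontrivial B := (Bialgebra.counitAlgHom k A).comp B.val |>.toRingHom.domain_nontrivial
  have hex : ∃ s, minors (N.comap (ev v)) (s + 1) = ⊥ :=
    ⟨Fintype.card ι, minors_eq_bot_of_card_lt _ (Nat.lt_succ_self _)⟩
  have h0 := Nat.find_spec hex
  have h1 : minors (N.comap (ev v)) (Nat.find hex) = ⊤ := by
    rcases hf : Nat.find hex with _ | s
    · exact minors_zero _
    · exact (minors_trivial hB hC hv N hN (s + 1)).resolve_left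
        (Nat.find_min hex (m := s) (by omega))
  exact exists_proj _ h1 h0

end Hopf

section Main
variable {k : Type u} [Field k] {A : Type v} [CommRing A] [HopfAlgebra k A] {B : Subalgebra k A}
  (hB : IsSubHopf k B)

/-- Any finite set lies in the span of a system as required. -/
lemma exists_system (s : Finset A) :
    ∃ (n : ℕ) (v : Fin n × Fin n → A) (C C' : Matrix (Fin n × Fin n) (Fin n × Fin n) A), C' * C = 1 ∧
      (∀ i, comul (R := k) (v i) = ∑ j, v j ⊗ₜ[k] C j i) ∧
      ∀ x ∈ s, ∃ c : Fin n × Fin n → B, ev v c = x := by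
  classical
  obtain ⟨n, M, hM, hs⟩ := Comod.exists_corep_of_finset k s
  let C : Matrix (Fin n × Fin n) (Fin n × Fin n) A := fun j i => if j.1 = i.1 then M j.2 i.2 else 0
  let C' : Matrix (Fin n × Fin n) (Fin n × Fin n) A :=
    fun j i => if j.1 = i.1 then HopfAlgebra.antipodeAlgHom k A (M j.2 i.2) else 0
  refine ⟨n, fun p => M p.1 p.2, C, C', ?_, fun i => ?_, fun x hx => ?_⟩
  · ext a b
    have h := congr($(hM.antipode_mul) a.2 b.2)
    simp only [Matrix.mul_apply, Matrix.map_apply, Matrix.one_apply] at h
    rw [Matrix.mul_apply, Fintype.sum_prod_type, Finset.sum_eq_single a.1]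
    · by_cases hab : a.1 = b.1
      · simp only [C, C', hab, if_true, h, Matrix.one_apply]
        by_cases h2 : a.2 = b.2
        · rw [if_pos h2, if_pos (Prod.ext hab h2)]
        · rw [if_neg h2, if_neg (fun e => h2 (congrArg Prod.snd e))]
      · simp [C, C', hab, Matrix.one_apply, fun e : a = b => hab (congrArg Prod.fst e)]
        intro e; exact absurd (congrArg Prod.fst e) hab
    · intro c _ hc
      simp [C', Ne.symm hc]
    · simp
  · have h := congr($(hM.map_comul) i.1 i.2)
    simp only [Matrix.map_apply, Bialgebra.comulAlgHom_apply, Matrix.mul_apply,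
      Algebra.TensorProduct.includeLeft_apply, Algebra.TensorProduct.includeRight_apply,
      Algebra.TensorProduct.tmul_mul_tmul, mul_one, one_mul] at h
    rw [h, Fintype.sum_prod_type, Finset.sum_comm]
    refine Finset.sum_congr rfl fun j _ => ?_
    rw [Finset.sum_eq_single i.1]
    · simp [C]
    · intro c _ hc
      simp [C, hc]
    · simp
  · obtain ⟨c, rfl⟩ := (Submodule.mem_span_range_iff_exists_fun k).mp (hs x hx)
    refine ⟨fun p => algebraMap k B (c p), ?_⟩
    rw [ev_apply]
    exact Finset.sum_congr rfl fun p _ => (Algebra.smul_def _ _).symm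

include hB

theorem flat : Module.Flat B A := by
  classical
  rw [Module.Flat.iff_forall_isTrivialRelation]
  intro l f x hfx
  obtain ⟨n, v, C, C', hC, hv, hmem⟩ := exists_system (k := k) (B := B) (Finset.univ.image x)
  choose c hc using fun i => hmem (x i) (Finset.mem_image_of_mem x (Finset.mem_univ i))
  obtain ⟨π, hπK, hπ⟩ := exists_split hB hC hv (⊥ : Submodule B A) (fun y hy l => by
    rw [(Submodule.mem_bot B).mp hy]; simp)
  let d : Fin l → (Fin n × Fin n → B) := fun i => c i - π (c i)
  have hd : ∀ i, ev v (d i) = x i := fun i => by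
    have := hπK (c i)
    rw [Submodule.mem_comap, Submodule.mem_bot] at this
    simp [d, map_sub, hc, this]
  have hrel : ∑ i, f i • d i = 0 := by
    have hm : ∑ i, f i • c i ∈ (⊥ : Submodule B A).comap (ev v) := by
      rw [Submodule.mem_comap, Submodule.mem_bot, map_sum]
      simpa [hc] using hfx
    have := hπ _ hm
    rw [map_sum] at this
    simp only [map_smul] at this
    simp only [d, smul_sub, Finset.sum_sub_distrib, this, sub_self]
  let e := Fintype.equivFin (Fin n × Fin n)
  refine ⟨Fintype.card (Fin n × Fin n), fun i j => d i (e.symm j), fun j => v (e.symm j), fun i => ?_, fun j => ?_⟩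
  · rw [← hd i, Equiv.sum_comp e.symm (fun p => d i p • v p)]
    simp [ev, Fintype.linearCombination_apply]
  · have := congr_fun hrel (e.symm j)
    simpa [Finset.sum_apply] using this

theorem faithfullyFlat : Module.FaithfullyFlat B A := by
  classical
  have := flat hB
  refine ⟨fun {m} hm htop => ?_⟩
  have h1 : (1 : A) ∈ m • Submodule.span B (Set.range (id : A → A)) := by
    rw [Set.range_id, Submodule.span_univ, htop]
    exact Submodule.mem_top
  suffices (1 : B) ∈ m from hm.ne_top ((Ideal.eq_top_iff_one m).mpr this)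
  obtain ⟨p, hp, hsum⟩ := (Submodule.mem_ideal_smul_span_iff_exists_sum m _ 1).mp h1
  obtain ⟨n, v, C, C', hC, hv, hmem⟩ := exists_system (k := k) (B := B) (insert 1 p.support)
  obtain ⟨e, he⟩ := hmem 1 (Finset.mem_insert_self 1 _)
  choose! c hc using fun a (ha : a ∈ p.support) => hmem a (Finset.mem_insert_of_mem ha)
  let N : Submodule B A := Submodule.span B {(1 : A)}
  obtain ⟨π, hπK, hπ⟩ := exists_split hB hC hv N (fun y hy l => by
    obtain ⟨b, rfl⟩ := Submodule.mem_span_singleton.mp hy
    obtain ⟨z, hz⟩ := hB.1 (b : A) b.2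
    have hb : (b • (1 : A)) = (b : A) := (Algebra.smul_def b 1).trans (mul_one _)
    rw [hb, ← hz]
    clear hz
    refine Submodule.mem_span_singleton.mpr ⟨TensorProduct.rid k B ((l ∘ₗ B.val.toLinearMap).lTensor B z), ?_⟩
    rw [Algebra.smul_def, mul_one]
    induction z using TensorProduct.induction_on with
    | zero => simp
    | tmul x y => simp
    | add x y hx hy => simp only [map_add, ← hx, ← hy])
  -- a linear form which kills the relations and sends the unit to one
  choose r hr using fun y => Submodule.mem_span_singleton.mp (Submodule.mem_comap.mp (hπK y))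
  have hinj : ∀ b b' : B, b • (1 : A) = b' • (1 : A) → b = b' := fun b b' h => by
    simpa [Algebra.smul_def] using h
  let φ : (Fin n × Fin n → B) →ₗ[B] B :=
    { toFun := r
      map_add' := fun y y' => hinj _ _ (by rw [add_smul, hr, hr, hr, map_add, map_add])
      map_smul' := fun b y => hinj _ _ (by rw [hr, map_smul, map_smul, smul_assoc, RingHom.id_apply, hr]) }
  have hφ : ∀ y, ∀ b : B, ev v y = b • (1 : A) → φ y = b := fun y b h => hinj _ _ (by
    show r y • (1 : A) = _
    rw [hr, hπ y (Submodule.mem_comap.mpr (h ▸ Submodule.smul_mem _ b (Submodule.mem_span_singleton_self _))), h])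
  have hzero : φ (p.sum fun a b => b • c a) = 1 := by
    refine hφ _ _ ?_
    rw [one_smul, Finsupp.sum, map_sum]
    refine Eq.trans (Finset.sum_congr rfl fun a ha => ?_) hsum
    rw [map_smul, hc a ha]
    rfl
  rw [← hzero, Finsupp.sum, map_sum]
  exact Ideal.sum_mem _ fun a _ => by
    rw [map_smul, smul_eq_mul]
    exact m.mul_mem_right _ (hp a)

end Main
end Groth.Agent.FlatSub
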