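import Groth.Agent.Comod.Transfer
import Mathlib.RingTheory.Coalgebra.Hom
import Mathlib.LinearAlgebra.TensorProduct.Basis

/-!
# Change of coalgebra along a map
-/

universe u v v' w
open TensorProduct
noncomputable section

namespace Groth.Agent.Comod

variable {K : Type u} [Field K] {C : Type v} [AddCommGroup C] [Module K C] [Coalgebra K C]
  {D : Type v'} [AddCommGroup D] [Module K D] [Coalgebra K D] (i : C →ₗc[K] D)
variable {V : Type w} [AddCommGroup V] [Module K V]

lemma assoc_rTensor_lTensor (ρ : V →ₗ[K] V ⊗[K] C) (t : V ⊗[K] C) :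
    TensorProduct.assoc K V D D (((i : C →ₗ[K] D).lTensor V ∘ₗ ρ).rTensor D
        ((i : C →ₗ[K] D).lTensor V t)) =
      (TensorProduct.map (i : C →ₗ[K] D) (i : C →ₗ[K] D)).lTensor V
        (TensorProduct.assoc K V C C (ρ.rTensor C t)) := by
  induction t using TensorProduct.induction_on with
  | zero => simp
  | add x y hx hy => simp only [map_add, hx, hy]
  | tmul x y =>
    rw [LinearMap.lTensor_tmul, LinearMap.rTensor_tmul, LinearMap.rTensor_tmul, LinearMap.comp_apply]
    generalize ρ x = s
    induction s using TensorProduct.induction_on with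
    | zero => simp
    | tmul a b => simp
    | add a b ha hb => simp only [map_add, TensorProduct.add_tmul, ha, hb]

lemma lTensor_comul_lTensor (t : V ⊗[K] C) :
    (CoalgebraStruct.comul (R := K) (A := D)).lTensor V ((i : C →ₗ[K] D).lTensor V t) =
      (TensorProduct.map (i : C →ₗ[K] D) (i : C →ₗ[K] D)).lTensor V
        ((CoalgebraStruct.comul (R := K) (A := C)).lTensor V t) := by
  rw [← LinearMap.comp_apply, ← LinearMap.lTensor_comp, ← LinearMap.comp_apply, ← LinearMap.lTensor_comp,
    show TensorProduct.map (i : C →ₗ[K] D) (i : C →ₗ[K] D) ∘ₗ CoalgebraStruct.comul =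
      CoalgebraStruct.comul ∘ₗ (i : C →ₗ[K] D) from i.map_comp_comul]

lemma lTensor_counit_lTensor (t : V ⊗[K] C) :
    (CoalgebraStruct.counit (R := K) (A := D)).lTensor V ((i : C →ₗ[K] D).lTensor V t) =
      (CoalgebraStruct.counit (R := K) (A := C)).lTensor V t := by
  rw [← LinearMap.comp_apply, ← LinearMap.lTensor_comp,
    show CoalgebraStruct.counit ∘ₗ (i : C →ₗ[K] D) = CoalgebraStruct.counit from i.counit_comp]

/-- Push a comodule forward along a map of coalgebras. -/
@[reducible] def pushforward (c : HopfRep.Comod K C V) : HopfRep.Comod K D V where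
  coact := (i : C →ₗ[K] D).lTensor V ∘ₗ c.coact
  coassoc := LinearMap.ext fun v => by
    simp only [LinearMap.comp_apply, LinearEquiv.coe_coe]
    rw [assoc_rTensor_lTensor, lTensor_comul_lTensor]
    exact congr_arg _ (LinearMap.congr_fun c.coassoc v)
  counit_comp := LinearMap.ext fun v => by
    rw [LinearMap.comp_apply, LinearMap.comp_apply, lTensor_counit_lTensor]
    exact LinearMap.congr_fun c.counit_comp v

variable {i} (hi : Function.Injective i)
include hi

/-- Pull a comodule back along an injective map of coalgebras. -/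
theorem exists_pullback (c : HopfRep.Comod K D V)
    (h : ∀ v, c.coact v ∈ LinearMap.range ((i : C →ₗ[K] D).lTensor V)) :
    ∃ c' : HopfRep.Comod K C V, (i : C →ₗ[K] D).lTensor V ∘ₗ c'.coact = c.coact := by
  have hinj : Function.Injective ((i : C →ₗ[K] D).lTensor V) :=
    Module.Flat.lTensor_preserves_injective_linearMap _ hi
  let e := LinearEquiv.ofInjective _ hinj
  let ρ' : V →ₗ[K] V ⊗[K] C := e.symm.toLinearMap ∘ₗ c.coact.codRestrict _ h
  have key : (i : C →ₗ[K] D).lTensor V ∘ₗ ρ' = c.coact :=
    LinearMap.ext fun v => congr_arg Subtype.val (e.apply_symm_apply ⟨c.coact v, h v⟩)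
  refine ⟨{ coact := ρ', coassoc := ?_, counit_comp := ?_ }, key⟩
  · refine LinearMap.ext fun v => ?_
    have hinj2 : Function.Injective ((TensorProduct.map (i : C →ₗ[K] D) (i : C →ₗ[K] D)).lTensor V) :=
      Module.Flat.lTensor_preserves_injective_linearMap _
        (TensorProduct.map_injective_of_flat_flat _ _ hi hi)
    apply hinj2
    simp only [LinearMap.comp_apply, LinearEquiv.coe_coe]
    rw [← assoc_rTensor_lTensor, ← lTensor_comul_lTensor, key,
      show (i : C →ₗ[K] D).lTensor V (ρ' v) = c.coact v from LinearMap.congr_fun key v]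
    exact LinearMap.congr_fun c.coassoc v
  · refine LinearMap.ext fun v => ?_
    rw [LinearMap.comp_apply, ← lTensor_counit_lTensor i, ← LinearMap.comp_apply _ ρ', key]
    exact LinearMap.congr_fun c.counit_comp v

/-- Subcomodules do not change along an injective map of coalgebras. -/
theorem isSubcomod_iff_of_injective {c : HopfRep.Comod K C V} {d : HopfRep.Comod K D V}
    (hcd : (i : C →ₗ[K] D).lTensor V ∘ₗ c.coact = d.coact) (W : Submodule K V) :
    @HopfRep.IsSubcomod K D _ _ _ _ V _ _ d W ↔ @HopfRep.IsSubcomod K C _ _ _ _ V _ _ c W := by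
  unfold HopfRep.IsSubcomod
  simp only [mem_range_rTensor_iff]
  refine forall₂_congr fun w _ => ?_
  have e : ∀ (g : D →ₗ[K] K) (t : V ⊗[K] C),
      cR g ((i : C →ₗ[K] D).lTensor V t) = cR (g ∘ₗ (i : C →ₗ[K] D)) t := fun g t => by
    induction t using TensorProduct.induction_on with
    | zero => simp
    | tmul x y => simp
    | add x y hx hy => simp [hx, hy]
  constructor
  · intro h f
    obtain ⟨g, hg⟩ := LinearMap.exists_leftInverse_of_injective (i : C →ₗ[K] D)
      (LinearMap.ker_eq_bot.mpr hi)
    have := h (f ∘ₗ g)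
    rwa [← hcd, LinearMap.comp_apply, e, LinearMap.comp_assoc, hg, LinearMap.comp_id] at this
  · intro h g
    rw [← hcd, LinearMap.comp_apply, e]
    exact h _

end Groth.Agent.Comod
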