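import Groth.Agent.Comod.Reductive
import Groth.Prelude.Def_GLin

/-!
# The Reynolds operator of a linearly reductive group

A left invariant and a right invariant normalised functional agree, and acting by it projects every
comodule onto its fixed vectors, naturally and linearly over fixed scalars.
-/

universe u v w w'
open TensorProduct Coalgebra
noncomputable section

namespace Groth.Agent.Comod

variable {k : Type u} [Field k] {A : Type v} [CommRing A] [HopfAlgebra k A]

/-- A normalised two-sided invariant functional. -/
structure Integral (k : Type u) (A : Type v) [Field k] [CommRing A] [HopfAlgebra k A] where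
  /-- the functional -/
  toFun : A →ₗ[k] k
  one : toFun 1 = 1
  left : ∀ a, LeftInvAt toFun a
  right : ∀ a, cR toFun (comul (R := k) a) = algebraMap k A (toFun a)

theorem nonempty_integral (h : HopfRep.IsLinearlyReductive k A) : Nonempty (Integral k A) := by
  obtain ⟨l, h1, hl⟩ := exists_integral h
  have hr : ∀ a, cR (l ∘ₗ HopfAlgebra.antipode k) (comul (R := k) a) =
      algebraMap k A (l (HopfAlgebra.antipode k a)) := fun a => cR_antipode hl a
  have hr1 : (l ∘ₗ HopfAlgebra.antipode k) 1 = 1 := by simp [HopfAlgebra.antipode_one, h1]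
  have heq : ∀ a, l (HopfAlgebra.antipode k a) = l a := fun a => by
    have e := cR_cL (l ∘ₗ HopfAlgebra.antipode k) l (comul (R := k) a)
    rw [show cL l (comul (R := k) a) = algebraMap k A (l a) from hl a, hr, Algebra.algebraMap_eq_smul_one,
      Algebra.algebraMap_eq_smul_one, map_smul, map_smul, hr1, h1, smul_eq_mul, smul_eq_mul, mul_one, mul_one] at e
    exact e.symm
  refine ⟨⟨l, h1, hl, fun a => ?_⟩⟩
  have hle : l ∘ₗ HopfAlgebra.antipode k = l := LinearMap.ext heq
  rw [← heq a, ← hr a, hle]

variable {V : Type w} [AddCommGroup V] [Module k V] [HopfRep.Comod k A V]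
variable {W : Type w'} [AddCommGroup W] [Module k W] [HopfRep.Comod k A W]
variable (r : Integral k A)

variable (V) in
/-- The projection onto fixed vectors. -/
def reynolds : V →ₗ[k] V := dact k A V (WithConv.toConv r.toFun)

lemma reynolds_apply (v : V) :
    reynolds V r v = cR r.toFun (HopfRep.Comod.coact (k := k) (A := A) v) := rfl

lemma reynolds_mem (v : V) : reynolds V r v ∈ HopfRep.fixedPts k A V := by
  show HopfRep.Comod.coact (k := k) (A := A) (reynolds V r v) = reynolds V r v ⊗ₜ[k] (1 : A)
  refine tensor_eq_of_cL fun φ => ?_
  rw [cL_tmul, reynolds, ← coeff_smul, dact_apply, ← apply_cL_coact]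
  show cR r.toFun (comul (R := k) _) = _
  rw [r.right, Algebra.algebraMap_eq_smul_one]

lemma reynolds_of_mem {v : V} (hv : v ∈ HopfRep.fixedPts k A V) : reynolds V r v = v := by
  rw [reynolds_apply, show HopfRep.Comod.coact (k := k) (A := A) v = v ⊗ₜ[k] (1 : A) from hv, cR_tmul,
    r.one, one_smul]

lemma reynolds_natural {φ : V →ₗ[k] W} (hφ : Hoch.IsComodHom A φ) (v : V) :
    φ (reynolds V r v) = reynolds W r (φ v) :=
  isComodHom_iff.mp hφ _ v

include r in
lemma mem_fixedPts_map {φ : V →ₗ[k] W} (hφ : Hoch.IsComodHom A φ) {v : V}
    (hv : v ∈ HopfRep.fixedPts k A V) : φ v ∈ HopfRep.fixedPts k A W := by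
  rw [← reynolds_of_mem r hv, reynolds_natural r hφ]
  exact reynolds_mem r _

/-- The projection is linear over scalars through which the coaction is linear. -/
lemma reynolds_smul {R : Type*} [CommRing R] [Algebra k R] [Module R V] [IsScalarTower k R V]
    (hlin : ∀ (a : R) (m : V), HopfRep.Comod.coact (k := k) (A := A) (a • m) =
      a • HopfRep.Comod.coact (k := k) (A := A) m) (a : R) (v : V) :
    reynolds V r (a • v) = a • reynolds V r v := by
  simp only [reynolds_apply, hlin]
  generalize HopfRep.Comod.coact (k := k) (A := A) v = t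
  induction t using TensorProduct.induction_on with
  | zero => simp
  | tmul x y => rw [TensorProduct.smul_tmul', cR_tmul, cR_tmul, smul_comm]
  | add x y hx hy => simp only [smul_add, map_add, hx, hy]

/-- The projection commutes with multiplication by invariants. -/
lemma reynolds_mul {R : Type w} [CommRing R] [Algebra k R] [HopfRep.Comod k A R] (f x : R)
    (hmul : ∀ a b : R, HopfRep.Comod.coact (k := k) (A := A) (a * b) =
      HopfRep.Comod.coact (k := k) (A := A) a * HopfRep.Comod.coact (k := k) (A := A) b)
    (hf : f ∈ HopfRep.fixedPts k A R) : reynolds R r (f * x) = f * reynolds R r x := by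
  simp only [reynolds_apply, hmul]
  rw [show HopfRep.Comod.coact (k := k) (A := A) f = f ⊗ₜ[k] (1 : A) from hf]
  generalize HopfRep.Comod.coact (k := k) (A := A) x = t
  induction t using TensorProduct.induction_on with
  | zero => simp
  | tmul a b => simp [mul_smul_comm]
  | add a b ha hb => simp only [mul_add, map_add, ha, hb]

end Groth.Agent.Comod
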