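import Groth.Agent.Comod.FGSub
import Groth.Prelude.Def_ComodSub
import Mathlib.Algebra.Module.Projective
import Mathlib.LinearAlgebra.Dual.Defs

/-!
# Covers of comodules inside cofree comodules
-/

set_option autoImplicit false
noncomputable section

universe u v w z

open TensorProduct

namespace Groth.Agent.Comod.Cofree

variable {R : Type u} [CommRing R] {C : Type v} [AddCommGroup C] [Module R C]
  {M : Type w} [AddCommGroup M] [Module R M] {N : Type z} [AddCommGroup N] [Module R N]

/-- The slice of a tensor along a functional. -/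
def sl (φ : C →ₗ[R] R) : M ⊗[R] C →ₗ[R] M := (TensorProduct.rid R M).toLinearMap ∘ₗ φ.lTensor M

theorem sl_tmul (φ : C →ₗ[R] R) (m : M) (c : C) : sl φ (m ⊗ₜ[R] c) = φ c • m := by simp [sl]

theorem sl_rTensor (φ : C →ₗ[R] R) (f : M →ₗ[R] N) (t : M ⊗[R] C) : sl φ (f.rTensor C t) = f (sl φ t) := by
  induction t using TensorProduct.induction_on with
  | zero => simp
  | tmul m c => simp [sl_tmul]
  | add a b ha hb => simp only [map_add, ha, hb]

theorem mem_range_of_slices [Module.Projective R C] (W : Submodule R M) {t : M ⊗[R] C}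
    (h : ∀ φ : C →ₗ[R] R, sl φ t ∈ W) : t ∈ LinearMap.range (W.subtype.rTensor C) := by
  classical
  obtain ⟨s, hs⟩ := Module.projective_def'.1 (inferInstance : Module.Projective R C)
  let φ : C → C →ₗ[R] R := fun i => Finsupp.lapply i ∘ₗ s
  obtain ⟨S, hS⟩ : ∃ S : Finset C, ∀ S' : Finset C, S ⊆ S' → t = ∑ i ∈ S', sl (φ i) t ⊗ₜ[R] i := by
    clear h
    induction t using TensorProduct.induction_on with
    | zero => exact ⟨∅, fun S' _ => by simp⟩
    | tmul m c =>
      refine ⟨(s c).support, fun S' hS' => ?_⟩
      have hc : ∑ i ∈ S', (s c) i • i = c := by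
        rw [← Finsupp.sum_of_support_subset (s c) hS' (fun i a => a • i) (fun i _ => zero_smul R i)]
        exact LinearMap.congr_fun hs c
      conv_lhs => rw [← hc, tmul_sum]
      exact Finset.sum_congr rfl fun i _ => by rw [sl_tmul, ← TensorProduct.smul_tmul]; rfl
    | add a b ha hb =>
      obtain ⟨Sa, hSa⟩ := ha
      obtain ⟨Sb, hSb⟩ := hb
      refine ⟨Sa ∪ Sb, fun S' hS' => ?_⟩
      conv_lhs => rw [hSa S' (Finset.subset_union_left.trans hS'), hSb S' (Finset.subset_union_right.trans hS')]
      rw [← Finset.sum_add_distrib]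
      exact Finset.sum_congr rfl fun i _ => by rw [map_add, TensorProduct.add_tmul]
  rw [hS S subset_rfl]
  exact Submodule.sum_mem _ fun i _ => ⟨(⟨_, h (φ i)⟩ : W) ⊗ₜ[R] i, by simp⟩

theorem sl_mem_of_range (W : Submodule R M) (φ : C →ₗ[R] R) {t : M ⊗[R] C}
    (h : t ∈ LinearMap.range (W.subtype.rTensor C)) : sl φ t ∈ W := by
  obtain ⟨s, rfl⟩ := h
  rw [sl_rTensor]
  exact (sl φ s).2

/-- Linear functionals separate the points. -/
def Sep (R : Type u) [CommRing R] (M : Type w) [AddCommGroup M] [Module R M] : Prop :=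
  ∀ x : M, (∀ f : M →ₗ[R] R, f x = 0) → x = 0

theorem sep_projective [Module.Projective R M] : Sep R M := fun x hx => by
  obtain ⟨s, hs⟩ := Module.projective_def'.1 (inferInstance : Module.Projective R M)
  have h1 : s x = 0 := Finsupp.ext fun i => hx (Finsupp.lapply i ∘ₗ s)
  have := LinearMap.congr_fun hs x
  rw [LinearMap.comp_apply, h1, map_zero] at this
  exact this.symm

theorem Sep.of_injective (h : Sep R N) (f : M →ₗ[R] N) (hf : Function.Injective f) : Sep R M := fun x hx =>
  hf (by rw [map_zero]; exact h _ fun g => hx (g ∘ₗ f))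

theorem sep_tensor [Module.Projective R C] (h : Sep R M) : Sep R (M ⊗[R] C) := fun t ht => by
  have h0 : ∀ φ : C →ₗ[R] R, sl φ t ∈ (⊥ : Submodule R M) := fun φ =>
    (Submodule.mem_bot R).2 (h _ fun f => ht (f ∘ₗ sl φ))
  obtain ⟨s, hs⟩ := mem_range_of_slices _ h0
  rw [← hs]
  clear hs ht h0
  induction s using TensorProduct.induction_on with
  | zero => simp
  | tmul w c => rw [LinearMap.rTensor_tmul, Submodule.subtype_apply, (Submodule.mem_bot R).1 w.2, zero_tmul]
  | add a b ha hb => rw [map_add, ha, hb, add_zero]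

variable [Coalgebra R C]

/-- The cofree comodule. -/
@[reducible] def cofree (M : Type w) [AddCommGroup M] [Module R M] : HopfRep.Comod R C (M ⊗[R] C) where
  coact := (TensorProduct.assoc R M C C).symm.toLinearMap ∘ₗ (CoalgebraStruct.comul (R := R) (A := C)).lTensor M
  coassoc := by
    refine TensorProduct.ext' fun m c => ?_
    simp only [LinearMap.comp_apply, LinearEquiv.coe_coe, LinearMap.lTensor_tmul]
    have h := Coalgebra.coassoc_apply (R := R) c
    have e1 : ∀ t : C ⊗[R] C, TensorProduct.assoc R (M ⊗[R] C) C C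
        (((TensorProduct.assoc R M C C).symm.toLinearMap ∘ₗ
          (CoalgebraStruct.comul (R := R) (A := C)).lTensor M).rTensor C ((TensorProduct.assoc R M C C).symm (m ⊗ₜ[R] t))) =
        (TensorProduct.assoc R M C (C ⊗[R] C)).symm (m ⊗ₜ[R] TensorProduct.assoc R C C C
          ((CoalgebraStruct.comul (R := R) (A := C)).rTensor C t)) := fun t => by
      induction t using TensorProduct.induction_on with
      | zero => simp
      | add a b ha hb => simp only [TensorProduct.tmul_add, map_add, ha, hb]
      | tmul a b =>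
        simp only [TensorProduct.assoc_symm_tmul, LinearMap.rTensor_tmul, LinearMap.comp_apply, LinearEquiv.coe_coe,
          LinearMap.lTensor_tmul]
        generalize CoalgebraStruct.comul (R := R) a = d
        induction d using TensorProduct.induction_on with
        | zero => simp
        | add a b ha hb => simp only [TensorProduct.tmul_add, TensorProduct.add_tmul, map_add, ha, hb]
        | tmul x y => simp
    have e2 : ∀ t : C ⊗[R] C,
        (CoalgebraStruct.comul (R := R) (A := C)).lTensor (M ⊗[R] C) ((TensorProduct.assoc R M C C).symm (m ⊗ₜ[R] t)) =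
        (TensorProduct.assoc R M C (C ⊗[R] C)).symm (m ⊗ₜ[R] (CoalgebraStruct.comul (R := R) (A := C)).lTensor C t) :=
      fun t => by
        induction t using TensorProduct.induction_on with
        | zero => simp
        | add a b ha hb => simp only [TensorProduct.tmul_add, map_add, ha, hb]
        | tmul a b => simp
    rw [e1, e2, h]
  counit_comp := by
    refine TensorProduct.ext' fun m c => ?_
    simp only [LinearMap.comp_apply, LinearEquiv.coe_coe, LinearMap.lTensor_tmul]
    have e : ∀ t : C ⊗[R] C,
        (CoalgebraStruct.counit (R := R) (A := C)).lTensor (M ⊗[R] C) ((TensorProduct.assoc R M C C).symm (m ⊗ₜ[R] t)) =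
        (TensorProduct.assoc R M C R).symm (m ⊗ₜ[R] (CoalgebraStruct.counit (R := R) (A := C)).lTensor C t) :=
      fun t => by
        induction t using TensorProduct.induction_on with
        | zero => simp
        | add a b ha hb => simp only [TensorProduct.tmul_add, map_add, ha, hb]
        | tmul a b => simp
    rw [e, Coalgebra.lTensor_counit_comul]
    simp

theorem sl_cofree_rTensor (φ : C →ₗ[R] R) (f : M →ₗ[R] N) (x : M ⊗[R] C) :
    f.rTensor C (sl φ ((cofree M).coact x)) = sl φ ((cofree (R := R) (C := C) N).coact (f.rTensor C x)) := by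
  induction x using TensorProduct.induction_on with
  | zero => simp
  | add a b ha hb => simp only [map_add, ha, hb]
  | tmul m c =>
    show f.rTensor C (sl φ ((TensorProduct.assoc R M C C).symm (m ⊗ₜ[R] CoalgebraStruct.comul (R := R) c))) =
      sl φ ((TensorProduct.assoc R N C C).symm (f m ⊗ₜ[R] CoalgebraStruct.comul (R := R) c))
    generalize CoalgebraStruct.comul (R := R) c = d
    induction d using TensorProduct.induction_on with
    | zero => simp
    | add a b ha hb => simp only [TensorProduct.tmul_add, map_add, ha, hb]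
    | tmul x y => simp [sl_tmul]

theorem sl_cofree_coact (φ : C →ₗ[R] R) (c : HopfRep.Comod R C M) (m : M) :
    sl φ ((cofree (R := R) (C := C) M).coact (c.coact m)) = c.coact (sl φ (c.coact m)) := by
  have h := LinearMap.congr_fun c.coassoc m
  simp only [LinearMap.comp_apply, LinearEquiv.coe_coe] at h
  show sl φ ((TensorProduct.assoc R M C C).symm ((CoalgebraStruct.comul (R := R) (A := C)).lTensor M (c.coact m))) = _
  rw [← h, LinearEquiv.symm_apply_apply, sl_rTensor]

/-- The evaluation at the counit, after projection. -/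
def proj (c : HopfRep.Comod R C N) (g : M →ₗ[R] N) : M ⊗[R] C →ₗ[R] N :=
  sl (CoalgebraStruct.counit (R := R) (A := C)) ∘ₗ g.rTensor C

theorem sl_counit_coact (c : HopfRep.Comod R C N) (n : N) :
    sl (CoalgebraStruct.counit (R := R) (A := C)) (c.coact n) = n := by
  have h := LinearMap.congr_fun c.counit_comp n
  simp only [LinearMap.comp_apply, LinearMap.flip_apply, TensorProduct.mk_apply] at h
  simp [sl, h]

theorem proj_rTensor_coact (c : HopfRep.Comod R C N) (g : M →ₗ[R] N) (x : M ⊗[R] C) :
    (proj c g).rTensor C ((cofree (R := R) (C := C) M).coact x) = g.rTensor C x := by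
  induction x using TensorProduct.induction_on with
  | zero => simp
  | add a b ha hb => simp only [map_add, ha, hb]
  | tmul m a =>
    show (proj c g).rTensor C ((TensorProduct.assoc R M C C).symm (m ⊗ₜ[R] CoalgebraStruct.comul (R := R) a)) = _
    have : ∀ t : C ⊗[R] C, (proj c g).rTensor C ((TensorProduct.assoc R M C C).symm (m ⊗ₜ[R] t)) =
        g m ⊗ₜ[R] TensorProduct.lid R C ((CoalgebraStruct.counit (R := R) (A := C)).rTensor C t) := fun t => by
      induction t using TensorProduct.induction_on with
      | zero => simp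
      | add a b ha hb => simp only [TensorProduct.tmul_add, map_add, ha, hb]
      | tmul a b => simp [proj, sl_tmul, TensorProduct.smul_tmul]
    rw [this, Coalgebra.rTensor_counit_comul]
    simp

theorem exists_cover [IsNoetherianRing R] [Module.Projective R C] (c : HopfRep.Comod R C N) [Module.Finite R N] :
    ∃ (n : ℕ) (g : (Fin n → R) →ₗ[R] N) (W : Submodule R ((Fin n → R) ⊗[R] C)), W.FG ∧
      (∀ x ∈ W, ∀ φ, sl φ ((cofree (R := R) (C := C) (Fin n → R)).coact x) ∈ W) ∧
      (∀ x ∈ W, g.rTensor C x = c.coact (proj c g x)) ∧ ∀ y, ∃ x ∈ W, proj c g x = y := by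
  classical
  obtain ⟨n, g, hg⟩ := Module.Finite.exists_fin' R N
  obtain ⟨k, gen, hgen⟩ := Module.Finite.exists_fin (R := R) (M := N)
  have hq : Function.Surjective (g.rTensor C) := LinearMap.rTensor_surjective C hg
  choose x hx using fun j => hq (c.coact (gen j))
  let X := (Fin n → R) ⊗[R] C
  let D : X →ₗ[R] N ⊗[R] C := g.rTensor C - c.coact ∘ₗ proj c g
  have hxD : ∀ j, D (x j) = 0 := fun j => by
    simp only [D, LinearMap.sub_apply, LinearMap.comp_apply, proj, hx, sl_counit_coact, sub_self]
  obtain ⟨W, hle, hfg, hW⟩ := Groth.Agent.Comod.exists_fg_stable (R := R) (C := C)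
    (cofree (R := R) (C := C) (Fin n → R)).coact (cofree (R := R) (C := C) (Fin n → R)).coassoc
    (cofree (R := R) (C := C) (Fin n → R)).counit_comp (Submodule.span R (Set.range x))
    (Submodule.fg_span (Set.finite_range x))
  have hD : ∀ y : X, D y = 0 → ∀ φ, D (sl φ ((cofree (R := R) (C := C) (Fin n → R)).coact y)) = 0 := fun y hy φ => by
    have hy' : g.rTensor C y = c.coact (proj c g y) := sub_eq_zero.1 hy
    have h1 : g.rTensor C (sl φ ((cofree (R := R) (C := C) (Fin n → R)).coact y)) =
        c.coact (sl φ (c.coact (proj c g y))) := by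
      rw [sl_cofree_rTensor, hy', sl_cofree_coact]
    simp only [D, LinearMap.sub_apply, LinearMap.comp_apply, proj, h1, sl_counit_coact, sub_self]
  refine ⟨n, g, W ⊓ LinearMap.ker D, ?_, fun y hy φ => ⟨sl_mem_of_range W φ (hW y hy.1), hD y hy.2 φ⟩,
    fun y hy => sub_eq_zero.1 hy.2, fun y => ?_⟩
  · haveI : Module.Finite R W := Module.Finite.iff_fg.2 hfg
    haveI := isNoetherian_of_isNoetherianRing_of_finite R W
    haveI : Module.Finite R ↥(W ⊓ LinearMap.ker D) :=
      Module.Finite.of_injective (Submodule.inclusion inf_le_left) (Submodule.inclusion_injective _)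
    exact Module.Finite.iff_fg.1 inferInstance
  · have hy : y ∈ Submodule.span R (Set.range gen) := hgen ▸ Submodule.mem_top
    have : y ∈ Submodule.map (proj c g) (W ⊓ LinearMap.ker D) := by
      refine (Submodule.span_le.2 ?_) hy
      rintro _ ⟨j, rfl⟩
      exact ⟨x j, ⟨hle (Submodule.subset_span ⟨j, rfl⟩), hxD j⟩, by simp [proj, hx, sl_counit_coact]⟩
    exact this

end Groth.Agent.Comod.Cofree
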