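import Groth.Agent.Comod.Corep
import Groth.Agent.Comod.FGSub
import Groth.Prelude.Def_ComodSub

/-!
# Extending a comodule structure from a direct summand, trivially on the complement
-/

set_option autoImplicit false

universe u v w z

open TensorProduct

namespace Groth.Agent.Comod

variable {R : Type u} [CommRing R] {A : Type v} [CommRing A] [Bialgebra R A]
  {E : Type w} [AddCommGroup E] [Module R E] {F : Type z} [AddCommGroup F] [Module R F]

/-- The coaction on `F`: that of the retract `E`, trivial on the complement. -/
noncomputable def extendCoact (c : HopfRep.Comod R A E) (g : F →ₗ[R] E) (σ : E →ₗ[R] F) : F →ₗ[R] F ⊗[R] A :=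
  σ.rTensor A ∘ₗ c.coact ∘ₗ g + (TensorProduct.mk R F A).flip 1 ∘ₗ (LinearMap.id - σ ∘ₗ g)

theorem extendCoact_apply (c : HopfRep.Comod R A E) (g : F →ₗ[R] E) (σ : E →ₗ[R] F) (x : F) :
    extendCoact c g σ x = σ.rTensor A (c.coact (g x)) + (x - σ (g x)) ⊗ₜ[R] (1 : A) := rfl

theorem extendCoact_incl (c : HopfRep.Comod R A E) (g : F →ₗ[R] E) (σ : E →ₗ[R] F) (h : ∀ e, g (σ e) = e) (e : E) :
    extendCoact c g σ (σ e) = σ.rTensor A (c.coact e) := by
  rw [extendCoact_apply, h, sub_self, zero_tmul, add_zero]

theorem rTensor_extendCoact (c : HopfRep.Comod R A E) (g : F →ₗ[R] E) (σ : E →ₗ[R] F) (h : ∀ e, g (σ e) = e)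
    (x : F) : g.rTensor A (extendCoact c g σ x) = c.coact (g x) := by
  rw [extendCoact_apply, map_add, ← LinearMap.rTensor_comp_apply, LinearMap.rTensor_tmul, map_sub, h, sub_self,
    zero_tmul, add_zero, show g ∘ₗ σ = LinearMap.id from LinearMap.ext h, LinearMap.rTensor_id, LinearMap.id_apply]

/-- The comodule structure. -/
@[reducible] noncomputable def extendComod (c : HopfRep.Comod R A E) (g : F →ₗ[R] E) (σ : E →ₗ[R] F)
    (h : ∀ e, g (σ e) = e) : HopfRep.Comod R A F where
  coact := extendCoact c g σ
  coassoc := by
    refine LinearMap.ext fun x => ?_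
    have hcomp : extendCoact c g σ ∘ₗ σ = σ.rTensor A ∘ₗ c.coact := LinearMap.ext fun e => extendCoact_incl c g σ h e
    have hk : extendCoact c g σ (x - σ (g x)) = (x - σ (g x)) ⊗ₜ[R] (1 : A) := by
      rw [extendCoact_apply, map_sub, h, sub_self, map_zero, map_zero, map_zero, zero_add, sub_zero]
    have hassoc : ∀ t : (E ⊗[R] A) ⊗[R] A, TensorProduct.assoc R F A A ((σ.rTensor A).rTensor A t) =
        σ.rTensor (A ⊗[R] A) (TensorProduct.assoc R E A A t) := fun t => by
      induction t using TensorProduct.induction_on with
      | zero => simp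
      | add a b ha hb => simp only [map_add, ha, hb]
      | tmul a b =>
        induction a using TensorProduct.induction_on with
        | zero => simp
        | add a a' ha ha' => simp only [TensorProduct.add_tmul, map_add, ha, ha']
        | tmul a a' => simp
    have hcommute : ∀ t : E ⊗[R] A, σ.rTensor (A ⊗[R] A) ((CoalgebraStruct.comul (R := R) (A := A)).lTensor E t) =
        (CoalgebraStruct.comul (R := R) (A := A)).lTensor F (σ.rTensor A t) := fun t => by
      induction t using TensorProduct.induction_on with
      | zero => simp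
      | add a b ha hb => simp only [map_add, ha, hb]
      | tmul a b => simp
    have hc := LinearMap.congr_fun c.coassoc (g x)
    simp only [LinearMap.comp_apply, LinearEquiv.coe_coe] at hc
    simp only [LinearMap.comp_apply, LinearEquiv.coe_coe]
    rw [extendCoact_apply, map_add, map_add, map_add, ← LinearMap.rTensor_comp_apply, hcomp,
      LinearMap.rTensor_comp_apply, hassoc, hc, LinearMap.rTensor_tmul, hk, TensorProduct.assoc_tmul, hcommute]
    simp [Bialgebra.comul_one, Algebra.TensorProduct.one_def]
  counit_comp := by
    refine LinearMap.ext fun x => ?_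
    have hc := LinearMap.congr_fun c.counit_comp (g x)
    simp only [LinearMap.comp_apply] at hc
    simp only [LinearMap.comp_apply]
    rw [extendCoact_apply, map_add, ← LinearMap.comp_apply, LinearMap.lTensor_comp_rTensor,
      ← LinearMap.rTensor_comp_lTensor, LinearMap.comp_apply, hc]
    simp [Bialgebra.counit_one, ← TensorProduct.add_tmul]

end Groth.Agent.Comod
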