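import Groth.Agent.Comod.Reductive
import Groth.Prelude.Def_W4c1tameactTame

/-!
# The fundamental theorem of Hopf modules

For a commutative Hopf algebra `A` over `k` and a Hopf module `M` over `A`, the projection
`m ↦ Σ S(m₁) • m₀` lands in the invariants, `m = Σ m₁ • Q(m₀)`, and `Q(a • v) = ε(a) v` for invariant `v`.
-/

universe u v w
open TensorProduct Coalgebra
noncomputable section

namespace Groth.Agent.Comod

variable {k : Type u} [Field k] {A : Type v} [CommRing A] [HopfAlgebra k A]
variable {M : Type w} [AddCommGroup M] [Module k M] [Module A M] [IsScalarTower k A M]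
  [HopfRep.Comod k A M] [TameAct.IsHopfMod k A A M]

local notation "ρ" => HopfRep.Comod.coact (k := k) (A := A) (V := M)
local notation "S" => HopfAlgebra.antipode k (A := A)

variable (k A M) in
/-- `m ⊗ a ↦ S(a) • m`. -/
def hopfR : M ⊗[k] A →ₗ[k] M :=
  TensorProduct.lift ((Algebra.lsmul k k M : A →ₐ[k] Module.End k M).toLinearMap ∘ₗ S).flip

omit [HopfRep.Comod k A M] [TameAct.IsHopfMod k A A M] in
@[simp] lemma hopfR_tmul (m : M) (a : A) : hopfR k A M (m ⊗ₜ a) = S a • m := rfl

variable (k A M) in
/-- `m ↦ Σ S(m₁) • m₀`. -/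
def hopfQ : M →ₗ[k] M := hopfR k A M ∘ₗ ρ

/-- The Hopf algebra identity behind invariance: `Σ Δ(S b₂) (1 ⊗ b₁) = S b ⊗ 1`. -/
lemma comul_antipode_snd_mul (b : A) :
    TensorProduct.lift ((LinearMap.mul k (A ⊗[k] A)).flip.compl₁₂
      (TensorProduct.mk k A A 1) (comul ∘ₗ S)) (comul b) = S b ⊗ₜ[k] (1 : A) := by
  let K : A ⊗[k] (A ⊗[k] A) →ₗ[k] A ⊗[k] A :=
    TensorProduct.lift ((LinearMap.mul k (A ⊗[k] A)).flip.compl₁₂ (TensorProduct.mk k A A 1)
      ((TensorProduct.comm k A A).toLinearMap ∘ₗ TensorProduct.map S S))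
  have h1 : TensorProduct.lift ((LinearMap.mul k (A ⊗[k] A)).flip.compl₁₂
      (TensorProduct.mk k A A 1) (comul ∘ₗ S)) (comul b) = K (comul.lTensor A (comul b)) := by
    generalize comul (R := k) b = t
    induction t using TensorProduct.induction_on with
    | zero => simp
    | tmul x y => simp [K, comul_antipode]
    | add x y hx hy => simp only [map_add, hx, hy]
  rw [h1, ← coassoc_apply]
  have h2 : ∀ (c : A) (b3 : A), K (TensorProduct.assoc k A A A (comul c ⊗ₜ b3)) =
      (S b3 ⊗ₜ[k] algebraMap k A (counit c)) := by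
    intro c b3
    rw [← HopfAlgebra.mul_antipode_lTensor_comul_apply (R := k) c]
    generalize comul (R := k) c = t
    induction t using TensorProduct.induction_on with
    | zero => simp
    | tmul x y => simp [K, mul_comm x]
    | add x y hx hy => simp only [add_tmul, map_add, tmul_add, hx, hy]
  have h3 : ∀ t : A ⊗[k] A, K (TensorProduct.assoc k A A A (comul.rTensor A t)) =
      S (TensorProduct.lid k A (counit.rTensor A t)) ⊗ₜ[k] (1 : A) := by
    intro t
    induction t using TensorProduct.induction_on with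
    | zero => simp
    | tmul x y =>
      rw [LinearMap.rTensor_tmul, h2, LinearMap.rTensor_tmul, TensorProduct.lid_tmul, map_smul,
        smul_tmul, Algebra.algebraMap_eq_smul_one]
    | add x y hx hy => simp only [map_add, hx, hy, add_tmul]
  rw [h3, rTensor_counit_comul, TensorProduct.lid_tmul, one_smul]

omit [HopfRep.Comod k A M] [TameAct.IsHopfMod k A A M] in
lemma hmSMul_tmul_right (x : A ⊗[k] A) (m : M) (b : A) :
    TameAct.hmSMul k A A M x (m ⊗ₜ b) = TameAct.hmSMul k A A M (x * ((1 : A) ⊗ₜ b)) (m ⊗ₜ 1) := by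
  induction x using TensorProduct.induction_on with
  | zero => simp
  | tmul c d => simp
  | add x y hx hy => simp only [add_mul, map_add, LinearMap.add_apply, hx, hy]

lemma coact_hopfQ (m : M) : ρ (hopfQ k A M m) = hopfQ k A M m ⊗ₜ (1 : A) := by
  let G : (M ⊗[k] A) ⊗[k] A →ₗ[k] M ⊗[k] A :=
    TensorProduct.lift ((TameAct.hmSMul k A A M ∘ₗ comul ∘ₗ S).flip)
  have h1 : ∀ t : M ⊗[k] A, ρ (hopfR k A M t) = G ((ρ).rTensor A t) := by
    intro t
    induction t using TensorProduct.induction_on with
    | zero => simp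
    | tmul x a =>
      rw [hopfR_tmul, LinearMap.rTensor_tmul, TameAct.IsHopfMod.coact_smul]
      rfl
    | add x y hx hy => simp only [map_add, hx, hy]
  have h2 : ∀ t : M ⊗[k] A, G ((TensorProduct.assoc k M A A).symm (comul.lTensor M t)) =
      hopfR k A M t ⊗ₜ (1 : A) := by
    intro t
    induction t using TensorProduct.induction_on with
    | zero => simp
    | tmul x b =>
      have e : TameAct.hmSMul k A A M (S b ⊗ₜ[k] (1 : A)) (x ⊗ₜ 1) = (S b • x) ⊗ₜ (1 : A) := by simp
      rw [LinearMap.lTensor_tmul, hopfR_tmul, ← e, ← comul_antipode_snd_mul]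
      generalize comul (R := k) b = s
      induction s using TensorProduct.induction_on with
      | zero => simp
      | tmul p q =>
        rw [TensorProduct.assoc_symm_tmul]
        show TameAct.hmSMul k A A M (comul (S q)) (x ⊗ₜ p) =
          TameAct.hmSMul k A A M (comul (S q) * ((1 : A) ⊗ₜ p)) (x ⊗ₜ 1)
        exact hmSMul_tmul_right _ _ _
      | add p q hp hq => simp only [tmul_add, map_add, hp, hq, LinearMap.add_apply]
    | add x y hx hy => simp only [map_add, hx, hy, add_tmul]
  show ρ (hopfR k A M (ρ m)) = _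
  rw [h1, show hopfQ k A M m = hopfR k A M (ρ m) from rfl, ← h2]
  congr 1
  exact (LinearEquiv.eq_symm_apply _).mpr (LinearMap.congr_fun HopfRep.Comod.coassoc m)

lemma hopfQ_mem (m : M) : hopfQ k A M m ∈ HopfRep.fixedPts k A M := coact_hopfQ m

omit [TameAct.IsHopfMod k A A M] in
/-- `m = Σ m₁ • Q(m₀)`. -/
lemma eq_sum_smul_hopfQ (m : M) :
    TensorProduct.lift (((Algebra.lsmul k k M : A →ₐ[k] Module.End k M).toLinearMap).flip ∘ₗ hopfQ k A M)
      (ρ m) = m := by
  let R' : (M ⊗[k] A) ⊗[k] A →ₗ[k] M :=
    TensorProduct.lift (((Algebra.lsmul k k M : A →ₐ[k] Module.End k M).toLinearMap).flip ∘ₗ hopfR k A M)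
  have h1 : ∀ t : M ⊗[k] A,
      TensorProduct.lift (((Algebra.lsmul k k M : A →ₐ[k] Module.End k M).toLinearMap).flip ∘ₗ hopfQ k A M) t =
        R' ((ρ).rTensor A t) := by
    intro t
    induction t using TensorProduct.induction_on with
    | zero => simp
    | tmul x a => rfl
    | add x y hx hy => simp only [map_add, hx, hy]
  have h2 : ∀ t : M ⊗[k] A, R' ((TensorProduct.assoc k M A A).symm (comul.lTensor M t)) =
      TensorProduct.rid k M (counit.lTensor M t) := by
    intro t
    induction t using TensorProduct.induction_on with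
    | zero => simp
    | tmul x b =>
      rw [LinearMap.lTensor_tmul, LinearMap.lTensor_tmul, TensorProduct.rid_tmul,
        ← algebraMap_smul A, ← HopfAlgebra.mul_antipode_rTensor_comul_apply (R := k) b]
      generalize comul (R := k) b = s
      induction s using TensorProduct.induction_on with
      | zero => simp
      | tmul p q => simp [R', smul_smul, mul_comm q]
      | add p q hp hq => simp only [tmul_add, map_add, hp, hq, add_smul]
    | add x y hx hy => simp only [map_add, hx, hy]
  rw [h1]
  have e : (ρ).rTensor A (ρ m) = (TensorProduct.assoc k M A A).symm (comul.lTensor M (ρ m)) :=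
    (LinearEquiv.eq_symm_apply _).mpr (LinearMap.congr_fun HopfRep.Comod.coassoc m)
  rw [e, h2]
  have e2 : counit.lTensor M (ρ m) = m ⊗ₜ (1 : k) := LinearMap.congr_fun HopfRep.Comod.counit_comp m
  rw [e2, TensorProduct.rid_tmul, one_smul]

lemma hopfQ_smul_fixed (a : A) {x : M} (hx : x ∈ HopfRep.fixedPts k A M) :
    hopfQ k A M (a • x) = counit (R := k) a • x := by
  show hopfR k A M (ρ (a • x)) = _
  rw [TameAct.IsHopfMod.coact_smul, show ρ x = x ⊗ₜ[k] (1 : A) from hx]
  show hopfR k A M (TameAct.hmSMul k A A M (comul a) (x ⊗ₜ 1)) = _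
  rw [← algebraMap_smul A, ← HopfAlgebra.mul_antipode_lTensor_comul_apply (R := k) a]
  generalize comul (R := k) a = s
  induction s using TensorProduct.induction_on with
  | zero => simp
  | tmul p q => simp [smul_smul, mul_comm p]
  | add p q hp hq => simp only [map_add, hp, hq, add_smul, LinearMap.add_apply]

/-- A `k`-basis of the invariants is an `A`-basis of the Hopf module. -/
theorem basis_of_fixedPts_basis {ι : Type*} (v : ι → M) (hli : LinearIndependent k v)
    (hsp : Submodule.span k (Set.range v) = HopfRep.fixedPts k A M) :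
    LinearIndependent A v ∧ Submodule.span A (Set.range v) = ⊤ := by
  have hv : ∀ i, v i ∈ HopfRep.fixedPts k A M := fun i => hsp ▸ Submodule.subset_span ⟨i, rfl⟩
  constructor
  · classical
    rw [linearIndependent_iff']
    intro s g hg j hj
    obtain ⟨φ, hφ⟩ := LinearMap.exists_extend
      ((Finsupp.lapply j).comp hli.repr : Submodule.span k (Set.range v) →ₗ[k] k)
    have hφv : ∀ i, φ (v i) = if i = j then 1 else 0 := by
      intro i
      have e := LinearMap.congr_fun hφ ⟨v i, Submodule.subset_span ⟨i, rfl⟩⟩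
      refine e.trans ?_
      rw [LinearMap.comp_apply, hli.repr_eq_single i _ rfl]
      simp [Finsupp.single_apply]
    let F : M →ₗ[k] A := (TensorProduct.lid k A).toLinearMap ∘ₗ
      (φ ∘ₗ hopfQ k A M).rTensor A ∘ₗ ρ
    have hF : ∀ i, F (g i • v i) = φ (v i) • g i := by
      intro i
      show TensorProduct.lid k A ((φ ∘ₗ hopfQ k A M).rTensor A (ρ (g i • v i))) = _
      rw [TameAct.IsHopfMod.coact_smul, show ρ (v i) = v i ⊗ₜ[k] (1 : A) from hv i]
      show TensorProduct.lid k A ((φ ∘ₗ hopfQ k A M).rTensor A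
        (TameAct.hmSMul k A A M (comul (g i)) (v i ⊗ₜ 1))) = _
      have key : ∀ s : A ⊗[k] A, TensorProduct.lid k A ((φ ∘ₗ hopfQ k A M).rTensor A
          (TameAct.hmSMul k A A M s (v i ⊗ₜ 1))) =
          φ (v i) • TensorProduct.lid k A (counit.rTensor A s) := by
        intro s
        induction s using TensorProduct.induction_on with
        | zero => simp
        | tmul p q => simp [hopfQ_smul_fixed p (hv i), smul_smul, mul_comm]
        | add p q hp hq => simp only [map_add, hp, hq, LinearMap.add_apply, smul_add]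
      rw [key, rTensor_counit_comul, TensorProduct.lid_tmul, one_smul]
    have := congr_arg F hg
    rw [map_sum, map_zero] at this
    simp only [hF, hφv, ite_smul, one_smul, zero_smul, Finset.sum_ite_eq', hj, if_true] at this
    exact this
  · rw [eq_top_iff]
    intro m _
    rw [← eq_sum_smul_hopfQ (k := k) (A := A) m]
    generalize ρ m = t
    induction t using TensorProduct.induction_on with
    | zero => simp
    | tmul x a =>
      rw [TensorProduct.lift.tmul]
      show a • hopfQ k A M x ∈ _
      refine Submodule.smul_mem _ a ?_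
      exact Submodule.span_le_restrictScalars k A (Set.range v) (hsp ▸ hopfQ_mem x)
    | add x y hx hy => simpa only [map_add] using Submodule.add_mem _ hx hy

end Groth.Agent.Comod
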