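import Groth.Agent.Comod.LineStab
import Groth.Agent.Comod.FGSub
import Groth.Agent.Comod.Corep
import Groth.Prelude.Def_ComodSub
import Mathlib.LinearAlgebra.FreeModule.PID
import Mathlib.RingTheory.Flat.TorsionFree

/-!
# Flat closed subgroups over principal ideal domains as stabilizers of lines
-/

set_option autoImplicit false

universe u v w

open TensorProduct Matrix

noncomputable section

namespace Groth.Agent.Comod.LinePID

variable {R : Type u} [CommRing R] [IsDomain R] [IsPrincipalIdealRing R] {A : Type v} [CommRing A] [HopfAlgebra R A]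
  [Module.Flat R A] [Algebra.FiniteType R A] {B : Type w} [CommRing B] [HopfAlgebra R B] [Module.Flat R B]

theorem exists_adapted (π : A →ₐc[R] B) :
    ∃ (d e : ℕ) (M : Matrix (Fin d ⊕ Fin e) (Fin d ⊕ Fin e) A), IsCorep (k := R) M ∧
      RingHom.ker (π : A →+* B) = Ideal.span (Set.range fun p : Fin e × Fin d => M (Sum.inr p.1) (Sum.inl p.2)) ∧
      Algebra.adjoin R (Set.range fun p : (Fin d ⊕ Fin e) × (Fin d ⊕ Fin e) => M p.1 p.2) = ⊤ := by
  classical
  haveI : IsNoetherianRing A := Algebra.FiniteType.isNoetherianRing R A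
  obtain ⟨s, hs⟩ := Algebra.FiniteType.out (R := R) (A := A)
  obtain ⟨t, ht⟩ := IsNoetherian.noetherian (RingHom.ker (π : A →+* B))
  obtain ⟨W, hstW, hWfg, hW⟩ := Groth.Agent.Comod.exists_fg_stable (R := R) (C := A) (V := A)
    CoalgebraStruct.comul Coalgebra.coassoc Coalgebra.lTensor_counit_comp_comul
    (Submodule.span R ((s ∪ t : Finset A) : Set A)) ⟨_, rfl⟩
  haveI : Module.Finite R W := Module.Finite.iff_fg.2 hWfg
  letI cW : HopfRep.Comod R A W := ComodSub.Comod.restr (HopfRep.Comod.regular R A) W hW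
  let f : W →ₗ[R] B := (π : A →ₗ[R] B) ∘ₗ W.subtype
  obtain ⟨d, bK⟩ := Submodule.basisOfPid (Module.Free.chooseBasis R W) (LinearMap.ker f)
  let e := Module.finrank R (LinearMap.range f)
  let bR : Module.Basis (Fin e) R (LinearMap.range f) := Module.finBasis R _
  obtain ⟨σ, hσ⟩ := Module.projective_lifting_property f.rangeRestrict LinearMap.id f.surjective_rangeRestrict
  have hσ' : ∀ y, f (σ y) = y := fun y => congrArg Subtype.val (LinearMap.congr_fun hσ y)
  let E : W ≃ₗ[R] LinearMap.ker f × LinearMap.range f := LinearEquiv.ofLinear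
    (LinearMap.prod ((LinearMap.id - σ ∘ₗ f.rangeRestrict).codRestrict _ fun x => by
      show f (x - σ (f.rangeRestrict x)) = 0
      rw [map_sub, hσ']
      exact sub_self _) f.rangeRestrict)
    ((LinearMap.ker f).subtype.coprod σ)
    (LinearMap.ext fun p => Prod.ext (Subtype.ext (by
        have h1 : f.rangeRestrict (p.1 : W) = 0 := Subtype.ext (LinearMap.mem_ker.1 p.1.2)
        have h2 : f.rangeRestrict (σ p.2) = p.2 := LinearMap.congr_fun hσ p.2
        simp [h1, h2])) (Subtype.ext (by
        have h1 : f (p.1 : W) = 0 := LinearMap.mem_ker.1 p.1.2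
        simp [h1, hσ'])))
    (LinearMap.ext fun x => by simp)
  let b : Module.Basis (Fin d ⊕ Fin e) R W := (bK.prod bR).map E.symm
  have hb1 : ∀ j, f (b (Sum.inl j)) = 0 := fun j => by
    have : b (Sum.inl j) = (bK j : W) := by simp [b, E]
    rw [this]; exact LinearMap.mem_ker.1 (bK j).2
  have hb2 : ∀ a, f (b (Sum.inr a)) = bR a := fun a => by
    have : b (Sum.inr a) = σ (bR a) := by simp [b, E]
    rw [this, hσ']
  have hε : ∀ x : A, π x = 0 → CoalgebraStruct.counit (R := R) x = 0 := fun x hx => by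
    rw [← CoalgHomClass.counit_comp_apply π x, hx, map_zero]
  have hcW : ∀ w : W, W.subtype.rTensor A (cW.coact w) = CoalgebraStruct.comul (R := R) (w : A) :=
    fun w => ComodSub.restr_coact_coe _ W hW w
  have hexp : ∀ w : W, (w : A) = ∑ j, b.repr w j • ∑ i, CoalgebraStruct.counit (R := R) (b i : A) •
      coMatrix (A := A) b i j := fun w => by
    let L : W ⊗[R] A →ₗ[R] A := (TensorProduct.lid R A).toLinearMap ∘ₗ
      ((CoalgebraStruct.counit (R := R) (A := A)) ∘ₗ W.subtype).rTensor A
    have h1 : L (cW.coact w) = w := by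
      show TensorProduct.lid R A (((CoalgebraStruct.counit (R := R) (A := A)) ∘ₗ W.subtype).rTensor A (cW.coact w)) = _
      rw [LinearMap.rTensor_comp_apply, hcW, Coalgebra.rTensor_counit_comul]
      simp
    conv_lhs => rw [← h1, ← b.sum_repr w]
    simp only [map_sum, map_smul, Groth.Agent.Comod.coact_basis, L, LinearMap.comp_apply, LinearEquiv.coe_coe,
      LinearMap.rTensor_tmul, TensorProduct.lid_tmul, Submodule.subtype_apply]
  refine ⟨d, e, coMatrix (A := A) b, isCorep_coMatrix b, le_antisymm ?_ ?_, ?_⟩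
  · rw [← ht]
    refine Ideal.span_le.2 fun x hx => ?_
    let w : W := ⟨x, hstW (Submodule.subset_span (Finset.mem_coe.2 (Finset.mem_union_right _ hx)))⟩
    have hx0 : x ∈ RingHom.ker (π : A →+* B) := ht ▸ Ideal.subset_span hx
    have hw : f w = 0 := (RingHom.mem_ker.1 hx0 :)
    have hr : ∀ a, b.repr w (Sum.inr a) = 0 := fun a => by
      have h0 : f.rangeRestrict w = 0 := Subtype.ext hw
      simp [b, E, h0]
    rw [SetLike.mem_coe, show x = (w : A) from rfl, hexp w]
    refine Ideal.sum_mem _ fun j _ => ?_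
    rcases j with j | a
    · refine Submodule.smul_of_tower_mem _ _ (Ideal.sum_mem _ fun i _ => ?_)
      rcases i with l | a
      · have h0 : CoalgebraStruct.counit (R := R) (b (Sum.inl l) : A) = 0 := hε _ (hb1 l)
        rw [h0, zero_smul]; exact Ideal.zero_mem _
      · exact Submodule.smul_of_tower_mem _ _ (Ideal.subset_span ⟨(a, j), rfl⟩)
    · rw [hr, zero_smul]; exact Ideal.zero_mem _
  · refine Ideal.span_le.2 ?_
    rintro _ ⟨⟨a, j⟩, rfl⟩
    have h := congrArg (TensorProduct.map (π : A →ₗ[R] B) (π : A →ₗ[R] B)) (hcW (b (Sum.inl j)))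
    rw [← LinearMap.comp_apply (LinearMap.rTensor A W.subtype) _, ← LinearMap.comp_apply,
      ← LinearMap.comp_assoc, LinearMap.map_comp_rTensor, LinearMap.comp_apply,
      show TensorProduct.map (π : A →ₗ[R] B) (π : A →ₗ[R] B) (CoalgebraStruct.comul (R := R) (b (Sum.inl j) : A)) =
        CoalgebraStruct.comul (R := R) (π (b (Sum.inl j) : A)) from CoalgHomClass.map_comp_comul_apply π _,
      show π (b (Sum.inl j) : A) = 0 from hb1 j, map_zero, Groth.Agent.Comod.coact_basis, map_sum] at h
    simp only [TensorProduct.map_tmul] at h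
    rw [Fintype.sum_sum_type] at h
    have hz : ∀ i, f (b (Sum.inl i)) ⊗ₜ[R] π (coMatrix (A := A) b (Sum.inl i) (Sum.inl j)) = 0 := fun i => by
      rw [hb1, zero_tmul]
    have h2 : (∑ i, f (b (Sum.inl i)) ⊗ₜ[R] π (coMatrix (A := A) b (Sum.inl i) (Sum.inl j))) +
        ∑ c, f (b (Sum.inr c)) ⊗ₜ[R] π (coMatrix (A := A) b (Sum.inr c) (Sum.inl j)) = (0 : B ⊗[R] B) := h
    rw [Finset.sum_eq_zero fun i _ => hz i, zero_add] at h2
    have h' : (LinearMap.range f).subtype.rTensor B
        (∑ c, bR c ⊗ₜ[R] π (coMatrix (A := A) b (Sum.inr c) (Sum.inl j))) = 0 := by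
      rw [map_sum, ← h2]
      exact Finset.sum_congr rfl fun c _ => by rw [LinearMap.rTensor_tmul, Submodule.subtype_apply, ← hb2]
    have h'' := Module.Flat.rTensor_preserves_injective_linearMap (M := B) _ (LinearMap.range f).subtype_injective
      (h'.trans (map_zero _).symm)
    have := congrArg (fun z => TensorProduct.lid R B ((bR.coord a).rTensor B z)) h''
    simpa [Finsupp.single_apply] using this
  · refine eq_top_iff.2 (hs ▸ Algebra.adjoin_le fun x hx => ?_)
    let w : W := ⟨x, hstW (Submodule.subset_span (Finset.mem_coe.2 (Finset.mem_union_left _ hx)))⟩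
    rw [SetLike.mem_coe, show x = (w : A) from rfl, hexp w]
    exact Subalgebra.sum_mem _ fun j _ => Subalgebra.smul_mem _ (Subalgebra.sum_mem _ fun i _ =>
      Subalgebra.smul_mem _ (Algebra.subset_adjoin (Set.mem_range_self (i, j))) _) _

end Groth.Agent.Comod.LinePID
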