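import Groth.Agent.Comod.Corep
import Groth.Agent.SerreReg.Basic
import Groth.Agent.SerreReg.Regular
import Groth.Agent.SerreReg.Descent
import Mathlib.RingTheory.LocalProperties.ProjectiveDimension
import Mathlib.RingTheory.RegularLocalRing.Defs
import Mathlib.RingTheory.Flat.Basic

/-!
# Finite sets of functions on flat affine group schemes over regular rings of dimension `≤ 2`
lie in the coefficients of a matrix corepresentation
-/

universe u

open TensorProduct

noncomputable section

namespace Groth.Agent.RegTwo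

open SerreReg

variable {R : Type u} [CommRing R]

/-- Over a regular ring of dimension at most two, kernels between finite free modules are
projective. -/
lemma projective_ker [IsRegularRing R] (hdim : ringKrullDim R ≤ 2) {n m : ℕ}
    (Q : (Fin n → R) →ₗ[R] (Fin m → R)) : Module.Projective R (LinearMap.ker Q) := by
  rw [← pdLE_zero_iff]
  have hker : LinearMap.ker Q = LinearMap.ker Q.rangeRestrict := (LinearMap.ker_rangeRestrict Q).symm
  suffices PdLE R (LinearMap.ker Q.rangeRestrict) 0 from pdLE_of_equiv (LinearEquiv.ofEq _ _ hker.symm) this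
  rw [← pdLE_succ_iff Q.rangeRestrict Q.surjective_rangeRestrict]
  suffices PdLE R (LinearMap.ker (LinearMap.range Q).mkQ) (0 + 1) from
    pdLE_of_equiv (LinearEquiv.ofEq _ _ (Submodule.ker_mkQ _)) this
  rw [← pdLE_succ_iff (LinearMap.range Q).mkQ (Submodule.mkQ_surjective _)]
  refine (ModuleCat.hasProjectiveDimensionLE_iff_forall_maximalSpectrum (0 + 1 + 1) _).2 fun p => ?_
  obtain ⟨d, hd⟩ := exists_dim (Localization.AtPrime p.asIdeal)
  have hd2 : d ≤ 2 := by
    have h := ((IsLocalization.AtPrime.ringKrullDim_eq_height p.asIdeal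
      (Localization.AtPrime p.asIdeal)).le.trans
      (Ideal.height_le_ringKrullDim_of_ne_top p.isMaximal.ne_top)).trans hdim
    rw [hd] at h
    exact_mod_cast h
  exact pdLE_mono hd2 (pdLE_of_isRegularLocalRing _ d hd _)

variable {A : Type u} [CommRing A]

section Sub
variable [HopfAlgebra R A] [Module.Flat R A]

/-- Every finite set lies in a finitely generated submodule on which comultiplication restricts. -/
lemma exists_stable [IsNoetherianRing R] (F : Finset A) :
    ∃ (n : ℕ) (v : Fin n → A) (C : Matrix (Fin n) (Fin n) A),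
      (↑F : Set A) ⊆ Submodule.span R (Set.range v) ∧
      ∀ i, Coalgebra.comul (R := R) (v i) = ∑ j, C i j ⊗ₜ[R] v j := by
  classical
  choose Z hZ using fun f : A => TensorProduct.exists_finset (Coalgebra.comul (R := R) f)
  let N : Submodule R A := Submodule.span R ↑(F.biUnion fun f => (Z f).image Prod.snd)
  let ι : A ⊗[R] N →ₗ[R] A ⊗[R] A := N.subtype.lTensor A
  let Φ : A →ₗ[R] A ⊗[R] (A ⧸ N) := N.mkQ.lTensor A ∘ₗ Coalgebra.comul
  let M : Submodule R A := LinearMap.ker Φ
  have hNsat : ∀ z : A ⊗[R] A, N.mkQ.lTensor A z = 0 →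
      ∃ w : A ⊗[R] N, N.subtype.lTensor A w = z := fun z hz =>
    (lTensor_exact A (LinearMap.exact_subtype_mkQ N) N.mkQ_surjective z).1 hz
  have hMN : M ≤ N := by
    intro x hx
    obtain ⟨w, hw⟩ := hNsat _ hx
    have : x = N.subtype (TensorProduct.lid R N ((Coalgebra.counit (R := R) (A := A)).rTensor N w)) := by
      conv_lhs => rw [← (TensorProduct.lid R A).apply_symm_apply x]
      rw [TensorProduct.lid_symm_apply, ← Coalgebra.rTensor_counit_comul (R := R) x, ← hw]
      clear hw
      induction w using TensorProduct.induction_on with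
      | zero => simp
      | tmul a b => simp
      | add a b ha hb => simp only [map_add, ha, hb]
    rw [this]
    exact (TensorProduct.lid R N _).2
  have hFM : (↑F : Set A) ⊆ M := by
    intro f hf
    change N.mkQ.lTensor A (Coalgebra.comul f) = 0
    rw [hZ f, map_sum]
    refine Finset.sum_eq_zero fun p hp => ?_
    have : p.2 ∈ N := Submodule.subset_span (by
      simp only [Finset.coe_biUnion, Finset.coe_image, Set.mem_iUnion]
      exact ⟨f, hf, p, hp, rfl⟩)
    simp [(Submodule.Quotient.mk_eq_zero N).2 this]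
  have hstab : ∀ x ∈ M, ∃ w : A ⊗[R] M, M.subtype.lTensor A w = Coalgebra.comul x := by
    intro x hx
    refine (Module.Flat.lTensor_exact A (LinearMap.exact_subtype_ker_map Φ) (Coalgebra.comul x)).1 ?_
    rw [show Φ.lTensor A (Coalgebra.comul x) =
      (N.mkQ.lTensor A).lTensor A (Coalgebra.comul.lTensor A (Coalgebra.comul x)) from
        LinearMap.congr_fun (LinearMap.lTensor_comp A (N.mkQ.lTensor A) Coalgebra.comul) _,
      ← Coalgebra.coassoc_apply]
    have hc : ∀ y : A ⊗[R] A, (N.mkQ.lTensor A).lTensor A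
        (TensorProduct.assoc R A A A (Coalgebra.comul.rTensor A y)) =
        TensorProduct.assoc R A A (A ⧸ N) (Coalgebra.comul.rTensor (A ⧸ N) (N.mkQ.lTensor A y)) := by
      intro y
      induction y using TensorProduct.induction_on with
      | zero => simp
      | add a b ha hb => simp only [map_add, ha, hb]
      | tmul a b =>
        simp only [LinearMap.rTensor_tmul, LinearMap.lTensor_tmul]
        induction Coalgebra.comul (R := R) a using TensorProduct.induction_on with
        | zero => simp
        | add c d hc hd => simp only [TensorProduct.add_tmul, map_add, hc, hd]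
        | tmul c d => simp
    rw [hc, show N.mkQ.lTensor A (Coalgebra.comul x) = 0 from hx]
    simp
  have hNfg : N.FG := Submodule.fg_span (Finset.finite_toSet _)
  have : Module.Finite R N := Module.Finite.iff_fg.2 hNfg
  have hMfg : M.FG := by
    have : IsNoetherian R N := isNoetherian_of_isNoetherianRing_of_finite R N
    have h := (IsNoetherian.noetherian (M.comap N.subtype)).map N.subtype
    rwa [Submodule.map_comap_subtype, inf_eq_right.2 hMN] at h
  obtain ⟨n, v, hv⟩ := Submodule.fg_iff_exists_fin_generating_family.1 hMfg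
  have hmem : ∀ i, v i ∈ M := fun i => hv ▸ Submodule.subset_span ⟨i, rfl⟩
  have key : ∀ w : A ⊗[R] M, ∃ c : Fin n → A,
      M.subtype.lTensor A w = ∑ j, c j ⊗ₜ[R] v j := by
    intro w
    induction w using TensorProduct.induction_on with
    | zero => exact ⟨0, by simp⟩
    | add a b ha hb =>
      obtain ⟨c, hc⟩ := ha
      obtain ⟨c', hc'⟩ := hb
      exact ⟨c + c', by simp [hc, hc', TensorProduct.add_tmul, Finset.sum_add_distrib]⟩
    | tmul a b =>
      obtain ⟨r, hr⟩ := (Submodule.mem_span_range_iff_exists_fun R).1 (hv.symm ▸ b.2 :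
        (b : A) ∈ Submodule.span R (Set.range v))
      refine ⟨fun j => r j • a, ?_⟩
      simp only [LinearMap.lTensor_tmul, Submodule.coe_subtype]
      rw [← hr, TensorProduct.tmul_sum]
      simp [TensorProduct.smul_tmul]
  choose w hw using fun i => hstab (v i) (hmem i)
  choose C hC using fun i => key (w i)
  exact ⟨n, v, Matrix.of C, hv.symm ▸ hFM, fun i => by rw [← hw i]; exact hC i⟩

end Sub

/-- Exactness of scalar matrices persists after flat extension of scalars. -/
lemma exists_mulVec_eq (T : Type u) [CommRing T] [Algebra R T] [Module.Flat R T] {a b c : ℕ}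
    (P : Matrix (Fin b) (Fin a) R) (P' : Matrix (Fin c) (Fin b) R)
    (hPP : Function.Exact P.mulVecLin P'.mulVecLin) (z : Fin b → T)
    (hz : (P'.map (algebraMap R T)).mulVec z = 0) :
    ∃ y, (P.map (algebraMap R T)).mulVec y = z := by
  classical
  let e : ∀ q : ℕ, T ⊗[R] (Fin q → R) ≃ₗ[R] (Fin q → T) := fun q =>
    (TensorProduct.piScalarRight R R T (Fin q))
  have hnat : ∀ {q r : ℕ} (N : Matrix (Fin r) (Fin q) R) (y : T ⊗[R] (Fin q → R)),
      e r (N.mulVecLin.lTensor T y) = (N.map (algebraMap R T)).mulVec (e q y) := by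
    intro q r N y
    induction y using TensorProduct.induction_on with
    | zero => simp
    | add y z hy hz => simp only [map_add, hy, hz, Matrix.mulVec_add]
    | tmul t x =>
      funext i
      simp [e, Matrix.mulVec, dotProduct, Algebra.smul_def, Finset.sum_mul, Finset.mul_sum, mul_comm,
        mul_left_comm]
  have h0 : P'.mulVecLin.lTensor T ((e b).symm z) = 0 := by
    apply (e c).injective
    rw [hnat, LinearEquiv.apply_symm_apply, hz, map_zero]
  obtain ⟨y, hy⟩ := (Module.Flat.lTensor_exact T hPP _).1 h0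
  exact ⟨e a y, by rw [← hnat, hy, LinearEquiv.apply_symm_apply]⟩

/-- Functionals killing the relations pair to zero with vanishing tensors. -/
lemma pair_eq_zero [IsNoetherianRing R] (T : Type u) [CommRing T] [Algebra R T] [Module.Flat R T]
    {M : Type u} [AddCommGroup M] [Module R M] {n m : ℕ} (v : Fin n → M) (rel : Fin m → Fin n → R)
    (hrel : Submodule.span R (Set.range rel) = LinearMap.ker (Fintype.linearCombination R v))
    (x : Fin n → R) (hx : ∀ l, ∑ i, rel l i * x i = 0) (c : Fin n → T)
    (hc : ∑ q, c q ⊗ₜ[R] v q = 0) : ∑ q, c q * algebraMap R T (x q) = 0 := by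
  classical
  let L : (Fin n → R) →ₗ[R] M := Fintype.linearCombination R v
  let Rel : (Fin m → R) →ₗ[R] (Fin n → R) := Fintype.linearCombination R rel
  let ξ : (Fin n → R) →ₗ[R] R := Fintype.linearCombination R x
  let z : T ⊗[R] (Fin n → R) := ∑ q, c q ⊗ₜ[R] Pi.single q (1 : R)
  have hLc : L.lTensor T z = 0 := by
    simpa [z, L, map_sum, Fintype.linearCombination_apply, Pi.single_apply] using hc
  have hex : Function.Exact Rel L := by
    rw [LinearMap.exact_iff]
    exact (hrel.symm.trans (Fintype.range_linearCombination R rel).symm)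
  obtain ⟨y, hy⟩ := (Module.Flat.lTensor_exact T hex _).1 hLc
  have h0 : ξ ∘ₗ Rel = 0 := by
    apply LinearMap.pi_ext'
    intro l'
    ext
    simpa [ξ, Rel, Fintype.linearCombination_apply, Pi.single_apply] using hx l'
  have h1 : ξ.lTensor T z = 0 := by
    rw [← hy, ← LinearMap.comp_apply, ← LinearMap.lTensor_comp, h0, LinearMap.lTensor_zero,
      LinearMap.zero_apply]
  have h2 := congrArg (TensorProduct.rid R T) h1
  simpa [z, ξ, map_sum, Fintype.linearCombination_apply, Pi.single_apply, Algebra.smul_def,
    mul_comm] using h2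

open Matrix in
/-- Every finite set lies in the algebra of coefficients of a matrix corepresentation. -/
theorem exists_corep [IsRegularRing R] (hdim : ringKrullDim R ≤ 2) [HopfAlgebra R A]
    [Module.Flat R A] (F : Finset A) :
    ∃ (d : ℕ) (a : Matrix (Fin d) (Fin d) A), Comod.IsCorep (k := R) a ∧
      (↑F : Set A) ⊆ Algebra.adjoin R (Set.range fun p : Fin d × Fin d => a p.1 p.2) := by
  classical
  obtain ⟨n, v, C, hF, hC⟩ := exists_stable (R := R) F
  -- relations between the `v i` and their annihilator
  let L : (Fin n → R) →ₗ[R] A := Fintype.linearCombination R v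
  obtain ⟨m, rel, hrel⟩ := Submodule.fg_iff_exists_fin_generating_family.1
    (IsNoetherian.noetherian (LinearMap.ker L))
  have hrel0 : ∀ l, ∑ i, rel l i • v i = 0 := fun l => by
    have : rel l ∈ LinearMap.ker L := hrel ▸ Submodule.subset_span ⟨l, rfl⟩
    simpa [L, Fintype.linearCombination_apply] using this
  let Q : (Fin n → R) →ₗ[R] (Fin m → R) := Matrix.mulVecLin (Matrix.of rel)
  let K := LinearMap.ker Q
  have : Module.Projective R K := projective_ker hdim Q
  -- a frame for `K`
  obtain ⟨d, π, hπ⟩ := Module.Finite.exists_fin' R K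
  obtain ⟨σ, hσ⟩ := Module.projective_lifting_property π LinearMap.id hπ
  have hσ' : ∀ y, π (σ y) = y := fun y => LinearMap.congr_fun hσ y
  let X : Matrix (Fin n) (Fin d) R := LinearMap.toMatrix' (K.subtype ∘ₗ π)
  let E : Matrix (Fin d) (Fin d) R := LinearMap.toMatrix' (σ ∘ₗ π)
  have hXE : X * E = X := by
    simp only [X, E, ← LinearMap.toMatrix'_comp]
    exact congrArg _ (LinearMap.ext fun z => by simp [hσ'])
  have hEE : E * E = E := by
    simp only [E, ← LinearMap.toMatrix'_comp]
    exact congrArg _ (LinearMap.ext fun z => by simp [hσ'])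
  have hQX : Matrix.of rel * X = 0 := by
    have : Q ∘ₗ (K.subtype ∘ₗ π) = 0 := LinearMap.ext fun z => (π z).2
    have h2 := congrArg LinearMap.toMatrix' this
    rw [LinearMap.toMatrix'_comp, map_zero, show LinearMap.toMatrix' Q = Matrix.of rel from
      LinearMap.toMatrix'_toLin' _] at h2
    exact h2
  -- kernels after extension of scalars to a flat algebra
  have hexX : Function.Exact (K.subtype ∘ₗ π) Q := by
    intro z
    refine ⟨fun hz => ?_, fun ⟨y, hy⟩ => by rw [← hy]; exact (π y).2⟩
    obtain ⟨y, hy⟩ := hπ ⟨z, hz⟩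
    exact ⟨y, by simp [hy]⟩
  have hexE : Function.Exact (1 - E).mulVecLin X.mulVecLin := by
    intro z
    constructor
    · intro hz
      refine ⟨z, ?_⟩
      have hπz : π z = 0 := by
        apply Subtype.ext
        simpa [X] using hz
      have : E *ᵥ z = 0 := by
        rw [LinearMap.toMatrix'_mulVec, LinearMap.comp_apply, hπz, map_zero]
      simp [Matrix.sub_mulVec, this]
    · rintro ⟨y, rfl⟩
      rw [Matrix.mulVecLin_apply, Matrix.mulVecLin_apply, Matrix.mulVec_mulVec, Matrix.mul_sub, hXE]
      simp
  have hexX' : Function.Exact X.mulVecLin (Matrix.of rel).mulVecLin := by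
    rwa [show X.mulVecLin = K.subtype ∘ₗ π from Matrix.toLin'_toMatrix' _]
  let Xa := X.map (algebraMap R A)
  let Ea := E.map (algebraMap R A)
  have hXrel : ∀ (j : Fin d) l, ∑ i, rel l i * X i j = 0 := fun j l => by
    simpa [Matrix.mul_apply] using congrFun (congrFun hQX l) j
  have hCXj : ∀ j, ∃ y : Fin d → A, Xa.mulVec y = fun i => (C * Xa) i j := by
    intro j
    refine exists_mulVec_eq A X (Matrix.of rel) hexX' _ ?_
    funext l
    have hz : ∑ q, (∑ i, rel l i • C i q) ⊗ₜ[R] v q = 0 := by
      have := congrArg (Coalgebra.comul (R := R) (A := A)) (hrel0 l)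
      simp only [map_sum, map_smul, hC, Finset.smul_sum, TensorProduct.smul_tmul', map_zero] at this
      rw [Finset.sum_comm] at this
      simpa only [← TensorProduct.sum_tmul] using this
    have h2 := pair_eq_zero A v rel hrel (fun i => X i j) (hXrel j) _ hz
    simp only [Matrix.mulVec, dotProduct, Matrix.map_apply, Matrix.of_apply, Pi.zero_apply,
      Matrix.mul_apply, Xa, Finset.mul_sum]
    rw [Finset.sum_comm]
    refine Eq.trans (Finset.sum_congr rfl fun q _ => ?_) h2
    rw [Finset.sum_mul]
    exact Finset.sum_congr rfl fun i _ => by rw [Algebra.smul_def]; ring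
  choose y hy using hCXj
  let B : Matrix (Fin d) (Fin d) A := Ea * (Matrix.of fun i j => y j i) * Ea
  have hXEa : Xa * Ea = Xa := by simp only [Xa, Ea, ← Matrix.map_mul, hXE]
  have hEEa : Ea * Ea = Ea := by simp only [Ea, ← Matrix.map_mul, hEE]
  have hXB : Xa * B = C * Xa := by
    have h : Xa * (Matrix.of fun i j => y j i) = C * Xa := by
      ext i j
      have := congrFun (hy j) i
      simpa [Matrix.mul_apply, Matrix.mulVec, dotProduct] using this
    simp only [B, ← Matrix.mul_assoc, hXEa, h]
    rw [Matrix.mul_assoc, hXEa]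
  have hEB : Ea * B = B := by simp only [B, ← Matrix.mul_assoc, hEEa]
  have hBE : B * Ea = B := by simp only [B, Matrix.mul_assoc, hEEa]
  -- matrices killed by `X` are killed by `E`
  have hkill : ∀ (T : Type u) [CommRing T] [Algebra R T] [Module.Flat R T]
      (Z : Matrix (Fin d) (Fin d) T), X.map (algebraMap R T) * Z = 0 →
      E.map (algebraMap R T) * Z = 0 := by
    intro T _ _ _ Z hZ
    have hcol : ∀ j, E.map (algebraMap R T) *ᵥ (fun i => Z i j) = 0 := by
      intro j
      obtain ⟨w, hw⟩ := exists_mulVec_eq T (1 - E) X hexE (fun i => Z i j)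
        (funext fun i => congrFun (congrFun hZ i) j)
      rw [← hw, Matrix.mulVec_mulVec, ← Matrix.map_mul]
      simp [Matrix.mul_sub, hEE]
    ext i j
    exact congrFun (hcol j) i
  let i₁ : A →ₐ[R] A ⊗[R] A := Algebra.TensorProduct.includeLeft
  let i₂ : A →ₐ[R] A ⊗[R] A := Algebra.TensorProduct.includeRight
  let Δ := Bialgebra.comulAlgHom R A
  let ε := Bialgebra.counitAlgHom R A
  have hmap : ∀ {T : Type u} [CommRing T] [Algebra R T] {a b : ℕ} (f : A →ₐ[R] T)
      (N : Matrix (Fin a) (Fin b) R),
      (N.map (algebraMap R A)).map f = N.map (algebraMap R T) := by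
    intros; ext; simp
  have hΔCX : (C * Xa).map Δ = C.map i₁ * (C * Xa).map i₂ := by
    rw [Matrix.map_mul, Matrix.map_mul, hmap, hmap, ← Matrix.mul_assoc]
    ext i j
    have hz : ∑ q, (Δ (C i q) - (C.map i₁ * C.map i₂) i q) ⊗ₜ[R] v q = 0 := by
      have h := Coalgebra.coassoc_symm_apply (R := R) (v i)
      rw [hC] at h
      simp only [map_sum, LinearMap.lTensor_tmul, LinearMap.rTensor_tmul, hC, TensorProduct.tmul_sum,
        TensorProduct.assoc_symm_tmul] at h
      rw [Finset.sum_comm] at h
      simp only [TensorProduct.sub_tmul, Finset.sum_sub_distrib, sub_eq_zero]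
      refine h.symm.trans (Finset.sum_congr rfl fun q _ => ?_)
      simp [Matrix.mul_apply, i₁, i₂, TensorProduct.sum_tmul]
    have h2 := pair_eq_zero (A ⊗[R] A) v rel hrel (fun q => X q j) (hXrel j) _ hz
    rw [← sub_eq_zero]
    simpa [Matrix.mul_apply, sub_mul, Finset.sum_sub_distrib, Δ] using h2
  have hεCX : (C * Xa).map ε = X := by
    rw [Matrix.map_mul, hmap]
    ext i j
    have hz : ∑ q, (ε (C i q) - (1 : Matrix (Fin n) (Fin n) R) i q) ⊗ₜ[R] v q = 0 := by
      have h := Coalgebra.rTensor_counit_comul (R := R) (v i)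
      rw [hC] at h
      simp only [map_sum, LinearMap.rTensor_tmul] at h
      simp only [TensorProduct.sub_tmul, Finset.sum_sub_distrib, sub_eq_zero]
      refine h.trans ?_
      rw [Finset.sum_eq_single i (fun q _ hq => by simp [Matrix.one_apply_ne' hq]) (by simp)]
      simp
    have h2 := pair_eq_zero R v rel hrel (fun q => X q j) (hXrel j) _ hz
    simp [sub_mul, Finset.sum_sub_distrib, Matrix.one_apply, sub_eq_zero] at h2
    simpa [Matrix.mul_apply, ε] using h2
  -- `B` is a corepresentation relative to `E`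
  have hEmap : ∀ {T : Type u} [CommRing T] [Algebra R T] (f : A →ₐ[R] T),
      Ea.map f = E.map (algebraMap R T) := fun f => hmap f E
  have hΔB : B.map Δ = B.map i₁ * B.map i₂ := by
    have hX : X.map (algebraMap R (A ⊗[R] A)) * (B.map Δ - B.map i₁ * B.map i₂) = 0 := by
      rw [Matrix.mul_sub, sub_eq_zero]
      have h1 : X.map (algebraMap R (A ⊗[R] A)) * B.map Δ = (C * Xa).map Δ := by
        rw [← hmap Δ X, ← Matrix.map_mul]; exact congrArg (·.map Δ) hXB
      rw [h1, hΔCX, ← hXB, Matrix.map_mul (f := i₂), hmap, ← Matrix.mul_assoc,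
        ← Matrix.mul_assoc, ← hmap i₁ X, ← Matrix.map_mul (f := i₁), ← Matrix.map_mul (f := i₁)]
      exact congrArg (fun M : Matrix (Fin n) (Fin d) A => M.map i₁ * B.map i₂) hXB.symm
    have h2 := hkill _ _ hX
    rw [Matrix.mul_sub, sub_eq_zero, ← Matrix.mul_assoc] at h2
    nth_rw 1 [← hEmap Δ] at h2
    rw [← hEmap i₁, ← Matrix.map_mul, ← Matrix.map_mul, hEB] at h2
    exact h2
  have hεB : B.map ε = E := by
    have hX : X.map (algebraMap R R) * (B.map ε - E) = 0 := by
      rw [Matrix.mul_sub, sub_eq_zero, ← hmap ε X, ← Matrix.map_mul]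
      refine (congrArg (·.map ε) hXB).trans (hεCX.trans ?_)
      rw [hmap]
      simp [hXE]
    have h2 := hkill R _ hX
    rw [Matrix.mul_sub, sub_eq_zero] at h2
    nth_rw 1 [← hEmap ε] at h2
    rw [← Matrix.map_mul, hEB] at h2
    simpa [hEE] using h2
  -- complete `B` to a corepresentation
  let a : Matrix (Fin d) (Fin d) A := B + (1 - Ea)
  have hEι : ∀ {T : Type u} [CommRing T] [Algebra R T] (f : A →ₐ[R] T),
      (1 - Ea).map f = 1 - E.map (algebraMap R T) := fun f => by
    rw [Matrix.map_sub _ (map_sub f), Matrix.map_one _ (map_zero f) (map_one f), hEmap]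
  refine ⟨d, a, ⟨?_, ?_⟩, ?_⟩
  · have hl : ∀ f : A →ₐ[R] A ⊗[R] A, E.map (algebraMap R (A ⊗[R] A)) * B.map f = B.map f :=
      fun f => by rw [← hEmap f, ← Matrix.map_mul, hEB]
    have hr : ∀ f : A →ₐ[R] A ⊗[R] A, B.map f * E.map (algebraMap R (A ⊗[R] A)) = B.map f :=
      fun f => by rw [← hEmap f, ← Matrix.map_mul, hBE]
    have hE2 : E.map (algebraMap R (A ⊗[R] A)) * E.map (algebraMap R (A ⊗[R] A)) =
        E.map (algebraMap R (A ⊗[R] A)) := by rw [← Matrix.map_mul, hEE]
    change (B + (1 - Ea)).map Δ = (B + (1 - Ea)).map i₁ * (B + (1 - Ea)).map i₂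
    simp only [Matrix.map_add _ (map_add _), hEι, hΔB, add_mul, mul_add, sub_mul, mul_sub, one_mul,
      mul_one, hl, hr, hE2]
    abel
  · change (B + (1 - Ea)).map ε = 1
    rw [Matrix.map_add _ (map_add ε), hεB, hEι]
    simp
  · let Al := Algebra.adjoin R (Set.range fun p : Fin d × Fin d => a p.1 p.2)
    have hBmem : ∀ p q, B p q ∈ Al := fun p q => by
      have : B p q = a p q - (1 - Ea) p q := by simp [a]
      rw [this]
      refine sub_mem (Algebra.subset_adjoin ⟨(p, q), rfl⟩) ?_
      simp only [Matrix.sub_apply, Matrix.one_apply, Ea, Matrix.map_apply]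
      split <;> simp [Subalgebra.algebraMap_mem, sub_mem, one_mem]
    -- the counit, as a functional in `K`
    let e0 : Fin n → R := fun i => ε (v i)
    have he0 : e0 ∈ K := by
      change (Matrix.of rel).mulVecLin e0 = 0
      funext l
      have := congrArg ε (hrel0 l)
      simpa [e0, Matrix.mulVec, dotProduct] using this
    obtain ⟨z, hz⟩ := hπ ⟨e0, he0⟩
    have hXz : X *ᵥ z = e0 := by
      rw [LinearMap.toMatrix'_mulVec, LinearMap.comp_apply, hz]; rfl
    have hv : ∀ i, v i = ((Xa * B) *ᵥ fun q => algebraMap R A (z q)) i := by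
      intro i
      rw [hXB, ← Matrix.mulVec_mulVec]
      have : (Xa *ᵥ fun q => algebraMap R A (z q)) = fun q => algebraMap R A (e0 q) := by
        funext q
        rw [← hXz]
        exact (RingHom.map_mulVec (algebraMap R A) X z q).symm
      rw [this]
      have h := Coalgebra.lTensor_counit_comul (R := R) (v i)
      rw [hC] at h
      have h2 := congrArg (TensorProduct.rid R A) h
      simp only [map_sum, LinearMap.lTensor_tmul, TensorProduct.rid_tmul, one_smul] at h2
      rw [← h2]
      exact Finset.sum_congr rfl fun q _ => by simp [e0, ε, Algebra.smul_def, mul_comm]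
    refine hF.trans (Submodule.span_le (p := Subalgebra.toSubmodule Al) |>.2 ?_)
    rintro _ ⟨i, rfl⟩
    change v i ∈ Al
    rw [hv]
    simp only [Matrix.mulVec, dotProduct, Matrix.mul_apply, Xa, Matrix.map_apply]
    exact sum_mem fun q _ => mul_mem (sum_mem fun p _ =>
      mul_mem (Subalgebra.algebraMap_mem _ _) (hBmem _ _)) (Subalgebra.algebraMap_mem _ _)

end Groth.Agent.RegTwo
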