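import Groth.Agent.Comod.DualModule
import Mathlib.LinearAlgebra.DFinsupp
import Mathlib.LinearAlgebra.Finsupp.VectorSpace

/-!
# Semisimple comodules and cosemisimple coalgebras over a field
-/

universe u v w w'
open TensorProduct
noncomputable section

namespace Groth.Agent.Comod

variable {K : Type u} [Field K] {C : Type v} [AddCommGroup C] [Module K C] [Coalgebra K C]
variable {V : Type w} [AddCommGroup V] [Module K V] [HopfRep.Comod K C V]

local notation "ρ" => HopfRep.Comod.coact (k := K) (A := C)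

variable (K C) in
/-- A simple subcoalgebra. -/
def IsSimpleSubcoalg (D : Submodule K C) : Prop :=
  D ≠ ⊥ ∧ (∀ b ∈ D, CoalgebraStruct.comul (R := K) b ∈
    LinearMap.range (TensorProduct.map D.subtype D.subtype)) ∧
  ∀ B : Submodule K C, B ≤ D → (∀ b ∈ B, CoalgebraStruct.comul (R := K) b ∈
    LinearMap.range (TensorProduct.map B.subtype B.subtype)) → B = ⊥ ∨ B = D

lemma isSimpleSubcoalg_cf (S : Submodule (CDual K C) V) [IsSimpleModule (CDual K C) S] :
    IsSimpleSubcoalg K C (cf (C := C) (ofDSub S)) :=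
  ⟨(cf_simple S).1, isSubcoalgebra_cf (isSubcomod_ofDSub S), (cf_simple S).2⟩

/-- The submodule over the dual algebra attached to a subcoalgebra. -/
def coalgDSub {D : Submodule K C} (hD : IsSimpleSubcoalg K C D) : Submodule (CDual K C) C :=
  subEquiv K C C ⟨D, isSubcomod_of_subcoalgebra hD.2.1⟩

lemma exists_simple_cf_eq {D : Submodule K C} (hD : IsSimpleSubcoalg K C D) :
    ∃ T ≤ coalgDSub hD, IsSimpleModule (CDual K C) T ∧ Module.Finite K (ofDSub T) ∧
      cf (V := C) (C := C) (ofDSub T) = D := by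
  obtain ⟨T, hT, hTs, hfin⟩ := exists_simple_le (S := coalgDSub hD)
    (fun h => hD.1 (congrArg ofDSub h))
  refine ⟨T, hT, hTs, hfin, (hD.2.2 _ (cf_le_subcoalgebra hT hD.2.1)
    (isSubcoalgebra_cf (isSubcomod_ofDSub T))).resolve_left (cf_simple T).1⟩

lemma isSemisimpleModule_coalgDSub {D : Submodule K C} (hD : IsSimpleSubcoalg K C D) :
    IsSemisimpleModule (CDual K C) (coalgDSub hD) := by
  obtain ⟨T, -, hTs, -, hT⟩ := exists_simple_cf_eq hD
  let s : Set (Submodule (CDual K C) C) :=
    {m | IsSimpleModule (CDual K C) m ∧ Nonempty (T ≃ₗ[CDual K C] m)}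
  have hle : coalgDSub hD ≤ sSup s := fun x hx => by
    have : x ∈ cf (V := C) (C := C) (ofDSub T) := hT.symm ▸ hx
    exact cf_le_sSup_copies T this
  have : IsSemisimpleModule (CDual K C) ↥(⨆ m ∈ s, m) :=
    isSemisimpleModule_biSup_of_isSemisimpleModule_submodule fun m hm =>
      have := hm.1; inferInstance
  rw [← sSup_eq_iSup] at this
  exact @IsSemisimpleModule.of_injective (CDual K C) _ (sSup s : Submodule (CDual K C) C) _ _ (coalgDSub hD) _ _ this
    (Submodule.inclusion hle) (Submodule.inclusion_injective hle)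

lemma iSup_coalgDSub {ι : Sort*} {D : ι → Submodule K C} (hD : ∀ i, IsSimpleSubcoalg K C (D i))
    (htop : iSup D = ⊤) : (⨆ i, coalgDSub (hD i)) = ⊤ := by
  rw [← ofDSub_eq_top, eq_top_iff, ← htop, iSup_le_iff]
  exact fun i x hx => Submodule.mem_iSup_of_mem (p := fun i => coalgDSub (hD i)) i hx

/-- A sum of simple subcoalgebras is semisimple as a comodule. -/
lemma isSemisimple_regular {ι : Type*} {D : ι → Submodule K C}
    (hD : ∀ i, IsSimpleSubcoalg K C (D i)) (htop : iSup D = ⊤) :
    IsSemisimpleModule (CDual K C) C :=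
  isSemisimpleModule_of_isSemisimpleModule_submodule' (fun i => isSemisimpleModule_coalgDSub (hD i))
    (iSup_coalgDSub hD htop)

/-- If the coalgebra is semisimple, every comodule is. -/
lemma isSemisimple_of_regular [IsSemisimpleModule (CDual K C) C] :
    IsSemisimpleModule (CDual K C) V := by
  classical
  let b := Module.Free.chooseBasis K V
  let e := TensorProduct.equivFinsuppOfBasisLeft b (N := C)
  have key : ∀ (t : V ⊗[K] C) i, e t i = cL (b.coord i) t := by
    intro t i
    induction t using TensorProduct.induction_on with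
    | zero => simp
    | tmul x y => simp [e, TensorProduct.equivFinsuppOfBasisLeft_apply_tmul_apply]
    | add x y hx hy => simp [hx, hy]
  let Φ : V →ₗ[CDual K C] (Module.Free.ChooseBasisIndex K V →₀ C) :=
    { toFun := fun v => e (ρ v)
      map_add' := fun x y => by simp
      map_smul' := fun f v => Finsupp.ext fun i => by
        rw [RingHom.id_apply, Finsupp.smul_apply, key, key, dmod_smul, dmod_smul]
        exact (coeff_smul f _ v).symm }
  have hΦ : Function.Injective Φ := fun x y h => by
    refine b.ext_elem fun i => ?_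
    have h' : cL (b.coord i) (ρ x) = cL (b.coord i) (ρ y) := by
      rw [← key, ← key]; exact congrArg (fun z => z i) h
    have := congrArg (1 : CDual K C).ofConv h'
    rw [apply_cL_coact, apply_cL_coact, map_one] at this
    exact this
  have : IsSemisimpleModule (CDual K C) (Π₀ _ : Module.Free.ChooseBasisIndex K V, C) := inferInstance
  have : IsSemisimpleModule (CDual K C) (Module.Free.ChooseBasisIndex K V →₀ C) :=
    IsSemisimpleModule.congr (finsuppLequivDFinsupp (CDual K C))
  exact IsSemisimpleModule.of_injective Φ hΦ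

/-- A simple submodule of a sum of simple subcoalgebras sits in one of them up to isomorphism. -/
lemma eq_of_simple_le {s : Set (Submodule K C)} (hs : ∀ D ∈ s, IsSimpleSubcoalg K C D)
    {D : Submodule K C} (hD : IsSimpleSubcoalg K C D) (hle : D ≤ sSup s) : D ∈ s := by
  obtain ⟨T, hTD, hTs, -, hT⟩ := exists_simple_cf_eq hD
  let s' : Set (Submodule (CDual K C) C) := {m | ∃ E : s, coalgDSub (hs E E.2) = m}
  have : ∀ m : s', IsSemisimpleModule (CDual K C) (m : Submodule (CDual K C) C) := by
    rintro ⟨m, E, rfl⟩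
    exact isSemisimpleModule_coalgDSub (hs E E.2)
  have hle' : T ≤ sSup s' := by
    intro x hx
    have : ofDSub (sSup s') ≥ sSup s := by
      refine sSup_le fun E hE => ?_
      exact fun y hy => (le_sSup (show coalgDSub (hs E hE) ∈ s' from ⟨⟨E, hE⟩, rfl⟩)) hy
    exact this (hle (hTD hx))
  obtain ⟨m, ⟨⟨E, hE⟩, rfl⟩, S, hSE, ⟨e⟩⟩ := T.le_linearEquiv_of_le_sSup _ hle'
  have hSs : IsSimpleModule (CDual K C) S := @IsSimpleModule.congr (CDual K C) _ S _ _ T _ _ e.symm hTs
  have h1 : cf (V := C) (C := C) (ofDSub S) ≤ E := cf_le_subcoalgebra hSE (hs E hE).2.1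
  have h2 := ((hs E hE).2.2 _ h1 (isSubcoalgebra_cf (isSubcomod_ofDSub S))).resolve_left (cf_simple S).1
  rw [← hT, cf_congr T S e, h2]
  exact hE

lemma isSubcoalgebra_inf {B D : Submodule K C}
    (hB : ∀ b ∈ B, CoalgebraStruct.comul (R := K) b ∈ LinearMap.range (TensorProduct.map B.subtype B.subtype))
    (hD : ∀ b ∈ D, CoalgebraStruct.comul (R := K) b ∈ LinearMap.range (TensorProduct.map D.subtype D.subtype)) :
    ∀ b ∈ B ⊓ D, CoalgebraStruct.comul (R := K) b ∈
      LinearMap.range (TensorProduct.map (B ⊓ D).subtype (B ⊓ D).subtype) := fun b hb => by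
  have h1 := (mem_range_map_iff _ _ _).mp (hB b hb.1)
  have h2 := (mem_range_map_iff _ _ _).mp (hD b hb.2)
  exact (mem_range_map_iff _ _ _).mpr ⟨fun f => ⟨h1.1 f, h2.1 f⟩, fun φ => ⟨h1.2 φ, h2.2 φ⟩⟩

lemma isSubcoalgebra_sSup {s : Set (Submodule K C)}
    (hs : ∀ D ∈ s, ∀ b ∈ D, CoalgebraStruct.comul (R := K) b ∈
      LinearMap.range (TensorProduct.map D.subtype D.subtype)) :
    ∀ b ∈ sSup s, CoalgebraStruct.comul (R := K) b ∈
      LinearMap.range (TensorProduct.map (sSup s).subtype (sSup s).subtype) := by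
  intro b hb
  refine (?_ : sSup s ≤ (LinearMap.range (TensorProduct.map (sSup s).subtype (sSup s).subtype)).comap
    (CoalgebraStruct.comul (R := K))) hb
  refine sSup_le fun D hD x hx => Submodule.mem_comap.mpr ?_
  have h := (mem_range_map_iff _ _ _).mp (hs D hD x hx)
  exact (mem_range_map_iff _ _ _).mpr ⟨fun f => le_sSup hD (h.1 f), fun φ => le_sSup hD (h.2 φ)⟩

/-- Distinct simple subcoalgebras are independent. -/
lemma sSupIndep_simpleSubcoalg :
    sSupIndep {D : Submodule K C | IsSimpleSubcoalg K C D} := by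
  intro D hD
  have hD' : IsSimpleSubcoalg K C D := hD
  rw [disjoint_iff]
  have hs : ∀ E ∈ {D : Submodule K C | IsSimpleSubcoalg K C D} \ {D}, IsSimpleSubcoalg K C E :=
    fun E hE => hE.1
  refine (hD'.2.2 _ inf_le_left (isSubcoalgebra_inf hD'.2.1
    (isSubcoalgebra_sSup fun E hE => (hs E hE).2.1))).resolve_right fun h => ?_
  exact (eq_of_simple_le hs hD' (inf_eq_left.mp h)).2 rfl

variable (K C) in
/-- Cosemisimplicity in terms of the regular comodule. -/
theorem cosemisimple_iff :
    (∃ (ι : Type v) (D : ι → Submodule K C), iSupIndep D ∧ iSup D = ⊤ ∧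
      ∀ i, IsSimpleSubcoalg K C (D i)) ↔ IsSemisimpleModule (CDual K C) C := by
  constructor
  · rintro ⟨ι, D, -, htop, hD⟩
    exact isSemisimple_regular hD htop
  · intro h
    refine ⟨{D : Submodule K C // IsSimpleSubcoalg K C D}, fun D => D.1,
      (sSupIndep_iff _).mp sSupIndep_simpleSubcoalg, ?_, fun D => D.2⟩
    rw [eq_top_iff]
    intro x _
    have hx : x ∈ sSup {m : Submodule (CDual K C) C | IsSimpleModule (CDual K C) m} := by
      rw [IsSemisimpleModule.sSup_simples_eq_top]; trivial
    refine (?_ : ofDSub (sSup {m : Submodule (CDual K C) C | IsSimpleModule (CDual K C) m}) ≤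
      ⨆ D : {D : Submodule K C // IsSimpleSubcoalg K C D}, D.1) hx
    intro y hy
    rw [mem_ofDSub, sSup_eq_iSup'] at hy
    induction hy using Submodule.iSup_induction' with
    | mem m y hy =>
      have : IsSimpleModule (CDual K C) m.1 := m.2
      exact Submodule.mem_iSup_of_mem (p := fun D : {D : Submodule K C // IsSimpleSubcoalg K C D} => D.1)
        ⟨_, isSimpleSubcoalg_cf m.1⟩ (counit_mem_cf hy)
    | zero => exact zero_mem _
    | add a b _ _ ha hb => exact add_mem ha hb

end Groth.Agent.Comod
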